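import Mathlib

/-!
# Two elements of order three whose product has order three

If `x³ = y³ = (xy)³ = 1` then `u = x⁻¹y` and its conjugate `x⁻¹ux` commute, so they generate an
abelian subgroup normalised by `x`.
-/

set_option autoImplicit false

namespace Cfsg.Agent.Solv.ThreeLocal

variable {G : Type*} [Group G]

/-- If `x` of cube one acts on an abelian subgroup without fixed elements of order three, then an
element of trivial norm is a commutator with `x`. -/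
theorem exists_conj_of_norm_one [Finite G] {A : Subgroup G} (hA : ∀ a ∈ A, ∀ b ∈ A, a * b = b * a)
    {x : G} (hx : x ^ 3 = 1) (hxA : ∀ a ∈ A, x⁻¹ * a * x ∈ A)
    (hfix : ∀ w ∈ A, w * x = x * w → w ^ 3 = 1 → w = 1) {a : G} (ha : a ∈ A)
    (hn : a * (x⁻¹ * a * x) * (x⁻¹ * (x⁻¹ * a * x) * x) = 1) :
    ∃ b ∈ A, b⁻¹ * x * b = x * a := by
  haveI : IsMulCommutative A := ⟨⟨fun p q => Subtype.ext (hA _ p.2 _ q.2)⟩⟩
  let ψ : A →* A :=
    { toFun := fun b => ⟨(x⁻¹ * b * x)⁻¹ * b, A.mul_mem (A.inv_mem (hxA _ b.2)) b.2⟩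
      map_one' := Subtype.ext (by simp)
      map_mul' := fun p q => Subtype.ext (by
        have h1 := hA _ (A.inv_mem (hxA _ p.2)) _ (A.inv_mem (hxA _ q.2))
        have h2 := hA _ (A.inv_mem (hxA _ q.2)) _ p.2
        simp only [Subgroup.coe_mul]
        calc (x⁻¹ * ((p : G) * q) * x)⁻¹ * ((p : G) * q)
            = ((x⁻¹ * q * x)⁻¹ * (x⁻¹ * p * x)⁻¹) * ((p : G) * q) := by group
          _ = ((x⁻¹ * p * x)⁻¹ * (x⁻¹ * q * x)⁻¹) * ((p : G) * q) := by rw [h1]
          _ = (x⁻¹ * p * x)⁻¹ * ((x⁻¹ * q * x)⁻¹ * p) * q := by simp only [mul_assoc]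
          _ = (x⁻¹ * p * x)⁻¹ * ((p : G) * (x⁻¹ * q * x)⁻¹) * q := by rw [h2]
          _ = _ := by simp only [mul_assoc]) }
  suffices (⟨a, ha⟩ : A) ∈ ψ.range by
    obtain ⟨b, hb⟩ := this
    refine ⟨b, b.2, ?_⟩
    rw [← show (x⁻¹ * (b : G) * x)⁻¹ * b = a from congrArg Subtype.val hb]
    group
  have hker : ¬ 3 ∣ Nat.card ψ.ker := by
    intro hd
    haveI : Fact (Nat.Prime 3) := ⟨Nat.prime_three⟩
    obtain ⟨w, hw⟩ := exists_prime_orderOf_dvd_card' (G := ψ.ker) 3 hd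
    have h1 : (x⁻¹ * ((w : A) : G) * x)⁻¹ * ((w : A) : G) = 1 :=
      congrArg Subtype.val (MonoidHom.mem_ker.1 w.2)
    have h2 : ((w : A) : G) ^ 3 = 1 := by
      have := pow_orderOf_eq_one w
      rw [hw] at this
      exact congrArg (fun t : ψ.ker => ((t : A) : G)) this
    have h3 : ((w : A) : G) = 1 := by
      refine hfix _ (w : A).2 ?_ h2
      rw [inv_mul_eq_one] at h1
      calc ((w : A) : G) * x = x * (x⁻¹ * ((w : A) : G) * x) := by group
        _ = x * ((w : A) : G) := by rw [h1]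
    rw [show w = 1 from Subtype.ext (Subtype.ext h3), orderOf_one] at hw
    norm_num at hw
  have hidx : ψ.range.index = Nat.card ψ.ker := by
    have h1 := ψ.range.card_mul_index
    have h2 : Nat.card ψ.range * Nat.card ψ.ker = Nat.card A := by
      rw [← Nat.card_congr (QuotientGroup.quotientKerEquivRange ψ).toEquiv,
        ← Subgroup.card_eq_card_quotient_mul_card_subgroup]
    rw [← h2] at h1
    exact Nat.eq_of_mul_eq_mul_left Nat.card_pos h1
  have hcube : (⟨a, ha⟩ : A) ^ 3 ∈ ψ.range := by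
    set a1 : A := ⟨x⁻¹ * a * x, hxA _ ha⟩ with ha1
    set a2 : A := ⟨x⁻¹ * (x⁻¹ * a * x) * x, hxA _ (hxA _ ha)⟩ with ha2
    have e1 : (⟨a, ha⟩ : A) * a1 * a2 = 1 := Subtype.ext hn
    have e2 : ψ ⟨a, ha⟩ = a1⁻¹ * ⟨a, ha⟩ := Subtype.ext rfl
    have e3 : ψ a1 = a2⁻¹ * a1 := Subtype.ext rfl
    have e4 : (⟨a, ha⟩ : A) ^ 3 = ψ ⟨a, ha⟩ * (ψ ⟨a, ha⟩ * ψ a1) * (⟨a, ha⟩ * a1 * a2) := by
      have hc : ∀ p q : A, p * q = q * p := fun p q => Subtype.ext (hA _ p.2 _ q.2)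
      letI : CommGroup A := { (inferInstance : Group A) with mul_comm := hc }
      rw [e2, e3, ← zpow_natCast]
      refine (eq_of_div_eq_one ?_).symm
      simp only [div_eq_mul_inv, mul_inv_rev, inv_inv]
      rw [zpow_natCast, pow_succ, pow_two]
      simp [mul_comm, mul_left_comm]
    rw [e4, e1, mul_one]
    exact mul_mem ⟨_, rfl⟩ (mul_mem ⟨_, rfl⟩ ⟨_, rfl⟩)
  have hk : (⟨a, ha⟩ : A) ^ ψ.range.index ∈ ψ.range := by
    haveI : ψ.range.Normal := ⟨fun n hn g => by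
      rwa [show g * n * g⁻¹ = n from Subtype.ext (by
        simp only [Subgroup.coe_mul, Subgroup.coe_inv]
        rw [hA _ g.2 _ n.2, mul_inv_cancel_right])]⟩
    exact Subgroup.pow_index_mem _ _
  have hco : Nat.Coprime 3 ψ.range.index :=
    (Nat.Prime.coprime_iff_not_dvd Nat.prime_three).2 (hidx ▸ hker)
  have hb := Nat.gcd_eq_gcd_ab 3 ψ.range.index
  rw [hco.gcd_eq_one] at hb
  rw [← zpow_one (⟨a, ha⟩ : A), show (1 : ℤ) = _ from hb, zpow_add, zpow_mul, zpow_mul, zpow_natCast,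
    zpow_natCast]
  exact mul_mem (zpow_mem hcube _) (zpow_mem hk _)

/-- The triangle lemma. -/
theorem triangle [Finite G] {x y : G} (hx : x ^ 3 = 1) (hy : y ^ 3 = 1) (hxy : (x * y) ^ 3 = 1) :
    (∃ w : G, w ≠ 1 ∧ w ^ 3 = 1 ∧ w * x = x * w ∧ w * y = y * w) ∨
      (IsConj x y ∧ IsConj (x ^ 2) (x * y)) := by
  set u := x⁻¹ * y with hu
  set u' := x⁻¹ * u * x with hu'
  set u'' := x⁻¹ * u' * x with hu''
  have hx2 : x⁻¹ = x * x := inv_eq_of_mul_eq_one_right (by rw [← hx, pow_succ, pow_two, mul_assoc])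
  have hy2 : y⁻¹ = y * y := inv_eq_of_mul_eq_one_right (by rw [← hy, pow_succ, pow_two, mul_assoc])
  have hyx : y * x * (y * x) = x⁻¹ * y⁻¹ := by
    have h3 : (y * x) * (y * x) * (y * x) = 1 := by
      calc (y * x) * (y * x) * (y * x) = x⁻¹ * ((x * y) * (x * y) * (x * y)) * x := by group
        _ = 1 := by
          rw [show (x * y) * (x * y) * (x * y) = (x * y) ^ 3 by rw [pow_succ, pow_two], hxy]
          group
    rw [← mul_inv_rev]
    exact eq_inv_of_mul_eq_one_left h3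
  have e1 : u' = x * y * x := by
    rw [hu', hu]
    calc x⁻¹ * (x⁻¹ * y) * x = (x⁻¹ * x⁻¹) * y * x := by group
      _ = (x * x * (x * x)) * y * x := by rw [hx2]
      _ = (x ^ 3) * (x * y * x) := by rw [pow_succ, pow_two]; group
      _ = x * y * x := by rw [hx, one_mul]
  have e2 : u * u' = x * y⁻¹ := by
    rw [e1, hu]
    calc x⁻¹ * y * (x * y * x) = x⁻¹ * (y * x * (y * x)) := by group
      _ = x⁻¹ * (x⁻¹ * y⁻¹) := by rw [hyx]
      _ = x⁻¹ * x⁻¹ * y⁻¹ := by group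
      _ = (x ^ 3) * x * y⁻¹ := by rw [hx2, pow_succ, pow_two]; group
      _ = _ := by rw [hx, one_mul]
  have e3 : u' * u = x * y⁻¹ := by
    rw [e1, hu, hy2]
    group
  have hcomm : u * u' = u' * u := e2.trans e3.symm
  have hprod : u * u' * u'' = 1 := by
    rw [e2, hu'', e1]
    calc x * y⁻¹ * (x⁻¹ * (x * y * x) * x) = x * x * x := by group
      _ = 1 := by rw [← hx, pow_succ, pow_two]
  have hu2 : u'' = (u * u')⁻¹ := eq_inv_of_mul_eq_one_right hprod
  set A := Subgroup.closure ({u, u'} : Set G) with hAdef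
  have hA : ∀ a ∈ A, ∀ b ∈ A, a * b = b * a := by
    intro a ha b hb
    have h1 : ∀ g ∈ ({u, u'} : Set G), ∀ g' ∈ ({u, u'} : Set G), g * g' = g' * g := by
      rintro g (rfl | rfl) g' (rfl | rfl) <;> first | rfl | exact hcomm | exact hcomm.symm
    haveI := Subgroup.isMulCommutative_closure h1
    exact congrArg Subtype.val (mul_comm' (⟨a, ha⟩ : A) ⟨b, hb⟩)
  have hmu : u ∈ A := Subgroup.subset_closure (Set.mem_insert _ _)
  have hmu' : u' ∈ A := Subgroup.subset_closure (Set.mem_insert_of_mem _ rfl)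
  have hxA : ∀ a ∈ A, x⁻¹ * a * x ∈ A := by
    have h1 : A ≤ A.comap (MulAut.conj x⁻¹).toMonoidHom := by
      rw [hAdef, Subgroup.closure_le]
      rintro g (rfl | rfl)
      · show (MulAut.conj x⁻¹) u ∈ A
        rw [MulAut.conj_apply, inv_inv]
        exact hmu'
      · show (MulAut.conj x⁻¹) u' ∈ A
        rw [MulAut.conj_apply, inv_inv, ← hu'', hu2]
        exact A.inv_mem (A.mul_mem hmu hmu')
    intro a ha
    have := h1 ha
    rwa [Subgroup.mem_comap, MulEquiv.coe_toMonoidHom, MulAut.conj_apply, inv_inv] at this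
  by_cases hfix : ∀ w ∈ A, w * x = x * w → w ^ 3 = 1 → w = 1
  · right
    constructor
    · obtain ⟨b, -, hb⟩ := exists_conj_of_norm_one hA hx hxA hfix hmu hprod
      refine isConj_iff.2 ⟨b⁻¹, ?_⟩
      rw [inv_inv, hb, hu, mul_inv_cancel_left]
    · have hxA2 : ∀ a ∈ A, (x ^ 2)⁻¹ * a * x ^ 2 ∈ A := fun a ha => by
        have := hxA _ (hxA _ ha)
        rwa [show x⁻¹ * (x⁻¹ * a * x) * x = (x ^ 2)⁻¹ * a * x ^ 2 by rw [pow_two]; group] at this
      have hfix2 : ∀ w ∈ A, w * x ^ 2 = x ^ 2 * w → w ^ 3 = 1 → w = 1 := fun w hw h1 h2 =>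
        hfix w hw (by
          have h3 : Commute w (x ^ 2) := h1
          have h4 := h3.pow_right 2
          rwa [show (x ^ 2) ^ 2 = x by rw [← pow_mul, show 2 * 2 = 3 + 1 from rfl, pow_succ, hx, one_mul]] at h4) h2
      have hn2 : u * ((x ^ 2)⁻¹ * u * x ^ 2) * ((x ^ 2)⁻¹ * ((x ^ 2)⁻¹ * u * x ^ 2) * x ^ 2) = 1 := by
        have h1 : (x ^ 2)⁻¹ * u * x ^ 2 = u'' := by rw [hu'', hu', pow_two]; group
        rw [h1, show (x ^ 2)⁻¹ * u'' * x ^ 2 = u' by
          rw [hu'', hu']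
          rw [show (x ^ 2)⁻¹ * (x⁻¹ * (x⁻¹ * u * x) * x) * x ^ 2 = (x ^ 3)⁻¹ * (x⁻¹ * u * x) * x ^ 3 by
            rw [pow_two, pow_succ, pow_two]; group, hx, inv_one, one_mul, mul_one], hu2]
        rw [mul_inv_rev]
        rw [← mul_assoc u, (Commute.inv_right (show Commute u u' from hcomm)).eq, mul_assoc u'⁻¹,
          mul_inv_cancel, mul_one, inv_mul_cancel]
      obtain ⟨b, -, hb⟩ := exists_conj_of_norm_one hA
        (show (x ^ 2) ^ 3 = 1 by rw [← pow_mul, mul_comm, pow_mul, hx, one_pow]) hxA2 hfix2 hmu hn2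
      refine isConj_iff.2 ⟨b⁻¹, ?_⟩
      rw [inv_inv, hb, hu, pow_two]
      group
  · left
    push Not at hfix
    obtain ⟨w, hwA, hwx, hw3, hw1⟩ := hfix
    refine ⟨w, hw1, hw3, hwx, ?_⟩
    have hwu := hA w hwA u hmu
    rw [show y = x * u by rw [hu, mul_inv_cancel_left]]
    rw [← mul_assoc, hwx, mul_assoc, hwu, ← mul_assoc]

/-- If the centralisers of the non-trivial elements of `S` lie in a subgroup all of whose elements
of cube one lie in `S`, the solutions of `x y = z` in elements of cube one lie in `S`, unless the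
classes of `x`, `y` and the inverse of `x y` coincide. -/
theorem mem_of_mul_eq [Finite G] {S N : Subgroup G}
    (hloc : ∀ z ∈ S, z ≠ 1 → ∀ g : G, g * z = z * g → g ∈ N)
    (hthree : ∀ g ∈ N, g ^ 3 = 1 → g ∈ S) (hS : ∀ z ∈ S, z ^ 3 = 1) {x y z : G}
    (hx : x ^ 3 = 1) (hy : y ^ 3 = 1) (hz : z ∈ S) (hz1 : z ≠ 1) (h : x * y = z)
    (hne : ¬ (IsConj x y ∧ IsConj (x ^ 2) z)) : x ∈ S ∧ y ∈ S := by
  rcases triangle hx hy (h ▸ hS z hz) with ⟨w, hw1, hw3, hwx, hwy⟩ | h'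
  · have hwz : w * z = z * w := by rw [← h, ← mul_assoc, hwx, mul_assoc, hwy, ← mul_assoc]
    have hwS : w ∈ S := hthree w (hloc z hz hz1 w hwz) hw3
    have hxS : x ∈ S := hthree x (hloc w hwS hw1 x hwx.symm) hx
    refine ⟨hxS, ?_⟩
    rw [show y = x⁻¹ * z by rw [← h, inv_mul_cancel_left]]
    exact S.mul_mem (S.inv_mem hxS) hz
  · exact absurd (h ▸ h') hne

end Cfsg.Agent.Solv.ThreeLocal
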