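import Mathlib
import Cfsg.Agent.Lib.Solv.ThreeLocal.Triangle
import Cfsg.Agent.Lib.Char.Ortho
import Cfsg.Agent.Lib.Char.Convolution
import Cfsg.Agent.Lib.Char.Central

/-!
# An elementary abelian subgroup of order nine controlling its centralisers

Coordinates, fusion, and the class multiplication coefficients of the elements of order three.
-/

set_option autoImplicit false

namespace Cfsg.Agent.Solv.ThreeLocal

open Cfsg Cfsg.Agent.Char
open scoped ComplexConjugate Pointwise

universe u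

/-- The plane over the field of three elements. -/
abbrev Pl := ZMod 3 × ZMod 3

/-- An elementary abelian subgroup of order nine with coordinates, containing every element of cube
one of its normaliser, whose non-trivial elements have centralisers in the normaliser. -/
structure Ctx (G : Type u) [Group G] where
  e : Pl → G
  e_add : ∀ v w, e (v + w) = e v * e w
  inj : Function.Injective e
  S : Subgroup G
  mem_iff : ∀ g, g ∈ S ↔ ∃ v, e v = g
  loc : ∀ v, v ≠ 0 → ∀ g : G, g * e v = e v * g → g ∈ Subgroup.normalizer (S : Set G)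
  three : ∀ g ∈ Subgroup.normalizer (S : Set G), g ^ 3 = 1 → g ∈ S

namespace Ctx

variable {G : Type u} [Group G] (X : Ctx G)

theorem e_zero : X.e 0 = 1 := mul_left_cancel (a := X.e 0) (by rw [← X.e_add, add_zero, mul_one])

theorem e_neg (v : Pl) : X.e (-v) = (X.e v)⁻¹ :=
  (inv_eq_of_mul_eq_one_right (by rw [← X.e_add, add_neg_cancel, X.e_zero])).symm

theorem e_comm (v w : Pl) : X.e v * X.e w = X.e w * X.e v := by
  rw [← X.e_add, ← X.e_add, add_comm]

theorem e_cube (v : Pl) : X.e v ^ 3 = 1 := by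
  rw [pow_succ, pow_two, ← X.e_add, ← X.e_add, show v + v + v = 0 by revert v; decide, X.e_zero]

theorem e_sq (v : Pl) : X.e v ^ 2 = X.e (-v) := by
  rw [pow_two, ← X.e_add, show v + v = -v by revert v; decide]

theorem e_eq_one_iff {v : Pl} : X.e v = 1 ↔ v = 0 := by rw [← X.e_zero, X.inj.eq_iff]

theorem e_mem (v : Pl) : X.e v ∈ X.S := (X.mem_iff _).2 ⟨v, rfl⟩

theorem cube_of_mem {g : G} (hg : g ∈ X.S) : g ^ 3 = 1 := by
  obtain ⟨v, rfl⟩ := (X.mem_iff g).1 hg
  exact X.e_cube v

theorem card_S : Nat.card X.S = 9 := by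
  have h : Nat.card Pl = 9 := by simp [Nat.card_eq_fintype_card, Pl]
  rw [← h]
  exact (Nat.card_congr (Equiv.ofBijective (fun v : Pl => (⟨X.e v, X.e_mem v⟩ : X.S))
    ⟨fun v w h' => X.inj (congrArg Subtype.val h'), fun g => by
      obtain ⟨v, hv⟩ := (X.mem_iff g.1).1 g.2
      exact ⟨v, Subtype.ext hv⟩⟩)).symm

/-- Fusion in `S` is controlled by the normaliser. -/
theorem fusion [Finite G] {v w : Pl} (hv : v ≠ 0) {g : G} (h : g * X.e v * g⁻¹ = X.e w) :
    g ∈ Subgroup.normalizer (X.S : Set G) := by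
  have hw : w ≠ 0 := by
    rintro rfl
    rw [X.e_zero, conj_eq_one_iff, X.e_eq_one_iff] at h
    exact hv h
  have key : ∀ s ∈ X.S, g * s * g⁻¹ ∈ X.S := by
    intro s hs
    obtain ⟨t, rfl⟩ := (X.mem_iff s).1 hs
    refine X.three _ (X.loc w hw _ ?_) (by rw [conj_pow, X.e_cube]; group)
    rw [← h]
    calc g * X.e t * g⁻¹ * (g * X.e v * g⁻¹) = g * (X.e t * X.e v) * g⁻¹ := by group
      _ = g * (X.e v * X.e t) * g⁻¹ := by rw [X.e_comm]
      _ = _ := by group
  rw [Subgroup.mem_normalizer_iff]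
  intro s
  refine ⟨key s, fun hs => ?_⟩
  have hfin : Set.BijOn (fun s => g * s * g⁻¹) (X.S : Set G) (X.S : Set G) :=
    ⟨fun s hs => key s hs, fun a _ b _ hab => mul_left_cancel (mul_right_cancel hab),
      Set.SurjOn.mono (Set.Subset.refl _) (Set.Subset.refl _) (by
        haveI : Finite (X.S : Set G) := inferInstance
        exact (Set.MapsTo.restrict_surjective_iff (fun s hs => key s hs)).1
          (Finite.surjective_of_injective fun a b hab => Subtype.ext
            (mul_left_cancel (mul_right_cancel (congrArg Subtype.val hab)))))⟩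
  obtain ⟨a, ha, hae⟩ := hfin.surjOn hs
  rwa [show s = a from (mul_left_cancel (mul_right_cancel hae)).symm]

/-- The number of conjugates of `S` is one modulo nine. -/
theorem index_mod_nine [Finite G] : (Subgroup.normalizer (X.S : Set G)).index % 9 = 1 := by
  classical
  set N := Subgroup.normalizer (X.S : Set G) with hN
  let Ω := G ⧸ N
  haveI : Fintype Ω := Fintype.ofFinite _
  let x₀ : Ω := ((1 : G) : Ω)
  have hfix : ∀ s : X.S, s • x₀ = x₀ := fun s => by
    show ((((s : G) * 1) : G) : Ω) = ((1 : G) : Ω)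
    rw [mul_one, QuotientGroup.eq, mul_one]
    exact N.inv_mem (Subgroup.le_normalizer s.2)
  have hfree : ∀ x : Ω, x ≠ x₀ → MulAction.stabilizer X.S x = ⊥ := by
    intro x hx
    induction x using QuotientGroup.induction_on with
    | _ g =>
      rw [eq_bot_iff]
      intro s hs
      by_contra hs1
      have h1 : g⁻¹ * (s : G) * g ∈ N := by
        have h2 : ((((s : G) * g) : G) : Ω) = ((g : G) : Ω) := hs
        rw [QuotientGroup.eq, mul_inv_rev] at h2
        have := N.inv_mem h2
        rwa [mul_inv_rev, mul_inv_rev, inv_inv, inv_inv, ← mul_assoc] at this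
      obtain ⟨v, hv⟩ := (X.mem_iff _).1 s.2
      have hv0 : v ≠ 0 := by
        rintro rfl
        exact hs1 (Subgroup.mem_bot.2 (Subtype.ext (by rw [← hv, X.e_zero]; rfl)))
      have h3 : g⁻¹ * (s : G) * g ∈ X.S := X.three _ h1 (by
        have := conj_pow (a := g⁻¹) (b := (s : G)) (i := 3)
        rw [inv_inv] at this
        rw [this, X.cube_of_mem s.2]
        group)
      obtain ⟨w, hw⟩ := (X.mem_iff _).1 h3
      have h4 := X.fusion hv0 (g := g⁻¹) (w := w) (by rw [inv_inv, hv, hw])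
      refine hx ?_
      show ((g : G) : Ω) = ((1 : G) : Ω)
      rw [QuotientGroup.eq, mul_one]
      exact h4
  have h9 : 9 ∣ Fintype.card {x : Ω // x ≠ x₀} := by
    letI : MulAction X.S {x : Ω // x ≠ x₀} :=
      { smul := fun s x => ⟨s • x.1, fun h => x.2 (by
          have := congrArg (fun y => s⁻¹ • y) h
          simpa [inv_smul_smul, hfix] using this)⟩
        one_smul := fun x => Subtype.ext (one_smul _ _)
        mul_smul := fun s t x => Subtype.ext (mul_smul _ _ _) }
    rw [← Nat.card_eq_fintype_card,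
      Nat.card_congr (MulAction.selfEquivSigmaOrbits X.S {x : Ω // x ≠ x₀})]
    haveI : Fintype (MulAction.orbitRel.Quotient X.S {x : Ω // x ≠ x₀}) := Fintype.ofFinite _
    rw [Nat.card_sigma]
    refine Finset.dvd_sum fun o _ => ?_
    rw [Nat.card_congr (MulAction.orbitEquivQuotientStabilizer X.S (Quotient.out o)),
      ← Subgroup.index_eq_card,
      show MulAction.stabilizer X.S (Quotient.out o) = ⊥ from eq_bot_iff.2 fun s hs =>
        (hfree _ (Quotient.out o).2).le (congrArg Subtype.val hs),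
      Subgroup.index_bot, X.card_S]
  have h1 : N.index = Fintype.card {x : Ω // x ≠ x₀} + 1 := by
    rw [Subgroup.index_eq_card, Nat.card_eq_fintype_card, Fintype.card_subtype_compl,
      Fintype.card_subtype_eq, Nat.sub_add_cancel Fintype.card_pos]
  rw [h1]
  omega

end Ctx

section Coeff

variable {G : Type u} [Group G] [Fintype G]

open scoped Classical in
/-- The number of ways to write `c` as a product of a conjugate of `a` and one of `b`, conjugators
counted. -/
theorem pairs_formula (a b c : G) :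
    (((Finset.univ : Finset (G × G)).filter fun t =>
        t.1 * a * t.1⁻¹ * (t.2 * b * t.2⁻¹) = c).card : ℂ) =
      (Nat.card G : ℂ) * ∑ χ : IrrCharacter G,
        conj ((χ : G → ℂ) c) * ((χ : G → ℂ) a * (χ : G → ℂ) b / (χ : G → ℂ) 1) := by
  set R := (Finset.univ : Finset (G × G)).filter fun t => t.1 * a * t.1⁻¹ * (t.2 * b * t.2⁻¹) = c with hR
  set S := (Finset.univ : Finset (G × G)).filter fun t => IsConj (t.1 * a * t.1⁻¹ * (t.2 * b * t.2⁻¹)) c with hS
  set W := (Finset.univ : Finset G).filter fun w => IsConj c w with hW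
  set n := Nat.card {x : G // IsConj c x} with hn
  have hWc : W.card = n := by rw [hn, Nat.card_eq_fintype_card, Fintype.card_subtype]
  have hfib : S.card = n * R.card := by
    rw [Finset.card_eq_sum_card_fiberwise (f := fun t : G × G => t.1 * a * t.1⁻¹ * (t.2 * b * t.2⁻¹))
      (t := W) (fun t ht => Finset.mem_filter.2 ⟨Finset.mem_univ _, (Finset.mem_filter.1 ht).2.symm⟩),
      ← hWc]
    refine Finset.sum_const_nat fun w hw => ?_
    obtain ⟨k, hk⟩ := isConj_iff.1 (Finset.mem_filter.1 hw).2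
    refine (Finset.card_equiv (Equiv.prodCongr (Equiv.mulLeft k) (Equiv.mulLeft k)) fun t => ?_).symm
    simp only [hR, hS, Finset.mem_filter, Finset.mem_univ, true_and, Equiv.prodCongr_apply, Prod.map,
      Equiv.coe_mulLeft]
    rw [show k * t.1 * a * (k * t.1)⁻¹ * (k * t.2 * b * (k * t.2)⁻¹) =
      k * (t.1 * a * t.1⁻¹ * (t.2 * b * t.2⁻¹)) * k⁻¹ by group, ← hk]
    constructor
    · intro h
      rw [h]
      exact ⟨isConj_iff.2 ⟨k⁻¹, by group⟩, rfl⟩
    · rintro ⟨-, h⟩
      exact mul_left_cancel (mul_right_cancel h)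
  have hn0 : (n : ℂ) ≠ 0 := Nat.cast_ne_zero.2 (card_conjClass_ne_zero c)
  have hG0 : (Nat.card G : ℂ) ≠ 0 := Nat.cast_ne_zero.2 Nat.card_pos.ne'
  have h1 : (S.card : ℂ) * ((Nat.card G : ℂ) / n) =
      ∑ t : G × G, ∑ χ : IrrCharacter G,
        (χ : G → ℂ) (t.1 * a * t.1⁻¹ * (t.2 * b * t.2⁻¹)) * conj ((χ : G → ℂ) c) := by
    rw [Finset.sum_congr rfl fun t _ => second_orth (t.1 * a * t.1⁻¹ * (t.2 * b * t.2⁻¹)) c,
      ← Finset.sum_filter, Finset.sum_const, nsmul_eq_mul]
  have h2 : ∀ χ : IrrCharacter G, ∑ t : G × G, (χ : G → ℂ) (t.1 * a * t.1⁻¹ * (t.2 * b * t.2⁻¹)) =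
      (Nat.card G : ℂ) * (Nat.card G : ℂ) * ((χ : G → ℂ) a * (χ : G → ℂ) b / (χ : G → ℂ) 1) := by
    intro χ
    have hd : (χ : G → ℂ) 1 ≠ 0 := by
      rw [char_one_eq_deg (irr_isCharacter χ.2)]
      exact Nat.cast_ne_zero.2 (deg_pos χ.2).ne'
    rw [Fintype.sum_prod_type]
    have hin : ∀ g : G, ∑ h : G, (χ : G → ℂ) (g * a * g⁻¹ * (h * b * h⁻¹)) =
        (Nat.card G : ℂ) * ((χ : G → ℂ) a * (χ : G → ℂ) b / (χ : G → ℂ) 1) := fun g => by
      have h := sum_conj_mul χ.2 (g * a * g⁻¹) b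
      rw [isClassFunction_character (irr_isCharacter χ.2) a g] at h
      field_simp
      linear_combination h
    rw [Finset.sum_congr rfl fun g _ => hin g, Finset.sum_const, Finset.card_univ, nsmul_eq_mul,
      ← Nat.card_eq_fintype_card, mul_assoc]
  rw [Finset.sum_comm] at h1
  simp only [← Finset.sum_mul] at h1
  rw [Finset.sum_congr rfl fun χ _ => by rw [h2 χ], hfib] at h1
  push_cast at h1
  field_simp at h1
  refine mul_left_cancel₀ hG0 ?_
  rw [Finset.mul_sum, Finset.mul_sum, mul_comm (Nat.card G : ℂ) (R.card : ℂ), h1]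
  refine Finset.sum_congr rfl fun χ _ => ?_
  ring

open scoped Classical in
theorem card_conjugators {a w : G} (h : IsConj a w) :
    ((Finset.univ : Finset G).filter fun g => g * a * g⁻¹ = w).card =
      Nat.card (Subgroup.centralizer ({a} : Set G)) := by
  obtain ⟨k, hk⟩ := isConj_iff.1 h
  rw [← Nat.card_eq_finsetCard]
  refine (Nat.card_congr ((Equiv.mulLeft k).subtypeEquiv fun s => ?_)).symm
  simp only [Finset.mem_filter, Finset.mem_univ, true_and, Equiv.coe_mulLeft,
    Subgroup.mem_centralizer_singleton_iff, ← hk]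
  constructor
  · intro e
    rw [show k * s * a * (k * s)⁻¹ = k * (s * a * s⁻¹) * k⁻¹ by group, e]
    group
  · intro e
    have e2 : s * a * s⁻¹ = a := mul_left_cancel (mul_right_cancel (show k * (s * a * s⁻¹) * k⁻¹ = k * a * k⁻¹ by
      rw [← e]; group))
    calc s * a = s * a * s⁻¹ * s := by group
      _ = a * s := by rw [e2]

variable (X : Ctx G)

open scoped Classical in
/-- The solutions inside `S` are solutions. -/
theorem Ctx.pairs_in (p q z : Pl) (P : Pl → Prop) [DecidablePred P]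
    (hP : ∀ v, P v ↔ IsConj (X.e p) (X.e v) ∧ IsConj (X.e q) (X.e (z - v))) :
    ((Finset.univ : Finset (G × G)).filter fun t =>
        t.1 * X.e p * t.1⁻¹ * (t.2 * X.e q * t.2⁻¹) = X.e z ∧ t.1 * X.e p * t.1⁻¹ ∈ X.S).card =
      (Finset.univ.filter P).card *
        (Nat.card (Subgroup.centralizer ({X.e p} : Set G)) *
          Nat.card (Subgroup.centralizer ({X.e q} : Set G))) := by
  set Z := (Finset.univ : Finset (G × G)).filter fun t =>
    t.1 * X.e p * t.1⁻¹ * (t.2 * X.e q * t.2⁻¹) = X.e z ∧ t.1 * X.e p * t.1⁻¹ ∈ X.S with hZ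
  have hdec : Z = (Finset.univ.filter P).biUnion fun v =>
      ((Finset.univ : Finset G).filter fun g => g * X.e p * g⁻¹ = X.e v) ×ˢ
        ((Finset.univ : Finset G).filter fun g => g * X.e q * g⁻¹ = X.e (z - v)) := by
    ext t
    simp only [hZ, Finset.mem_filter, Finset.mem_univ, true_and, Finset.mem_biUnion, Finset.mem_product]
    constructor
    · rintro ⟨h1, h2⟩
      obtain ⟨v, hv⟩ := (X.mem_iff _).1 h2
      have h3 : t.2 * X.e q * t.2⁻¹ = X.e (z - v) := by
        rw [sub_eq_neg_add, X.e_add, X.e_neg, hv, ← h1, inv_mul_cancel_left]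
      exact ⟨v, (hP v).2 ⟨isConj_iff.2 ⟨_, hv.symm⟩, isConj_iff.2 ⟨_, h3⟩⟩, hv.symm, h3⟩
    · rintro ⟨v, -, h1, h2⟩
      rw [h1, h2, ← X.e_add, add_sub_cancel]
      exact ⟨rfl, X.e_mem v⟩
  rw [hdec, Finset.card_biUnion]
  · refine Finset.sum_const_nat fun v hv => ?_
    obtain ⟨h1, h2⟩ := (hP v).1 (Finset.mem_filter.1 hv).2
    rw [Finset.card_product, card_conjugators h1, card_conjugators h2]
  · intro v _ w _ hvw
    refine Finset.disjoint_left.2 fun t h1 h2 => hvw (X.inj ?_)
    simp only [Finset.mem_product, Finset.mem_filter, Finset.mem_univ, true_and] at h1 h2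
    exact h1.1.symm.trans h2.1

open scoped Classical in
/-- The class multiplication coefficient computed in `S`. -/
theorem Ctx.coef {p q z : Pl} (hz : z ≠ 0)
    (hne : ¬ (IsConj (X.e p) (X.e q) ∧ IsConj (X.e (-p)) (X.e z)))
    (P : Pl → Prop) [DecidablePred P]
    (hP : ∀ v, P v ↔ IsConj (X.e p) (X.e v) ∧ IsConj (X.e q) (X.e (z - v))) :
    (Nat.card G : ℂ) * ∑ χ : IrrCharacter G,
        conj ((χ : G → ℂ) (X.e z)) * ((χ : G → ℂ) (X.e p) * (χ : G → ℂ) (X.e q) / (χ : G → ℂ) 1) =
      (((Finset.univ.filter P).card * (Nat.card (Subgroup.centralizer ({X.e p} : Set G)) *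
          Nat.card (Subgroup.centralizer ({X.e q} : Set G))) : ℕ) : ℂ) := by
  rw [← pairs_formula, ← X.pairs_in p q z P hP]
  congr 2
  refine Finset.filter_congr fun t _ => ⟨fun h => ⟨h, ?_⟩, fun h => h.1⟩
  refine (mem_of_mul_eq (S := X.S) (N := Subgroup.normalizer (X.S : Set G)) ?_ X.three
    (fun g hg => X.cube_of_mem hg) (by rw [conj_pow, X.e_cube]; group) (by rw [conj_pow, X.e_cube]; group)
    (X.e_mem z) (fun h' => hz (X.e_eq_one_iff.1 h')) h ?_).1
  · intro s hs hs1 g hg
    obtain ⟨v, rfl⟩ := (X.mem_iff s).1 hs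
    exact X.loc v (fun h' => hs1 (by rw [h', X.e_zero])) g hg
  · rintro ⟨h1, h2⟩
    refine hne ⟨?_, ?_⟩
    · exact ((isConj_iff.2 ⟨t.1, rfl⟩ : IsConj (X.e p) (t.1 * X.e p * t.1⁻¹)).trans h1).trans
        (isConj_iff.2 ⟨t.2, rfl⟩ : IsConj (X.e q) (t.2 * X.e q * t.2⁻¹)).symm
    · refine IsConj.trans ?_ h2
      rw [conj_pow, X.e_sq]
      exact isConj_iff.2 ⟨t.1, rfl⟩

open scoped Classical in
/-- The lower bound for a class multiplication coefficient. -/
theorem Ctx.coef_ge (p q z : Pl) (P : Pl → Prop) [DecidablePred P]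
    (hP : ∀ v, P v ↔ IsConj (X.e p) (X.e v) ∧ IsConj (X.e q) (X.e (z - v))) :
    ∃ k : ℕ, (Finset.univ.filter P).card * (Nat.card (Subgroup.centralizer ({X.e p} : Set G)) *
        Nat.card (Subgroup.centralizer ({X.e q} : Set G))) ≤ k ∧
      (Nat.card G : ℂ) * ∑ χ : IrrCharacter G,
        conj ((χ : G → ℂ) (X.e z)) * ((χ : G → ℂ) (X.e p) * (χ : G → ℂ) (X.e q) / (χ : G → ℂ) 1) = k := by
  refine ⟨_, ?_, (pairs_formula _ _ _).symm⟩
  rw [← X.pairs_in p q z P hP]
  exact Finset.card_le_card fun t ht => Finset.mem_filter.2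
    ⟨Finset.mem_univ _, (Finset.mem_filter.1 ht).2.1⟩

end Coeff

end Cfsg.Agent.Solv.ThreeLocal
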