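import Mathlib
import Cfsg.Agent.Lib.Solv.ThreeLocal.Ctx
import Cfsg.Agent.Lib.Char.DihedralHom
import Cfsg.Agent.Lib.Char.LinearExt

/-!
# Multiplicities in the restrictions of a character to the local subgroups
-/

set_option autoImplicit false

namespace Cfsg.Agent.Solv.ThreeLocal

open Cfsg Cfsg.Agent.Char
open scoped ComplexConjugate

universe u

variable {G : Type u} [Group G] [Finite G]

theorem multiplicity {χ : G → ℂ} (hχ : IsCharacter G χ) {H : Type} [Group H] [Fintype H] (f : H →* G)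
    (l : H →* ℂˣ) : ∃ m : ℕ, ∑ h, χ (f h) * (l h : ℂ) = (Nat.card H : ℂ) * m := by
  obtain ⟨m, hm⟩ := classInner_natCast (isCharacter_mul (isCharacter_comp f hχ) (isCharacter_linear l))
    (isCharacter_one (G := H))
  refine ⟨m, ?_⟩
  rw [classInner, inv_mul_eq_iff_eq_mul₀ (Nat.cast_ne_zero.2 Nat.card_pos.ne')] at hm
  simpa using hm

theorem exists_omega : ∃ w : ℂˣ, w ^ 3 = 1 ∧ (w : ℂ) ^ 2 + w + 1 = 0 := by
  have h := Complex.isPrimitiveRoot_exp 3 (by norm_num)
  set z := Complex.exp (2 * Real.pi * Complex.I / (3 : ℕ))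
  have hz : z ≠ 0 := h.ne_zero (by norm_num)
  refine ⟨Units.mk0 z hz, Units.ext (by simpa using h.pow_eq_one), ?_⟩
  have h1 : (z - 1) * (z ^ 2 + z + 1) = 0 := by linear_combination h.pow_eq_one
  exact (mul_eq_zero.1 h1).resolve_left (sub_ne_zero.2 (h.ne_one (by norm_num)))

/-- The cyclic group of order three. -/
abbrev C3 := Multiplicative (ZMod 3)

/-- The homomorphism from the cyclic group of order three given by a root of unity. -/
def threeHom {M : Type*} [Group M] {σ : M} (hσ : σ ^ 3 = 1) : C3 →* M where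
  toFun i := σ ^ i.toAdd.val
  map_one' := by simp
  map_mul' i j := zmod_pow_add (N := 3) hσ i.toAdd j.toAdd

theorem sum_threeCyclic {M : Type*} [AddCommMonoid M] (F : C3 → M) :
    ∑ i, F i = F (Multiplicative.ofAdd 0) + F (Multiplicative.ofAdd 1) + F (Multiplicative.ofAdd 2) := by
  rw [show (Finset.univ : Finset C3) = {Multiplicative.ofAdd 0, Multiplicative.ofAdd 1,
    Multiplicative.ofAdd 2} by decide]
  rw [Finset.sum_insert (by decide), Finset.sum_insert (by decide), Finset.sum_singleton, add_assoc]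

theorem sum_dihedralThree {M : Type*} [AddCommMonoid M] (F : DihedralGroup 3 → M) :
    ∑ x, F x = F (.r 0) + F (.r 1) + F (.r 2) + (F (.sr 0) + F (.sr 1) + F (.sr 2)) := by
  rw [show (Finset.univ : Finset (DihedralGroup 3)) = {.r 0, .r 1, .r 2, .sr 0, .sr 1, .sr 2} by decide]
  rw [Finset.sum_insert (by decide), Finset.sum_insert (by decide), Finset.sum_insert (by decide),
    Finset.sum_insert (by decide), Finset.sum_insert (by decide), Finset.sum_singleton]
  simp [add_assoc]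

/-- The value at an involution of determinant one. -/
theorem det_parity {χ : G → ℂ} (hχ : IsCharacter G χ) {r : G} (hr : r * r = 1)
    (hc : r ∈ commutator G) {F : ℕ} (hF : χ 1 - χ r = 2 * (F : ℂ)) : Even F := by
  classical
  obtain ⟨n, ρ, rfl⟩ := hχ
  obtain ⟨μ, hμ, htr, hdet⟩ := exists_eigenvalues ρ r
  have hm : ∀ i, μ i = 1 ∨ μ i = -1 := fun i => by
    refine sq_eq_one_iff.1 ?_
    obtain ⟨k, hk⟩ := orderOf_dvd_of_pow_eq_one (show r ^ 2 = 1 by rw [pow_two, hr])
    rw [hk, pow_mul, hμ i, one_pow]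
  have h1 := htr 1
  simp only [pow_one] at h1
  have h0 := htr 0
  simp only [pow_zero] at h0
  have hd : LinearMap.det (ρ r) = 1 := by
    have h := Abelianization.commutator_subset_ker (detHom ρ) hc
    have h' := congrArg (fun x : ℂˣ => (x : ℂ)) (MonoidHom.mem_ker.1 h)
    simpa [detHom_apply] using h'
  have h2 := hdet 1
  simp only [pow_one] at h2
  set K := Finset.univ.filter fun i => μ i = -1 with hK
  have h3 : ∏ i, μ i = (-1 : ℂ) ^ K.card := by
    rw [← Finset.prod_filter_mul_prod_filter_not Finset.univ (fun i => μ i = -1),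
      Finset.prod_eq_pow_card (b := (-1 : ℂ)) fun i hi => (Finset.mem_filter.1 hi).2,
      Finset.prod_eq_one fun i hi => (hm i).resolve_right (Finset.mem_filter.1 hi).2, mul_one, ← hK]
  have h4 : ρ.character 1 - ρ.character r = 2 * (K.card : ℂ) := by
    rw [h0, h1, ← Finset.sum_sub_distrib,
      Finset.sum_congr rfl (g := fun i => if μ i = -1 then (2 : ℂ) else 0) fun i _ => by
        rcases hm i with e | e <;> rw [e] <;> norm_num,
      ← Finset.sum_filter, Finset.sum_const, nsmul_eq_mul, ← hK, mul_comm]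
  have h5 : F = K.card := by
    have := mul_left_cancel₀ two_ne_zero (hF.symm.trans h4)
    exact_mod_cast this
  rw [h5]
  by_contra hodd
  rw [Nat.not_even_iff_odd] at hodd
  rw [hd, h3, hodd.neg_one_pow] at h2
  norm_num at h2

theorem pl_two : ∀ t : Pl, (2 : ZMod 3) • t = -t := by decide

theorem pl_neg_neg : ∀ t : Pl, -t + -t = t := by decide

/-- An axis: a reflection `r` fixing `u` and inverting `w`, with the fusion of `S`. -/
structure Axis (X : Ctx G) where
  u : Pl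
  w : Pl
  r : G
  r_sq : r * r = 1
  ru : r * X.e u = X.e u * r
  rw' : r * X.e w * r⁻¹ = X.e (-w)
  cu : ∀ i : ZMod 3, i ≠ 0 → IsConj (X.e u) (X.e (i • u))
  cw : ∀ j : ZMod 3, j ≠ 0 → IsConj (X.e u) (X.e (j • w))
  cd : ∀ i j : ZMod 3, i ≠ 0 → j ≠ 0 → IsConj (X.e (u + w)) (X.e (i • u + j • w))
  cz : IsConj (X.e u * r) (X.e (-u) * r)

theorem Ctx.e_smul (X : Ctx G) (i : ZMod 3) (v : Pl) : X.e (i • v) = X.e v ^ i.val := by
  obtain rfl | rfl | rfl : i = 0 ∨ i = 1 ∨ i = 2 := by revert i; decide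
  · rw [zero_smul, ZMod.val_zero, pow_zero, X.e_zero]
  · rw [one_smul, ZMod.val_one, pow_one]
  · rw [show (2 : ZMod 3).val = 2 from rfl, pow_two, ← X.e_add, two_smul]

set_option maxHeartbeats 1000000 in
/-- The multiplicities along an axis. -/
theorem Axis.data {X : Ctx G} (A : Axis X) {χ : G → ℂ} (hχ : IsCharacter G χ) :
    ∃ ap am bp bm : ℕ,
      χ 1 + 4 * χ (X.e A.u) + 4 * χ (X.e (A.u + A.w)) + (3 * χ A.r + 6 * χ (X.e A.u * A.r))
        = 18 * (ap : ℂ) ∧
      χ 1 + 4 * χ (X.e A.u) + 4 * χ (X.e (A.u + A.w)) - (3 * χ A.r + 6 * χ (X.e A.u * A.r))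
        = 18 * (am : ℂ) ∧
      χ 1 + χ (X.e A.u) - 2 * χ (X.e (A.u + A.w)) + (3 * χ A.r - 3 * χ (X.e A.u * A.r))
        = 18 * (bp : ℂ) ∧
      χ 1 + χ (X.e A.u) - 2 * χ (X.e (A.u + A.w)) - (3 * χ A.r - 3 * χ (X.e A.u * A.r))
        = 18 * (bm : ℂ) ∧
      (A.r ∈ commutator G → Even (am + bp + bm)) := by
  classical
  obtain ⟨u, w, r, r_sq, ru, rw', cu, cw, cd, cz⟩ := A
  dsimp only
  have hclass : ∀ {a b : G}, IsConj a b → χ b = χ a := fun {a b} h => by
    obtain ⟨k, rfl⟩ := isConj_iff.1 h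
    exact isClassFunction_character hχ a k
  have hrel : r * X.e w * r⁻¹ = (X.e w)⁻¹ := by rw [rw', X.e_neg]
  have hcomm : ∀ (i : C3) (x : DihedralGroup 3), Commute (threeHom (X.e_cube u) i)
      (dihHom (X.e_cube w) r_sq hrel x) := by
    intro i x
    show Commute (X.e u ^ i.toAdd.val) _
    refine Commute.pow_left ?_ _
    have hw : Commute (X.e u) (X.e w) := X.e_comm u w
    have hr : Commute (X.e u) r := ru.symm
    rcases x with j | j
    · exact hw.pow_right _
    · exact hr.mul_right (hw.pow_right _)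
  let f : C3 × DihedralGroup 3 →* G :=
    MonoidHom.noncommCoprod (threeHom (X.e_cube u)) (dihHom (X.e_cube w) r_sq hrel) hcomm
  have hfr : ∀ i j : ZMod 3, f (Multiplicative.ofAdd i, .r j) = X.e (i • u + j • w) := fun i j => by
    rw [X.e_add, X.e_smul, X.e_smul]; rfl
  have hfs : ∀ i j : ZMod 3, χ (f (Multiplicative.ofAdd i, .sr j)) = χ (X.e (i • u) * r) := fun i j => by
    refine hclass (isConj_iff.2 ⟨X.e (j • w), ?_⟩)
    have e1 : X.e (j • w) * r = r * X.e (-(j • w)) := by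
      have h1 : r * X.e (j • w) * r⁻¹ = X.e (-(j • w)) := by
        rw [X.e_smul, ← conj_pow, hrel, X.e_neg, X.e_smul, inv_pow]
      rw [← h1, inv_eq_of_mul_eq_one_right r_sq, ← mul_assoc, ← mul_assoc, r_sq, one_mul]
    show X.e (j • w) * (X.e (i • u) * r) * (X.e (j • w))⁻¹ = X.e u ^ i.val * (r * X.e w ^ j.val)
    rw [← X.e_smul i u, ← X.e_smul j w, ← X.e_neg, ← mul_assoc, X.e_comm, mul_assoc (X.e (i • u)),
      e1, mul_assoc, mul_assoc, ← X.e_add]
    congr 3
    exact pl_neg_neg _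
  have v01 : χ (X.e ((0 : ZMod 3) • u + (1 : ZMod 3) • w)) = χ (X.e u) :=
    hclass (by simpa using cw 1 (by decide))
  have v02 : χ (X.e ((0 : ZMod 3) • u + (2 : ZMod 3) • w)) = χ (X.e u) :=
    hclass (by simpa using cw 2 (by decide))
  have v10 : χ (X.e ((1 : ZMod 3) • u + (0 : ZMod 3) • w)) = χ (X.e u) := by simp
  have v20 : χ (X.e ((2 : ZMod 3) • u + (0 : ZMod 3) • w)) = χ (X.e u) :=
    hclass (by simpa using cu 2 (by decide))
  have v00 : χ (X.e ((0 : ZMod 3) • u + (0 : ZMod 3) • w)) = χ 1 := by simp [X.e_zero]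
  have v11 := hclass (cd 1 1 (by decide) (by decide))
  have v12 := hclass (cd 1 2 (by decide) (by decide))
  have v21 := hclass (cd 2 1 (by decide) (by decide))
  have v22 := hclass (cd 2 2 (by decide) (by decide))
  have s0 : χ (X.e ((0 : ZMod 3) • u) * r) = χ r := by rw [zero_smul, X.e_zero, one_mul]
  have s1 : χ (X.e ((1 : ZMod 3) • u) * r) = χ (X.e u * r) := by rw [one_smul]
  have s2 : χ (X.e ((2 : ZMod 3) • u) * r) = χ (X.e u * r) := by
    rw [pl_two u]
    exact hclass cz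
  obtain ⟨ω, hω3, hω⟩ := exists_omega
  have hneg : ((-1 : ℂˣ)) * -1 = 1 := by simp
  let sgn : DihedralGroup 3 →* ℂˣ := dihHom (σ := (1 : ℂˣ)) (τ := -1) (one_pow 3) hneg (by simp)
  let lam : C3 →* ℂˣ := threeHom hω3
  have hom : ∀ l : C3 × DihedralGroup 3 →* ℂˣ, ∃ m : ℕ,
      ∑ i : C3, ((χ (f (i, .r 0)) * (l (i, .r 0) : ℂ) + χ (f (i, .r 1)) * (l (i, .r 1) : ℂ) +
          χ (f (i, .r 2)) * (l (i, .r 2) : ℂ)) +
        (χ (f (i, .sr 0)) * (l (i, .sr 0) : ℂ) + χ (f (i, .sr 1)) * (l (i, .sr 1) : ℂ) +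
          χ (f (i, .sr 2)) * (l (i, .sr 2) : ℂ))) = 18 * (m : ℂ) := fun l => by
    obtain ⟨m, hm⟩ := multiplicity hχ f l
    refine ⟨m, ?_⟩
    rw [Fintype.sum_prod_type, show Nat.card (C3 × DihedralGroup 3) = 18 by
      rw [Nat.card_prod, DihedralGroup.nat_card]; simp [C3]] at hm
    rw [← show ((18 : ℕ) : ℂ) = 18 by norm_num, ← hm]
    exact Finset.sum_congr rfl fun i _ => (sum_dihedralThree fun y => χ (f (i, y)) * (l (i, y) : ℂ)).symm
  obtain ⟨ap, hap⟩ := hom 1
  obtain ⟨am, ham⟩ := hom (sgn.comp (MonoidHom.snd _ _))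
  obtain ⟨bp, hbp⟩ := hom (lam.comp (MonoidHom.fst _ _))
  obtain ⟨bm, hbm⟩ := hom ((lam.comp (MonoidHom.fst _ _)) * (sgn.comp (MonoidHom.snd _ _)))
  simp only [sum_threeCyclic, hfs, hfr, v00, v01, v02, v10, v20, v11, v12, v21, v22, s0, s1, s2,
    MonoidHom.one_apply, MonoidHom.mul_apply, MonoidHom.comp_apply, MonoidHom.coe_snd, MonoidHom.coe_fst,
    Units.val_one, Units.val_mul, sgn, lam, threeHom, dihHom, MonoidHom.coe_mk, OneHom.coe_mk,
    toAdd_ofAdd, ZMod.val_zero, show (1 : ZMod 3).val = 1 from rfl, show (2 : ZMod 3).val = 2 from rfl,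
    pow_zero, pow_one, one_pow, mul_one, one_mul, Units.val_neg, Units.val_pow_eq_pow_val] at hap ham hbp hbm
  have eap : χ 1 + 4 * χ (X.e u) + 4 * χ (X.e (u + w)) + (3 * χ r + 6 * χ (X.e u * r))
      = 18 * (ap : ℂ) := by linear_combination hap
  have eam : χ 1 + 4 * χ (X.e u) + 4 * χ (X.e (u + w)) - (3 * χ r + 6 * χ (X.e u * r))
      = 18 * (am : ℂ) := by linear_combination ham
  have ebp : χ 1 + χ (X.e u) - 2 * χ (X.e (u + w)) + (3 * χ r - 3 * χ (X.e u * r))
      = 18 * (bp : ℂ) := by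
    linear_combination hbp - (χ (X.e u) + 2 * χ (X.e (u + w)) + 3 * χ (X.e u * r)) * hω
  have ebm : χ 1 + χ (X.e u) - 2 * χ (X.e (u + w)) - (3 * χ r - 3 * χ (X.e u * r))
      = 18 * (bm : ℂ) := by
    linear_combination hbm - (χ (X.e u) + 2 * χ (X.e (u + w)) - 3 * χ (X.e u * r)) * hω
  refine ⟨ap, am, bp, bm, eap, eam, ebp, ebm, fun hc => ?_⟩
  let g : C3 × Multiplicative (ZMod 2) →* C3 × DihedralGroup 3 :=
    MonoidHom.prodMap (MonoidHom.id _)
      { toFun := fun k => if k = 1 then 1 else .sr 0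
        map_one' := if_pos rfl
        map_mul' := by decide }
  obtain ⟨mw, hmw⟩ := multiplicity hχ (f.comp g)
    (((lam.comp (MonoidHom.fst _ _)) * (sgn.comp (MonoidHom.snd _ _))).comp g)
  rw [Fintype.sum_prod_type, sum_threeCyclic, show Nat.card (C3 × Multiplicative (ZMod 2)) = 6 by
    simp [Nat.card_prod, Nat.card_eq_fintype_card]] at hmw
  have huniv : ∀ F : Multiplicative (ZMod 2) → ℂ, ∑ k, F k = F (Multiplicative.ofAdd 0) + F (Multiplicative.ofAdd 1) := by
    intro F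
    rw [show (Finset.univ : Finset (Multiplicative (ZMod 2))) = {Multiplicative.ofAdd 0, Multiplicative.ofAdd 1}
      by decide, Finset.sum_insert (by decide), Finset.sum_singleton]
  have g0 : ∀ i, g (i, Multiplicative.ofAdd 0) = (i, DihedralGroup.r 0) := fun i => rfl
  have g1 : ∀ i, g (i, Multiplicative.ofAdd 1) = (i, DihedralGroup.sr 0) := fun i => rfl
  simp only [huniv, MonoidHom.comp_apply, g0, g1, hfs, hfr, v00, v10, v20, s0, s1, s2,
    MonoidHom.mul_apply, MonoidHom.coe_snd, MonoidHom.coe_fst, Units.val_one, Units.val_mul, sgn, lam,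
    threeHom, dihHom, MonoidHom.coe_mk, OneHom.coe_mk, toAdd_ofAdd, ZMod.val_zero,
    show (1 : ZMod 3).val = 1 from rfl, show (2 : ZMod 3).val = 2 from rfl, pow_zero, pow_one, one_pow,
    mul_one, one_mul, Units.val_neg, Units.val_pow_eq_pow_val, Nat.cast_ofNat] at hmw
  have emw : χ 1 - χ (X.e u) - χ r + χ (X.e u * r) = 6 * (mw : ℂ) := by
    linear_combination hmw - (χ (X.e u) - χ (X.e u * r)) * hω
  have hF : χ 1 - χ r = 2 * (((am + bp + bm + 2 * mw : ℕ)) : ℂ) := by
    push_cast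
    linear_combination (1 / 9 : ℂ) * (eam + ebp + ebm) + (2 / 3 : ℂ) * emw
  have := det_parity hχ r_sq hc hF
  rcases this with ⟨k, hk⟩
  exact ⟨k - mw, by omega⟩

end Cfsg.Agent.Solv.ThreeLocal
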