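import Mathlib
import Cfsg.Agent.Lib.Solv.ThreeLocal.Ctx

/-!
# Coordinates from the hypotheses on a Sylow subgroup
-/

set_option autoImplicit false

namespace Cfsg.Agent.Solv.ThreeLocal

universe u

variable {G : Type u} [Group G] [Finite G]

theorem val_cases : ∀ t : ZMod 3, t ≠ 0 → t.val = 1 ∨ t.val = 2 := by decide

/-- Coordinates for an elementary Sylow subgroup of order nine. -/
theorem exists_ctx (P : Sylow 3 G) {S : Subgroup G} (hSP : S = (P : Subgroup G)) (hcard : Nat.card S = 9)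
    (hexp : ∀ a ∈ S, a ^ 3 = 1)
    (hloc : ∀ s ∈ S, s ≠ 1 → Subgroup.centralizer ({s} : Set G) ≤ Subgroup.normalizer (S : Set G)) :
    ∃ X : Ctx G, X.S = S := by
  haveI : Fact (Nat.Prime 3) := ⟨Nat.prime_three⟩
  have hcomm : ∀ a ∈ S, ∀ b ∈ S, a * b = b * a := fun a ha b hb =>
    congrArg Subtype.val (IsPGroup.commutative_of_card_eq_prime_sq (p := 3) (G := ↥S)
      (by rw [hcard]; norm_num) ⟨a, ha⟩ ⟨b, hb⟩)
  obtain ⟨u, hu, hu1⟩ : ∃ u ∈ S, u ≠ 1 := by
    by_contra h
    push Not at h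
    rw [(Subgroup.eq_bot_iff_forall S).2 h, Subgroup.card_bot] at hcard
    norm_num at hcard
  obtain ⟨w, hw, hwu⟩ : ∃ w ∈ S, w ∉ Subgroup.zpowers u := by
    by_contra h
    push Not at h
    have := Subgroup.card_le_of_le (show S ≤ Subgroup.zpowers u from h)
    rw [hcard, Nat.card_zpowers, orderOf_eq_prime (hexp u hu) hu1] at this
    norm_num at this
  let e : Pl → G := fun v => u ^ v.1.val * w ^ v.2.val
  have hp : ∀ {g : G}, g ^ 3 = 1 → ∀ i j : ZMod 3, g ^ (i + j).val = g ^ i.val * g ^ j.val := by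
    intro g hg i j
    rw [← pow_add, ZMod.val_add, ← pow_eq_pow_mod _ hg]
  have hadd : ∀ v v', e (v + v') = e v * e v' := by
    intro v v'
    simp only [e, Prod.fst_add, Prod.snd_add, hp (hexp u hu), hp (hexp w hw)]
    have hc : Commute (u ^ v'.1.val) (w ^ v.2.val) := (show Commute u w from hcomm u hu w hw).pow_pow _ _
    rw [mul_assoc, ← mul_assoc (u ^ v'.1.val), hc.eq]
    simp only [mul_assoc]
  have hmem : ∀ v, e v ∈ S := fun v => S.mul_mem (S.pow_mem hu _) (S.pow_mem hw _)
  have h1 : e 0 = 1 := by simp [e]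
  have hinj : Function.Injective e := by
    intro v v' h
    by_contra hne
    have h2 : e (v - v') = 1 := by
      have := hadd (v - v') v'
      rw [sub_add_cancel, h] at this
      exact mul_right_cancel (this.symm.trans (one_mul _).symm)
    obtain ⟨i, j, hij, hd⟩ : ∃ i j : ZMod 3, (i, j) = v - v' ∧ (i, j) ≠ (0 : Pl) :=
      ⟨_, _, rfl, sub_ne_zero.2 hne⟩
    rw [← hij] at h2
    simp only [e] at h2
    have hz : j = 0 := by
      by_contra hj
      refine hwu ?_
      have hwj : w ^ j.val ∈ Subgroup.zpowers u := by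
        rw [eq_inv_of_mul_eq_one_right h2]
        exact inv_mem (Subgroup.pow_mem _ (Subgroup.mem_zpowers u) _)
      rcases val_cases j hj with e' | e' <;> rw [e'] at hwj
      · simpa using hwj
      · have := Subgroup.pow_mem _ hwj 2
        rwa [← pow_mul, show 2 * 2 = 3 + 1 from rfl, pow_succ, hexp w hw, one_mul] at this
    subst hz
    simp only [ZMod.val_zero, pow_zero, mul_one] at h2
    have hi : i ≠ 0 := fun hi => hd (by rw [hi]; rfl)
    rcases val_cases i hi with e' | e' <;> rw [e'] at h2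
    · exact hu1 (by simpa using h2)
    · have h3 := hexp u hu
      rw [pow_succ, h2, one_mul] at h3
      exact hu1 h3
  have hsurj : ∀ g, g ∈ S ↔ ∃ v, e v = g := by
    have hb : Function.Bijective (fun v => (⟨e v, hmem v⟩ : S)) := by
      rw [Nat.bijective_iff_injective_and_card]
      exact ⟨fun a b h => hinj (congrArg Subtype.val h), by rw [hcard]; simp [Pl, Nat.card_eq_fintype_card]⟩
    refine fun g => ⟨fun hg => ?_, fun ⟨v, hv⟩ => hv ▸ hmem v⟩
    obtain ⟨v, hv⟩ := hb.2 ⟨g, hg⟩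
    exact ⟨v, congrArg Subtype.val hv⟩
  refine ⟨{ e := e, e_add := hadd, inj := hinj, S := S, mem_iff := hsurj, loc := ?_, three := ?_ }, rfl⟩
  · intro v hv g hg
    refine hloc (e v) (hmem v) (fun h => hv (hinj (h.trans h1.symm))) ?_
    exact Subgroup.mem_centralizer_singleton_iff.2 hg
  · intro g hg hg3
    have hH : IsPGroup 3 (Subgroup.zpowers g) := by
      rintro ⟨x, hx⟩
      obtain ⟨k, rfl⟩ := Subgroup.mem_zpowers_iff.1 hx
      refine ⟨1, Subtype.ext ?_⟩
      show (g ^ k) ^ (3 ^ 1) = 1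
      rw [pow_one, ← zpow_natCast, ← zpow_mul, mul_comm, zpow_mul, zpow_natCast, hg3, one_zpow]
    have h2 := hH.inf_normalizer_sylow P
    have h3 : g ∈ Subgroup.zpowers g ⊓ Subgroup.normalizer ((P : Subgroup G) : Set G) :=
      ⟨Subgroup.mem_zpowers g, hSP ▸ hg⟩
    rw [hSP]
    exact (h2.le h3).2

end Cfsg.Agent.Solv.ThreeLocal
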