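import Cfsg.Agent.Lib.Solv.ThreeLocal.SixA

/-!
# Two classes with an automiser cyclic of order four: the order is 360
-/

set_option autoImplicit false
set_option linter.unusedSimpArgs false

namespace Cfsg.Agent.Solv.ThreeLocal

open Cfsg Cfsg.Agent.Char
open scoped ComplexConjugate

universe u

variable {G : Type u} [Group G] [Finite G] [Fintype G]

theorem recip_bound {g : ℤ} (h : g % 9 = 1) (h1 : g ≠ 1) : (-1 / 8 : ℚ) ≤ 1 / (g : ℚ) := by
  rcases lt_or_gt_of_ne (show g ≠ 0 by omega) with hn | hp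
  · have h8 : (g : ℚ) ≤ -8 := by exact_mod_cast (show g ≤ -8 by omega)
    rw [le_div_iff_of_neg (by linarith)]
    linarith
  · have : (0 : ℚ) < g := by exact_mod_cast hp
    have : 0 ≤ 1 / (g : ℚ) := by positivity
    linarith

/-- A perfect group with self-centralising elements of order three in two classes has order 360. -/
theorem card_of_cls [IsSimpleGroup G] (hnc : ¬ IsMulCommutative G) (hperf : commutator G = ⊤) (X : Ctx G)
    (hsemi : ∀ v, v ≠ 0 → Subgroup.centralizer ({X.e v} : Set G) = X.S) (hnn : ¬ X.S.Normal)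
    (hconj : ∀ v w, v ≠ 0 → (IsConj (X.e v) (X.e w) ↔ w ≠ 0 ∧ cls v = cls w)) :
    Nat.card G = 360 := by
  classical
  have hclass : ∀ (χ : IrrCharacter G) {v w : Pl}, v ≠ 0 → w ≠ 0 → cls v = cls w →
      (χ : G → ℂ) (X.e w) = (χ : G → ℂ) (X.e v) := by
    intro χ v w hv hw h
    obtain ⟨k, hk⟩ := isConj_iff.1 ((hconj v w hv).2 ⟨hw, h⟩)
    rw [← hk]
    exact isClassFunction_character (irr_isCharacter χ.2) _ k
  have hreal : ∀ (χ : IrrCharacter G) (v : Pl), (χ : G → ℂ) (X.e (-v)) = (χ : G → ℂ) (X.e v) := by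
    intro χ v
    rcases eq_or_ne v 0 with rfl | hv
    · rw [neg_zero]
    · exact hclass χ hv (neg_ne_zero.2 hv) ((show ∀ v : Pl, cls v = cls (-v) by decide) v)
  choose a b1 b2 b3 b4 ha h1 h2 h3 h4 using fun χ : IrrCharacter G =>
    X.plane_data (irr_isCharacter χ.2) (hreal χ)
  let p : IrrCharacter G → ℤ := fun χ => (a χ : ℤ) - b1 χ
  let q : IrrCharacter G → ℤ := fun χ => (a χ : ℤ) - b3 χ
  let V1 : IrrCharacter G → ℤ := fun χ => 2 * q χ - p χ
  let V2 : IrrCharacter G → ℤ := fun χ => 2 * p χ - q χ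
  have e01 : ∀ χ : IrrCharacter G, (χ : G → ℂ) (X.e (0, 1)) = (χ : G → ℂ) (X.e (1, 0)) := fun χ =>
    hclass χ pl10 (by decide) (by decide)
  have e12 : ∀ χ : IrrCharacter G, (χ : G → ℂ) (X.e (1, 2)) = (χ : G → ℂ) (X.e (1, 1)) := fun χ =>
    hclass χ (by decide) (by decide) (by decide)
  have hV1 : ∀ χ : IrrCharacter G, (χ : G → ℂ) (X.e (1, 0)) = (V1 χ : ℂ) := by
    intro χ
    have A := ha χ; have B := h1 χ; have C := h3 χ
    rw [e01, e12] at A B C
    simp only [V1, p, q, Int.cast_sub, Int.cast_mul, Int.cast_natCast, Int.cast_ofNat]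
    linear_combination (1 / 9 : ℂ) * (2 * (A - C) - (A - B))
  have hV2 : ∀ χ : IrrCharacter G, (χ : G → ℂ) (X.e (1, 1)) = (V2 χ : ℂ) := by
    intro χ
    have A := ha χ; have B := h1 χ; have C := h3 χ
    rw [e01, e12] at A B C
    simp only [V2, p, q, Int.cast_sub, Int.cast_mul, Int.cast_natCast, Int.cast_ofNat]
    linear_combination (1 / 9 : ℂ) * (2 * (A - B) - (A - C))
  have hres : ∀ χ : IrrCharacter G, (deg (χ : G → ℂ) : ℤ) + 4 * (V1 χ + V2 χ) = 9 * (a χ : ℤ) := by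
    intro χ
    have A := ha χ
    rw [e01, e12, hV1, hV2, value_one] at A
    have : ((((deg (χ : G → ℂ) : ℤ) + 4 * (V1 χ + V2 χ) : ℤ)) : ℂ) = ((9 * (a χ : ℤ) : ℤ) : ℂ) := by
      push_cast at A ⊢
      linear_combination A
    exact_mod_cast this
  have hcard : ∀ v, v ≠ 0 → Nat.card (Subgroup.centralizer ({X.e v} : Set G)) = 9 := fun v hv => by
    rw [hsemi v hv, X.card_S]
  have h11 : ((1, 1) : Pl) ≠ 0 := by decide
  have o11 : ∑ χ, V1 χ * V1 χ = 9 := by
    rw [int_orth _ _ V1 V1 hV1 hV1, if_pos (IsConj.refl _), hcard _ pl10]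
    rfl
  have o22 : ∑ χ, V2 χ * V2 χ = 9 := by
    rw [int_orth _ _ V2 V2 hV2 hV2, if_pos (IsConj.refl _), hcard _ h11]
    rfl
  have o12 : ∑ χ, V1 χ * V2 χ = 0 := by
    rw [int_orth _ _ V1 V2 hV1 hV2, if_neg]
    intro h
    exact absurd ((hconj _ _ pl10).1 h).2 (by decide)
  have d1 : ∑ χ : IrrCharacter G, (deg (χ : G → ℂ) : ℤ) * V1 χ = 0 :=
    deg_orth (fun h => pl10 (X.e_eq_one_iff.1 h)) _ hV1
  have d2 : ∑ χ : IrrCharacter G, (deg (χ : G → ℂ) : ℤ) * V2 χ = 0 :=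
    deg_orth (fun h => h11 (X.e_eq_one_iff.1 h)) _ hV2
  have gpp : ∑ χ, p χ * p χ = 5 := by
    have : 9 * ∑ χ, p χ * p χ = ∑ χ, (V1 χ * V1 χ + 4 * (V1 χ * V2 χ) + 4 * (V2 χ * V2 χ)) := by
      rw [Finset.mul_sum]; exact Finset.sum_congr rfl fun χ _ => by simp only [V1, V2]; ring
    simp only [Finset.sum_add_distrib, ← Finset.mul_sum, o11, o22, o12] at this
    omega
  have gqq : ∑ χ, q χ * q χ = 5 := by
    have : 9 * ∑ χ, q χ * q χ = ∑ χ, (4 * (V1 χ * V1 χ) + 4 * (V1 χ * V2 χ) + V2 χ * V2 χ) := by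
      rw [Finset.mul_sum]; exact Finset.sum_congr rfl fun χ _ => by simp only [V1, V2]; ring
    simp only [Finset.sum_add_distrib, ← Finset.mul_sum, o11, o22, o12] at this
    omega
  have gpq : ∑ χ, p χ * q χ = 4 := by
    have : 9 * ∑ χ, p χ * q χ = ∑ χ, (2 * (V1 χ * V1 χ) + 5 * (V1 χ * V2 χ) + 2 * (V2 χ * V2 χ)) := by
      rw [Finset.mul_sum]; exact Finset.sum_congr rfl fun χ _ => by simp only [V1, V2]; ring
    simp only [Finset.sum_add_distrib, ← Finset.mul_sum, o11, o22, o12] at this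
    omega
  have dp : ∑ χ : IrrCharacter G, (deg (χ : G → ℂ) : ℤ) * p χ = 0 := by
    have : 3 * ∑ χ : IrrCharacter G, (deg (χ : G → ℂ) : ℤ) * p χ = ∑ χ : IrrCharacter G,
        ((deg (χ : G → ℂ) : ℤ) * V1 χ + 2 * ((deg (χ : G → ℂ) : ℤ) * V2 χ)) := by
      rw [Finset.mul_sum]; exact Finset.sum_congr rfl fun χ _ => by simp only [V1, V2]; ring
    simp only [Finset.sum_add_distrib, ← Finset.mul_sum, d1, d2] at this
    omega
  have dq : ∑ χ : IrrCharacter G, (deg (χ : G → ℂ) : ℤ) * q χ = 0 := by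
    have : 3 * ∑ χ : IrrCharacter G, (deg (χ : G → ℂ) : ℤ) * q χ = ∑ χ : IrrCharacter G,
        (2 * ((deg (χ : G → ℂ) : ℤ) * V1 χ) + (deg (χ : G → ℂ) : ℤ) * V2 χ) := by
      rw [Finset.mul_sum]; exact Finset.sum_congr rfl fun χ _ => by simp only [V1, V2]; ring
    simp only [Finset.sum_add_distrib, ← Finset.mul_sum, d1, d2] at this
    omega
  have hpone : p (one : IrrCharacter G) = 1 ∧ q (one : IrrCharacter G) = 1 := by
    have k1 := hV1 (one : IrrCharacter G)
    have k2 := hV2 (one : IrrCharacter G)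
    rw [one_apply] at k1 k2
    have n1 : V1 (one : IrrCharacter G) = 1 := by exact_mod_cast k1.symm
    have n2 : V2 (one : IrrCharacter G) = 1 := by exact_mod_cast k2.symm
    simp only [V1, V2] at n1 n2
    omega
  let c : IrrCharacter G → Vec := fun χ => (p χ, q χ, 0, 0)
  set s := (Finset.univ : Finset (IrrCharacter G)).erase one with hs
  have hgram : ∑ χ ∈ s, outer (c χ) = gramFour := by
    have h := Finset.add_sum_erase (Finset.univ : Finset (IrrCharacter G)) (fun χ => outer (c χ))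
      (Finset.mem_univ one)
    rw [← hs, sum_outer Finset.univ c] at h
    simp only [c, gpp, gqq, gpq, hpone, outer, mul_one, mul_zero, zero_mul, Finset.sum_const_zero] at h ⊢
    rw [← eq_sub_iff_add_eq'] at h
    rw [h]
    rfl
  obtain ⟨hmem, hsum⟩ := rows s c gramFour hgram (by simp [gramFour, Tight])
  obtain ⟨li, hmap, hli, hF⟩ := named_rows s c confFour (classify_four hmem hsum)
  simp only [confFour, List.map_eq_cons_iff, List.map_eq_nil_iff] at hmap
  obtain ⟨j1, l0, rfl, t1, j2, l1, rfl, t2, j3, l2, rfl, t3, iB, l3, rfl, tB, iA, l4, rfl, tA, rfl⟩ := hmap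
  have hzero : ∀ χ : IrrCharacter G, c χ = 0 → p χ = 0 ∧ q χ = 0 := by
    intro χ h
    simp only [c, Prod.mk_eq_zero] at h
    exact ⟨h.1, h.2.1⟩
  have hsplit : ∀ {M : Type} [AddCommMonoid M] (F : IrrCharacter G → M), (∀ χ, c χ = 0 → F χ = 0) →
      ∑ χ, F χ = F one + (F j1 + (F j2 + (F j3 + (F iB + F iA)))) := by
    intro M _ F h
    rw [← Finset.add_sum_erase _ F (Finset.mem_univ one), ← hs, hF F fun i _ => h i]
    simp
  have row : ∀ (i : IrrCharacter G) (x y : ℤ), canOf (c i) = (x, y, 0, 0) →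
      p i = sgnOf (c i) * x ∧ q i = sgnOf (c i) * y := by
    intro i x y h
    have e := vec_eq h
    simp only [c, Prod.mk.injEq] at e
    exact ⟨e.1, e.2.1⟩
  obtain ⟨p1, q1⟩ := row j1 _ _ t1
  obtain ⟨p2, q2⟩ := row j2 _ _ t2
  obtain ⟨p3, q3⟩ := row j3 _ _ t3
  obtain ⟨pB, qB⟩ := row iB _ _ tB
  obtain ⟨pA, qA⟩ := row iA _ _ tA
  let f : IrrCharacter G → ℤ := fun i => sgnOf (c i) * (deg (i : G → ℂ) : ℤ)
  rw [hsplit _ fun χ h => by rw [(hzero χ h).1, mul_zero], hpone.1, deg_one, p1, p2, p3, pB, pA] at dp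
  rw [hsplit _ fun χ h => by rw [(hzero χ h).2, mul_zero], hpone.2, deg_one, q1, q2, q3, qB, qA] at dq
  have hAB : f iB = f iA := by simp only [f]; linear_combination dq - dp
  have hdeg2 : ∀ i : IrrCharacter G, i ∈ s → 2 ≤ (deg (i : G → ℂ) : ℤ) := fun i hi => by
    exact_mod_cast two_le_deg hperf (Finset.ne_of_mem_erase hi)
  have hjmod : ∀ i, p i = sgnOf (c i) * 1 → q i = sgnOf (c i) * 1 → i ∈ s → f i % 9 = 1 ∧ f i ≠ 1 := by
    intro i hp hq hi
    have h := hres i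
    have h2 := hdeg2 i hi
    simp only [V1, V2, hp, hq] at h
    simp only [f]
    rcases sgnOf_cases (c i) with e | e <;> rw [e] at h ⊢ <;> omega
  obtain ⟨m1, n1⟩ := hjmod j1 p1 q1 (hli j1 (by simp)).1
  obtain ⟨m2, n2⟩ := hjmod j2 p2 q2 (hli j2 (by simp)).1
  obtain ⟨m3, n3⟩ := hjmod j3 p3 q3 (hli j3 (by simp)).1
  have hA5 : f iA % 9 = 5 ∧ f iA ≠ 0 := by
    have h := hres iA
    have h2 := hdeg2 iA (hli iA (by simp)).1
    simp only [V1, V2, pA, qA] at h
    simp only [f]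
    rcases sgnOf_cases (c iA) with e | e <;> rw [e] at h ⊢ <;> omega
  -- the coefficients
  have hne : ¬ (IsConj (X.e (1, 0)) (X.e (1, 0)) ∧ IsConj (X.e (-((1 : ZMod 3), (0 : ZMod 3)))) (X.e (1, 1))) :=
    fun h => absurd ((hconj _ _ (by decide)).1 h.2).2 (by decide)
  have hc1 := X.coef_rat (p := (1, 0)) (q := (1, 0)) (z := (1, 1)) h11 hne
    (fun v => (v ≠ 0 ∧ cls (1, 0) = cls v) ∧ ((1, 1) - v ≠ 0 ∧ cls (1, 0) = cls ((1, 1) - v)))
    (fun v => and_congr (hconj _ _ pl10).symm (hconj _ _ pl10).symm) hV1 hV1 hV2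
  have hc2 := X.coef_rat_ge (1, 0) (1, 0) (1, 0)
    (fun v => (v ≠ 0 ∧ cls (1, 0) = cls v) ∧ ((1, 0) - v ≠ 0 ∧ cls (1, 0) = cls ((1, 0) - v)))
    (fun v => and_congr (hconj _ _ pl10).symm (hconj _ _ pl10).symm) hV1 hV1 hV1
  rw [hcard _ pl10, hsplit _ fun χ h => by simp [V1, V2, hzero χ h]] at hc1 hc2
  rw [show (Finset.univ.filter fun v : Pl =>
    (v ≠ 0 ∧ cls (1, 0) = cls v) ∧ ((1, 1) - v ≠ 0 ∧ cls (1, 0) = cls ((1, 1) - v))).card = 2 by decide] at hc1
  rw [show (Finset.univ.filter fun v : Pl =>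
    (v ≠ 0 ∧ cls (1, 0) = cls v) ∧ ((1, 0) - v ≠ 0 ∧ cls (1, 0) = cls ((1, 0) - v))).card = 1 by decide] at hc2
  have hv : ∀ i (x y : ℤ), p i = sgnOf (c i) * x → q i = sgnOf (c i) * y →
      V1 i = sgnOf (c i) * (2 * y - x) ∧ V2 i = sgnOf (c i) * (2 * x - y) := by
    intro i x y k0 k1
    simp only [V1, V2, k0, k1]
    exact ⟨by ring, by ring⟩
  obtain ⟨A1, B1⟩ := hv j1 _ _ p1 q1
  obtain ⟨A2, B2⟩ := hv j2 _ _ p2 q2
  obtain ⟨A3, B3⟩ := hv j3 _ _ p3 q3
  obtain ⟨AB, BB⟩ := hv iB _ _ pB qB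
  obtain ⟨AA, BA⟩ := hv iA _ _ pA qA
  have hV1one : V1 (one : IrrCharacter G) = 1 := by simp [V1, hpone]
  have hV2one : V2 (one : IrrCharacter G) = 1 := by simp [V2, hpone]
  have hfi : ∀ i, sgnOf (c i) * (deg (i : G → ℂ) : ℤ) = f i := fun i => rfl
  simp only [A1, B1, A2, B2, A3, B3, AB, BB, AA, BA, hV1one, hV2one, deg_one,
    term_div _ _ _ _ _ (sgnOf_cases _), hfi, hAB] at hc1 hc2
  set F := f iA with hFdef
  push_cast at hc1 hc2
  set T : ℚ := 1 + (1 / (f j1 : ℚ) + (1 / (f j2 : ℚ) + 1 / (f j3 : ℚ))) with hT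
  have E1 : (Nat.card G : ℚ) * (T - 2 / (F : ℚ)) = 162 := by
    rw [hT]; linear_combination hc1
  have E2 : 81 ≤ (Nat.card G : ℚ) * (T + 7 / (F : ℚ)) := by
    refine le_of_le_of_eq (le_of_eq_of_le (by norm_num) hc2) ?_
    rw [hT]; ring
  have hG0 : (0 : ℚ) < Nat.card G := by exact_mod_cast Nat.card_pos
  have hle : Nat.card G ≤ 720 := by
    rcases lt_or_gt_of_ne hA5.2 with hn | hp
    · have hnF : (F : ℚ) < 0 := by exact_mod_cast hn
      have h9 : -81 ≤ (Nat.card G : ℚ) * 9 / (F : ℚ) := by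
        have : (Nat.card G : ℚ) * 9 / (F : ℚ) =
            (Nat.card G : ℚ) * (T + 7 / (F : ℚ)) - (Nat.card G : ℚ) * (T - 2 / (F : ℚ)) := by ring
        rw [this]; linarith
      rw [le_div_iff_of_neg hnF] at h9
      have h9' : (Nat.card G : ℤ) * 9 ≤ -81 * F := by exact_mod_cast h9
      have hsq : 2 * F ^ 2 ≤ (Nat.card G : ℤ) := by
        have hne2 : iA ≠ iB := by
          intro e
          rw [e] at pA
          rw [pB] at pA
          rcases sgnOf_cases (c iB) with e' | e' <;> rw [e'] at pA <;> omega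
        rw [← sum_deg_sq]
        refine le_trans ?_ (Finset.sum_le_sum_of_subset_of_nonneg (Finset.subset_univ {iA, iB})
          fun i _ _ => mul_self_nonneg _)
        rw [Finset.sum_pair hne2]
        have hsq' : ∀ i : IrrCharacter G, (deg (i : G → ℂ) : ℤ) * (deg (i : G → ℂ) : ℤ) = f i ^ 2 := fun i => by
          simp only [f]
          rw [mul_pow, pow_two (sgnOf _), sgnOf_sq, one_mul, pow_two]
        rw [hsq', hsq', hAB]
        linarith
      have : (Nat.card G : ℤ) ≤ 720 := by nlinarith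
      exact_mod_cast this
    · have hpF : (5 : ℚ) ≤ (F : ℚ) := by exact_mod_cast (show (5 : ℤ) ≤ F by omega)
      have h25 : 2 / (F : ℚ) ≤ 2 / 5 := div_le_div_of_nonneg_left (by norm_num) (by norm_num) hpF
      have hT5 : (9 / 40 : ℚ) ≤ T - 2 / (F : ℚ) := by
        have := recip_bound m1 n1
        have := recip_bound m2 n2
        have := recip_bound m3 n3
        rw [hT]; linarith
      have : (Nat.card G : ℚ) ≤ 720 := by nlinarith
      exact_mod_cast this
  -- the normaliser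
  have hN : Nat.card (Subgroup.normalizer (X.S : Set G)) = 36 := by
    rw [X.card_normalizer pl10 (Finset.univ.filter fun w => w ≠ 0 ∧ cls (1, 0) = cls w)
      (fun w => by rw [hconj _ _ pl10]; simp), hcard _ pl10,
      show (Finset.univ.filter fun w : Pl => w ≠ 0 ∧ cls (1, 0) = cls w).card = 4 by decide]
  obtain ⟨k, hk⟩ := X.exists_card_eq
  rw [hN] at hk
  have hlist := Cfsg.Agent.S0496.result hnc (by omega)
  omega

/-- The order of a simple group with elementary Sylow subgroups of order nine, self-centralising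
elements of order three and more than one class of these. -/
theorem card_eq_360 [IsSimpleGroup G] (X : Ctx G) (P : Sylow 3 G) (hP : (P : Subgroup G) = X.S)
    (hsemi : ∀ v, v ≠ 0 → Subgroup.centralizer ({X.e v} : Set G) = X.S)
    (hcl : ∃ v w : Pl, v ≠ 0 ∧ w ≠ 0 ∧ ¬ IsConj (X.e v) (X.e w)) : Nat.card G = 360 := by
  have h9 : 9 ∣ Nat.card G := X.card_S ▸ Subgroup.card_subgroup_dvd_card _
  have hna : ¬ IsMulCommutative G := Small.SmallOrders.not_comm_of_card fun hp => by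
    have h3 : 3 = Nat.card G := (Nat.prime_dvd_prime_iff_eq Nat.prime_three hp).1 (dvd_trans (by norm_num) h9)
    rw [← h3] at h9
    norm_num at h9
  have hperf : commutator G = ⊤ := by
    refine (IsSimpleGroup.eq_bot_or_eq_top_of_normal _ inferInstance).resolve_left fun h => hna ?_
    refine ⟨⟨fun a b => ?_⟩⟩
    have hm := Subgroup.commutator_mem_commutator (Subgroup.mem_top a) (Subgroup.mem_top b)
    rw [← commutator_def, h, Subgroup.mem_bot] at hm
    exact commutatorElement_eq_one_iff_mul_comm.mp hm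
  have hnn : ¬ X.S.Normal := by
    intro hn
    rcases hn.eq_bot_or_eq_top with h | h
    · have := X.card_S
      rw [h, Subgroup.card_bot] at this
      norm_num at this
    · exact hna ⟨⟨fun a b => by
        obtain ⟨s, rfl⟩ := (X.mem_iff a).1 (h ▸ Subgroup.mem_top a)
        obtain ⟨t, rfl⟩ := (X.mem_iff b).1 (h ▸ Subgroup.mem_top b)
        exact X.e_comm s t⟩⟩
  rcases semi_classes hna X P hP hsemi hcl with h | ⟨L, h⟩
  · exact (no_four_classes hperf X hsemi hnn h).elim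
  · exact card_of_cls hna hperf (X.rebase L)
      (fun v hv => hsemi (L v) fun e => hv (L.injective (e.trans (map_zero L).symm))) hnn h

end Cfsg.Agent.Solv.ThreeLocal
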