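import Mathlib
import Cfsg.Agent.Lib.Solv.ThreeLocal.Data

/-!
# Multiplicities in the restriction of a character to the plane
-/

set_option autoImplicit false

namespace Cfsg.Agent.Solv.ThreeLocal

open Cfsg Cfsg.Agent.Char
open scoped ComplexConjugate

universe u

variable {G : Type u} [Group G] [Finite G]

theorem sum_zmodThree {M : Type*} [AddCommMonoid M] (F : ZMod 3 → M) :
    ∑ i, F i = F 0 + F 1 + F 2 := by
  rw [show (Finset.univ : Finset (ZMod 3)) = {0, 1, 2} by decide,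
    Finset.sum_insert (by decide), Finset.sum_insert (by decide), Finset.sum_singleton, add_assoc]

/-- The linear form given by `k`. -/
def form (k v : Pl) : ZMod 3 := k.1 * v.1 + k.2 * v.2

theorem sum_plane (F : Pl → ℂ) :
    ∑ v : Multiplicative Pl, F v.toAdd =
      F (0, 0) + F (0, 1) + F (0, 2) + (F (1, 0) + F (1, 1) + F (1, 2)) + (F (2, 0) + F (2, 1) + F (2, 2)) := by
  rw [Fintype.sum_equiv Multiplicative.toAdd (fun v : Multiplicative Pl => F v.toAdd) F (fun _ => rfl),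
    Fintype.sum_prod_type, sum_zmodThree, sum_zmodThree, sum_zmodThree, sum_zmodThree]

/-- The multiplicity of each linear character of the plane. -/
theorem Ctx.plane_mult (X : Ctx G) {χ : G → ℂ} (hχ : IsCharacter G χ) (k : Pl) :
    ∃ ω : ℂ, ω ^ 2 + ω + 1 = 0 ∧ ∃ m : ℕ,
      χ (X.e (0, 0)) * ω ^ (form k (0, 0)).val + χ (X.e (0, 1)) * ω ^ (form k (0, 1)).val +
        χ (X.e (0, 2)) * ω ^ (form k (0, 2)).val +
      (χ (X.e (1, 0)) * ω ^ (form k (1, 0)).val + χ (X.e (1, 1)) * ω ^ (form k (1, 1)).val +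
        χ (X.e (1, 2)) * ω ^ (form k (1, 2)).val) +
      (χ (X.e (2, 0)) * ω ^ (form k (2, 0)).val + χ (X.e (2, 1)) * ω ^ (form k (2, 1)).val +
        χ (X.e (2, 2)) * ω ^ (form k (2, 2)).val) = 9 * (m : ℂ) := by
  obtain ⟨ω, hω3, hω⟩ := exists_omega
  refine ⟨ω, hω, ?_⟩
  let f : Multiplicative Pl →* G :=
    { toFun := fun v => X.e v.toAdd
      map_one' := by rw [toAdd_one, X.e_zero]
      map_mul' := fun v w => by rw [toAdd_mul, X.e_add] }
  let l : Multiplicative Pl →* ℂˣ :=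
    { toFun := fun v => ω ^ (form k v.toAdd).val
      map_one' := by simp [form]
      map_mul' := fun v w => by
        rw [← zmod_pow_add (N := 3) hω3, toAdd_mul]
        congr 2
        simp only [form, Prod.fst_add, Prod.snd_add]
        ring }
  obtain ⟨m, hm⟩ := multiplicity hχ f l
  refine ⟨m, ?_⟩
  rw [show Nat.card (Multiplicative Pl) = 9 by simp [Nat.card_eq_fintype_card, Pl]] at hm
  have h1 := sum_plane fun v => χ (X.e v) * ((ω ^ (form k v).val : ℂˣ) : ℂ)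
  rw [show (∑ v : Multiplicative Pl, χ (f v) * (l v : ℂ)) =
    ∑ v : Multiplicative Pl, χ (X.e v.toAdd) * ((ω ^ (form k v.toAdd).val : ℂˣ) : ℂ) from rfl, h1] at hm
  simpa [Units.val_pow_eq_pow_val] using hm

/-- The multiplicities when every element of the plane is conjugate to its inverse. -/
theorem Ctx.plane_data (X : Ctx G) {χ : G → ℂ} (hχ : IsCharacter G χ)
    (hreal : ∀ v, χ (X.e (-v)) = χ (X.e v)) :
    ∃ a b1 b2 b3 b4 : ℕ,
      χ 1 + 2 * (χ (X.e (1, 0)) + χ (X.e (0, 1)) + χ (X.e (1, 1)) + χ (X.e (1, 2))) = 9 * (a : ℂ) ∧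
      χ 1 + 2 * χ (X.e (1, 0)) - (χ (X.e (0, 1)) + χ (X.e (1, 1)) + χ (X.e (1, 2))) = 9 * (b1 : ℂ) ∧
      χ 1 + 2 * χ (X.e (0, 1)) - (χ (X.e (1, 0)) + χ (X.e (1, 1)) + χ (X.e (1, 2))) = 9 * (b2 : ℂ) ∧
      χ 1 + 2 * χ (X.e (1, 1)) - (χ (X.e (1, 0)) + χ (X.e (0, 1)) + χ (X.e (1, 2))) = 9 * (b3 : ℂ) ∧
      χ 1 + 2 * χ (X.e (1, 2)) - (χ (X.e (1, 0)) + χ (X.e (0, 1)) + χ (X.e (1, 1))) = 9 * (b4 : ℂ) := by
  have e0 : X.e (0, 0) = 1 := X.e_zero
  have r01 : χ (X.e (0, 2)) = χ (X.e (0, 1)) := hreal (0, 1)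
  have r10 : χ (X.e (2, 0)) = χ (X.e (1, 0)) := hreal (1, 0)
  have r11 : χ (X.e (2, 2)) = χ (X.e (1, 1)) := hreal (1, 1)
  have r12 : χ (X.e (2, 1)) = χ (X.e (1, 2)) := hreal (1, 2)
  obtain ⟨ω, hω, a, ha⟩ := X.plane_mult hχ (0, 0)
  obtain ⟨ω1, hω1, b1, hb1⟩ := X.plane_mult hχ (0, 1)
  obtain ⟨ω2, hω2, b2, hb2⟩ := X.plane_mult hχ (1, 0)
  obtain ⟨ω3, hω3, b3, hb3⟩ := X.plane_mult hχ (1, 2)
  obtain ⟨ω4, hω4, b4, hb4⟩ := X.plane_mult hχ (1, 1)
  simp (config := { decide := true }) only [form, e0, r01, r10, r11, r12, zero_mul, one_mul, mul_zero,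
    mul_one, add_zero, zero_add, show (2 : ZMod 3) * 2 = 1 from rfl, show (2 : ZMod 3) * 1 = 2 from rfl,
    show (1 : ZMod 3) + 1 = 2 from rfl, show (2 : ZMod 3) + 1 = 0 from rfl, show (1 : ZMod 3) + 2 = 0 from rfl,
    show (2 : ZMod 3) + 2 = 1 from rfl, ZMod.val_zero, show (1 : ZMod 3).val = 1 from rfl,
    show (2 : ZMod 3).val = 2 from rfl, pow_zero, pow_one] at ha hb1 hb2 hb3 hb4
  refine ⟨a, b1, b2, b3, b4, ?_, ?_, ?_, ?_, ?_⟩
  · linear_combination ha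
  · linear_combination hb1 - (χ (X.e (0, 1)) + χ (X.e (1, 1)) + χ (X.e (1, 2))) * hω1
  · linear_combination hb2 - (χ (X.e (1, 0)) + χ (X.e (1, 1)) + χ (X.e (1, 2))) * hω2
  · linear_combination hb3 - (χ (X.e (1, 0)) + χ (X.e (0, 1)) + χ (X.e (1, 2))) * hω3
  · linear_combination hb4 - (χ (X.e (1, 0)) + χ (X.e (0, 1)) + χ (X.e (1, 1))) * hω4

end Cfsg.Agent.Solv.ThreeLocal
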