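import Mathlib
import Cfsg.Agent.Lib.Solv.ThreeLocal.Ctx
import Cfsg.Agent.Lib.Solv.ThreeLocal.Data

/-!
# Change of coordinates, orthogonality and elementary facts
-/

set_option autoImplicit false

namespace Cfsg.Agent.Solv.ThreeLocal

open Cfsg Cfsg.Agent.Char
open scoped ComplexConjugate

universe u

variable {G : Type u} [Group G]

/-- Change of coordinates. -/
def Ctx.rebase (X : Ctx G) (L : Pl ≃+ Pl) : Ctx G where
  e v := X.e (L v)
  e_add v w := by rw [map_add, X.e_add]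
  inj := X.inj.comp L.injective
  S := X.S
  mem_iff g := (X.mem_iff g).trans ⟨fun ⟨v, hv⟩ => ⟨L.symm v, by rw [L.apply_symm_apply]; exact hv⟩,
    fun ⟨v, hv⟩ => ⟨L v, hv⟩⟩
  loc v hv := X.loc (L v) fun h => hv (L.injective (h.trans (map_zero L).symm))
  three := X.three

variable [Finite G]

/-- Conjugation by an element of the normaliser, in coordinates. -/
theorem Ctx.exists_act (X : Ctx G) {g : G} (hg : g ∈ Subgroup.normalizer (X.S : Set G)) :
    ∃ L : Pl ≃+ Pl, ∀ v, g * X.e v * g⁻¹ = X.e (L v) := by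
  have h : ∀ v, ∃ w, g * X.e v * g⁻¹ = X.e w := fun v => by
    obtain ⟨w, hw⟩ := (X.mem_iff _).1 ((Subgroup.mem_normalizer_iff.1 hg _).1 (X.e_mem v))
    exact ⟨w, hw.symm⟩
  choose f hf using h
  have hadd : ∀ v w, f (v + w) = f v + f w := fun v w => X.inj (by
    rw [← hf, X.e_add, X.e_add, ← hf, ← hf]
    group)
  have hinj : Function.Injective f := fun v w h => X.inj (by
    have := (hf v).trans ((congrArg X.e h).trans (hf w).symm)
    exact mul_left_cancel (mul_right_cancel this))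
  exact ⟨AddEquiv.ofBijective (AddMonoidHom.mk' f hadd) (Finite.injective_iff_bijective.1 hinj), hf⟩

theorem Ctx.exists_of_isConj (X : Ctx G) {v w : Pl} (hv : v ≠ 0) (h : IsConj (X.e v) (X.e w)) :
    ∃ g ∈ Subgroup.normalizer (X.S : Set G), g * X.e v * g⁻¹ = X.e w := by
  obtain ⟨g, hg⟩ := isConj_iff.1 h
  exact ⟨g, X.fusion hv hg, hg⟩

theorem Ctx.not_isConj_zero (X : Ctx G) {v : Pl} (hv : v ≠ 0) : ¬ IsConj (1 : G) (X.e v) := fun h =>
  hv (X.e_eq_one_iff.1 (isConj_one_right.1 h))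

open scoped Classical in
/-- The order of the normaliser from an orbit and a centraliser. -/
theorem Ctx.card_normalizer (X : Ctx G) {v : Pl} (hv : v ≠ 0) (O : Finset Pl)
    (hO : ∀ w, w ∈ O ↔ IsConj (X.e v) (X.e w)) :
    Nat.card (Subgroup.normalizer (X.S : Set G)) =
      O.card * Nat.card (Subgroup.centralizer ({X.e v} : Set G)) := by
  haveI := Fintype.ofFinite G
  set F := (Finset.univ : Finset G).filter fun g => g ∈ Subgroup.normalizer (X.S : Set G) with hF
  have hFc : F.card = Nat.card (Subgroup.normalizer (X.S : Set G)) := by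
    rw [Nat.card_eq_fintype_card, Fintype.card_subtype]
  have hdec : F = O.biUnion fun w => (Finset.univ : Finset G).filter fun g => g * X.e v * g⁻¹ = X.e w := by
    ext g
    simp only [hF, Finset.mem_filter, Finset.mem_univ, true_and, Finset.mem_biUnion]
    constructor
    · intro hg
      obtain ⟨L, hL⟩ := X.exists_act hg
      exact ⟨L v, (hO _).2 (isConj_iff.2 ⟨g, hL v⟩), hL v⟩
    · rintro ⟨w, -, hw⟩
      exact X.fusion hv hw
  rw [← hFc, hdec, Finset.card_biUnion]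
  · exact Finset.sum_const_nat fun w hw => card_conjugators ((hO w).1 hw)
  · intro w _ w' _ hww
    refine Finset.disjoint_left.2 fun g h1 h2 => hww (X.inj ?_)
    simp only [Finset.mem_filter, Finset.mem_univ, true_and] at h1 h2
    exact h1.symm.trans h2

/-- The order of the group is the order of the normaliser times a number that is one modulo nine. -/
theorem Ctx.exists_card_eq (X : Ctx G) :
    ∃ k : ℕ, Nat.card G = Nat.card (Subgroup.normalizer (X.S : Set G)) * (9 * k + 1) := by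
  refine ⟨(Subgroup.normalizer (X.S : Set G)).index / 9, ?_⟩
  have h := X.index_mod_nine
  rw [show 9 * ((Subgroup.normalizer (X.S : Set G)).index / 9) + 1 =
    (Subgroup.normalizer (X.S : Set G)).index by omega, Subgroup.card_mul_index]

section Chars

variable [Fintype G]

open scoped Classical in
theorem col_orth (g h : G) :
    ∑ χ : IrrCharacter G, (χ : G → ℂ) g * conj ((χ : G → ℂ) h) =
      if IsConj g h then (Nat.card (Subgroup.centralizer ({h} : Set G)) : ℂ) else 0 := by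
  rw [second_orth]
  congr 1
  rw [← card_conjClass_mul_centralizer h, Nat.cast_mul,
    mul_div_cancel_left₀ _ (Nat.cast_ne_zero.2 (card_conjClass_ne_zero h))]

open scoped Classical in
/-- Orthogonality of two integral columns. -/
theorem int_orth (g h : G) (a b : IrrCharacter G → ℤ) (ha : ∀ χ : IrrCharacter G, (χ : G → ℂ) g = (a χ : ℂ))
    (hb : ∀ χ : IrrCharacter G, (χ : G → ℂ) h = (b χ : ℂ)) :
    ∑ χ, a χ * b χ = if IsConj g h then (Nat.card (Subgroup.centralizer ({h} : Set G)) : ℤ) else 0 := by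
  have h1 := col_orth g h
  rw [Finset.sum_congr rfl fun χ _ => by rw [ha χ, hb χ, map_intCast]] at h1
  split_ifs at h1 ⊢ <;> exact_mod_cast h1

theorem value_one (χ : IrrCharacter G) : (χ : G → ℂ) 1 = ((deg (χ : G → ℂ) : ℤ) : ℂ) := by
  rw [char_one_eq_deg (irr_isCharacter χ.2)]
  simp

theorem sum_deg_sq : ∑ χ : IrrCharacter G, (deg (χ : G → ℂ) : ℤ) * (deg (χ : G → ℂ) : ℤ) = Nat.card G := by
  have h := sum_sq_deg (G := G)
  rw [Finset.sum_congr rfl fun χ _ => by rw [value_one χ, pow_two]] at h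
  exact_mod_cast h

/-- The degree column is orthogonal to the others. -/
theorem deg_orth {g : G} (hg : g ≠ 1) (a : IrrCharacter G → ℤ)
    (ha : ∀ χ : IrrCharacter G, (χ : G → ℂ) g = (a χ : ℂ)) :
    ∑ χ : IrrCharacter G, (deg (χ : G → ℂ) : ℤ) * a χ = 0 := by
  rw [Finset.sum_congr rfl fun χ _ => mul_comm _ _,
    int_orth g 1 a (fun χ => (deg (χ : G → ℂ) : ℤ)) ha value_one,
    if_neg fun h => hg (isConj_one_left.1 h)]

/-- The trivial character. -/
noncomputable def one : IrrCharacter G :=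
  ⟨fun g => ((1 : G →* ℂˣ) g : ℂ), isIrrCharacter_linear (1 : G →* ℂˣ)⟩

theorem one_apply (g : G) : ((one : IrrCharacter G) : G → ℂ) g = 1 := by
  show ((1 : G →* ℂˣ) g : ℂ) = 1
  simp

theorem deg_one : (deg ((one : IrrCharacter G) : G → ℂ) : ℤ) = 1 := by
  have h := value_one (one : IrrCharacter G)
  rw [one_apply] at h
  exact_mod_cast h.symm

/-- In a perfect group only the trivial character is linear. -/
theorem two_le_deg (hperf : commutator G = ⊤) {χ : IrrCharacter G} (h : χ ≠ one) :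
    2 ≤ deg (χ : G → ℂ) := by
  by_contra hlt
  have h1 : deg (χ : G → ℂ) = 1 := by have := deg_pos χ.2; omega
  obtain ⟨l, hl⟩ := exists_hom_of_degree_one (irr_isCharacter χ.2)
    (by rw [char_one_eq_deg (irr_isCharacter χ.2), h1, Nat.cast_one])
  refine h (Subtype.ext (funext fun g => ?_))
  have hg : g ∈ l.ker := Abelianization.commutator_subset_ker l (hperf ▸ Subgroup.mem_top g)
  rw [one_apply, hl]
  show ((l g : ℂˣ) : ℂ) = 1
  rw [MonoidHom.mem_ker.1 hg, Units.val_one]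

open scoped Classical in
/-- A coefficient in rational form. -/
theorem Ctx.coef_rat (X : Ctx G) {p q z : Pl} (hz : z ≠ 0)
    (hne : ¬ (IsConj (X.e p) (X.e q) ∧ IsConj (X.e (-p)) (X.e z)))
    (P : Pl → Prop) [DecidablePred P]
    (hP : ∀ v, P v ↔ IsConj (X.e p) (X.e v) ∧ IsConj (X.e q) (X.e (z - v)))
    {a b c : IrrCharacter G → ℤ} (ha : ∀ χ : IrrCharacter G, (χ : G → ℂ) (X.e p) = (a χ : ℂ))
    (hb : ∀ χ : IrrCharacter G, (χ : G → ℂ) (X.e q) = (b χ : ℂ))
    (hc : ∀ χ : IrrCharacter G, (χ : G → ℂ) (X.e z) = (c χ : ℂ)) :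
    (Nat.card G : ℚ) * ∑ χ : IrrCharacter G, ((c χ * a χ * b χ : ℤ) : ℚ) / ((deg (χ : G → ℂ) : ℤ) : ℚ) =
      (((Finset.univ.filter P).card * (Nat.card (Subgroup.centralizer ({X.e p} : Set G)) *
          Nat.card (Subgroup.centralizer ({X.e q} : Set G))) : ℕ) : ℚ) := by
  have h := X.coef hz hne P hP
  rw [Finset.sum_congr rfl fun (χ : IrrCharacter G) _ => show
    conj ((χ : G → ℂ) (X.e z)) * ((χ : G → ℂ) (X.e p) * (χ : G → ℂ) (X.e q) / (χ : G → ℂ) 1) =
      ((((c χ * a χ * b χ : ℤ) : ℚ) / ((deg (χ : G → ℂ) : ℤ) : ℚ) : ℚ) : ℂ) by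
    rw [hc χ, ha χ, hb χ, value_one χ, map_intCast]; push_cast; ring, ← Rat.cast_sum] at h
  exact_mod_cast h

open scoped Classical in
theorem Ctx.coef_rat_ge (X : Ctx G) (p q z : Pl) (P : Pl → Prop) [DecidablePred P]
    (hP : ∀ v, P v ↔ IsConj (X.e p) (X.e v) ∧ IsConj (X.e q) (X.e (z - v)))
    {a b c : IrrCharacter G → ℤ} (ha : ∀ χ : IrrCharacter G, (χ : G → ℂ) (X.e p) = (a χ : ℂ))
    (hb : ∀ χ : IrrCharacter G, (χ : G → ℂ) (X.e q) = (b χ : ℂ))
    (hc : ∀ χ : IrrCharacter G, (χ : G → ℂ) (X.e z) = (c χ : ℂ)) :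
    (((Finset.univ.filter P).card * (Nat.card (Subgroup.centralizer ({X.e p} : Set G)) *
        Nat.card (Subgroup.centralizer ({X.e q} : Set G))) : ℕ) : ℚ) ≤
      (Nat.card G : ℚ) * ∑ χ : IrrCharacter G, ((c χ * a χ * b χ : ℤ) : ℚ) / ((deg (χ : G → ℂ) : ℤ) : ℚ) := by
  obtain ⟨k, hk, h⟩ := X.coef_ge p q z P hP
  rw [Finset.sum_congr rfl fun (χ : IrrCharacter G) _ => show
    conj ((χ : G → ℂ) (X.e z)) * ((χ : G → ℂ) (X.e p) * (χ : G → ℂ) (X.e q) / (χ : G → ℂ) 1) =
      ((((c χ * a χ * b χ : ℤ) : ℚ) / ((deg (χ : G → ℂ) : ℤ) : ℚ) : ℚ) : ℂ) by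
    rw [hc χ, ha χ, hb χ, value_one χ, map_intCast]; push_cast; ring, ← Rat.cast_sum] at h
  have h' : (Nat.card G : ℚ) * ∑ χ : IrrCharacter G, ((c χ * a χ * b χ : ℤ) : ℚ) / ((deg (χ : G → ℂ) : ℤ) : ℚ) = (k : ℚ) := by
    exact_mod_cast h
  rw [h']
  exact_mod_cast hk

end Chars

end Cfsg.Agent.Solv.ThreeLocal
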