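import Cfsg.Agent.Lib.Solv.ThreeLocal.DihSimple

/-!
# The dihedral case with a subgroup of index two containing the first reflection
-/

set_option autoImplicit false
set_option linter.unusedSimpArgs false

namespace Cfsg.Agent.Solv.ThreeLocal

open Cfsg Cfsg.Agent.Char

universe u

/-- The conditions on a row when only the first reflection has determinant one. -/
def HalfOK (t0 t1 t2 t3 f : ℤ) : Prop :=
  ∃ σ d a : ℤ, (σ = 1 ∨ σ = -1) ∧ f = σ * d ∧ 2 ≤ d ∧ d = 9 * a - 4 * (σ * (t0 + t1 + t2 + t3)) ∧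
    AxisOK (σ * t0) (σ * t1) a

theorem half_full {f : ℤ} (h : HalfOK 1 1 1 1 f) : 11 ≤ f ∨ f ≤ -16 := by
  obtain ⟨σ, d, a, hσ, rfl, hd, he, ap, am, bp, bm, h1⟩ := h
  rcases hσ with rfl | rfl <;> omega

theorem half_pair {t0 t1 t2 t3 f : ℤ} (h : HalfOK t0 t1 t2 t3 f)
    (ht : t0 + t1 = 1 ∧ t2 + t3 = 1) : 10 ≤ f ∨ f ≤ -17 := by
  obtain ⟨σ, d, a, hσ, rfl, hd, he, ap, am, bp, bm, h1⟩ := h
  rcases hσ with rfl | rfl <;> omega

theorem half_unit {t0 t1 t2 t3 f : ℤ} (h : HalfOK t0 t1 t2 t3 f) (ht : t0 + t1 + t2 + t3 = 1) :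
    5 ≤ f ∨ f ≤ -4 := by
  obtain ⟨σ, d, a, hσ, rfl, hd, he, ap, am, bp, bm, h1⟩ := h
  rcases hσ with rfl | rfl <;> omega

theorem bound_1117 {n K : ℚ} (hn : 0 ≤ n) (h : n * K = 648) (hK : 291 / 500 ≤ K) : n ≤ 1117 := by
  nlinarith

variable {G : Type u} [Group G] [Finite G] [Fintype G] {X : Ctx G}

/-- The sign character of a subgroup of index two. -/
noncomputable def sgnHom (T : Subgroup G) (h2 : T.index = 2) : G →* ℂˣ := by
  classical
  exact
    { toFun := fun g => if g ∈ T then 1 else -1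
      map_one' := if_pos T.one_mem
      map_mul' := fun a b => by
        have h := Subgroup.mul_mem_iff_of_index_two h2 (a := a) (b := b)
        by_cases ha : a ∈ T <;> by_cases hb : b ∈ T <;> simp [h, ha, hb] }

theorem sgnHom_pos {T : Subgroup G} (h2 : T.index = 2) {g : G} (hg : g ∈ T) :
    (sgnHom T h2 g : ℂ) = 1 := by
  simp [sgnHom, hg]

theorem sgnHom_neg {T : Subgroup G} (h2 : T.index = 2) {g : G} (hg : g ∉ T) :
    (sgnHom T h2 g : ℂ) = -1 := by
  simp [sgnHom, hg]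

/-- The sign character. -/
noncomputable def sgnChar (T : Subgroup G) (h2 : T.index = 2) : IrrCharacter G :=
  ⟨fun g => (sgnHom T h2 g : ℂ), isIrrCharacter_linear _⟩

set_option maxHeartbeats 2000000 in
/-- The order bound. -/
theorem card_le_of_index_two (D : Dih X) (T : Subgroup G) (h2 : T.index = 2) (hTc : T ≤ commutator G)
    (hST : X.S ≤ T) (hr : D.r ∈ T) (hR : D.R ∉ T) : Nat.card G ≤ 1117 := by
  classical
  obtain ⟨Q⟩ := D.data
  have h1 : D.r ∈ commutator G := hTc hr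
  have hr2 : D.r2 ∉ T := fun h => hR (by
    have := T.mul_mem h hr
    rwa [Dih.r2, mul_assoc, D.r_sq, mul_one] at this)
  have hcof : ∀ i : IrrCharacter G, ∀ x y : ℤ, (i : G → ℂ) (X.e (1, 0)) = 1 → (i : G → ℂ) (X.e (1, 1)) = 1 →
      (i : G → ℂ) (X.e (1, 0) * D.r) = (x : ℂ) → (i : G → ℂ) (X.e (1, 1) * D.r2) = (y : ℂ) →
      v1Of (Q.c i) = 1 ∧ v2Of (Q.c i) = 1 ∧ (Q.c i).1 - (Q.c i).2.1 = x ∧
        (Q.c i).2.2.1 - (Q.c i).2.2.2 = y := by
    intro i x y k1 k2 k3 k4
    rw [Q.val1] at k1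
    rw [Q.val2] at k2
    rw [Q.valh1] at k3
    rw [Q.valh2] at k4
    exact ⟨by exact_mod_cast k1, by exact_mod_cast k2, by exact_mod_cast k3, by exact_mod_cast k4⟩
  have hone : Q.c (one : IrrCharacter G) = (1, 0, 1, 0) := by
    obtain ⟨n1, n2, n3, n4⟩ := hcof one 1 1 (one_apply _) (one_apply _)
      (by rw [one_apply]; simp) (by rw [one_apply]; simp)
    generalize Q.c (one : IrrCharacter G) = v at n1 n2 n3 n4
    obtain ⟨x, y, z, w⟩ := v
    simp only [v1Of, v2Of] at n1 n2 n3 n4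
    simp only [Prod.mk.injEq]
    omega
  set sg := sgnChar T h2 with hsg
  have hsga : ∀ g, (sg : G → ℂ) g = (sgnHom T h2 g : ℂ) := fun g => rfl
  have heT : ∀ v, X.e v ∈ T := fun v => hST (X.e_mem v)
  have hsgc : Q.c sg = (1, 0, 0, 1) := by
    obtain ⟨n1, n2, n3, n4⟩ := hcof sg 1 (-1) (by rw [hsga, sgnHom_pos h2 (heT _)])
      (by rw [hsga, sgnHom_pos h2 (heT _)])
      (by rw [hsga, sgnHom_pos h2 (T.mul_mem (heT _) hr)]; simp)
      (by
        rw [hsga, sgnHom_neg h2 fun h => hr2 (by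
          have := T.mul_mem (T.inv_mem (heT (1, 1))) h
          rwa [inv_mul_cancel_left] at this)]
        simp)
    generalize Q.c sg = v at n1 n2 n3 n4
    obtain ⟨x, y, z, w⟩ := v
    simp only [v1Of, v2Of] at n1 n2 n3 n4
    simp only [Prod.mk.injEq]
    omega
  have hsgd : (deg (sg : G → ℂ) : ℤ) = 1 := by
    have h := value_one sg
    rw [hsga, map_one, Units.val_one] at h
    exact_mod_cast h.symm
  have hsgne : sg ≠ one := fun h => by
    have := congrArg Q.c h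
    rw [hsgc, hone] at this
    simp at this
  have hlin : ∀ i : IrrCharacter G, i ≠ one → i ≠ sg → 2 ≤ (deg (i : G → ℂ) : ℤ) := by
    intro i hi1 hi2
    by_contra hlt
    have h1' : deg (i : G → ℂ) = 1 := by have := deg_pos i.2; omega
    obtain ⟨l, hl⟩ := exists_hom_of_degree_one (irr_isCharacter i.2)
      (by rw [char_one_eq_deg (irr_isCharacter i.2), h1', Nat.cast_one])
    have hT : ∀ t ∈ T, (l t : ℂ) = 1 := fun t ht => by
      rw [MonoidHom.mem_ker.1 (Abelianization.commutator_subset_ker l (hTc ht)), Units.val_one]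
    have hRR : D.R * D.R ∈ T := (Subgroup.mul_mem_iff_of_index_two h2).2 Iff.rfl
    have hsq : (l D.R : ℂ) = 1 ∨ (l D.R : ℂ) = -1 := by
      refine sq_eq_one_iff.1 ?_
      rw [pow_two, ← Units.val_mul, ← map_mul, hT _ hRR]
    have hout : ∀ g, g ∉ T → (l g : ℂ) = (l D.R : ℂ) := by
      intro g hg
      have hgR : g * D.R⁻¹ ∈ T := (Subgroup.mul_mem_iff_of_index_two h2).2
        (by rw [T.inv_mem_iff]; exact iff_of_false hg hR)
      calc (l g : ℂ) = (l (g * D.R⁻¹ * D.R) : ℂ) := by rw [inv_mul_cancel_right]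
        _ = _ := by rw [map_mul, Units.val_mul, hT _ hgR, one_mul]
    rcases hsq with e | e
    · refine hi1 (Subtype.ext (funext fun g => ?_))
      rw [one_apply, hl]
      by_cases hg : g ∈ T
      · exact hT g hg
      · exact (hout g hg).trans e
    · refine hi2 (Subtype.ext (funext fun g => ?_))
      rw [hsga, hl]
      by_cases hg : g ∈ T
      · rw [sgnHom_pos h2 hg]; exact hT g hg
      · rw [sgnHom_neg h2 hg]; exact (hout g hg).trans e
  set s := (Finset.univ : Finset (IrrCharacter G)).erase one with hs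
  have hgram : ∑ χ ∈ s, outer (Q.c χ) = gramDih := by
    have h := Finset.add_sum_erase (Finset.univ : Finset (IrrCharacter G)) (fun χ => outer (Q.c χ))
      (Finset.mem_univ one)
    rw [← hs, Q.gram] at h
    simp only [hone] at h
    rw [← eq_sub_iff_add_eq'] at h
    rw [h]
    rfl
  obtain ⟨hmem, hsum⟩ := rows s Q.c gramDih hgram (by simp [gramDih, Tight])
  obtain ⟨l, hl, hM⟩ := classify_dih hmem hsum
  obtain ⟨li, hmap, hli, hF⟩ := named_rows s Q.c l hM
  have hsgl : sg ∈ li := by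
    by_contra hno
    have h := hF (fun i => if i = sg then (1 : ℕ) else 0) (fun i _ hi => if_neg (fun e => by
      rw [e, hsgc] at hi; simp at hi))
    rw [Finset.sum_ite_eq', if_pos (Finset.mem_erase.2 ⟨hsgne, Finset.mem_univ _⟩),
      List.map_congr_left (g := fun _ => 0) fun i hi => if_neg fun (e : i = sg) => hno (e ▸ hi)] at h
    simp at h
  have hsgt : ((1, 0, 0, 1) : Vec) ∈ l := by
    rw [← hmap]
    exact List.mem_map.2 ⟨sg, hsgl, by rw [hsgc]; decide⟩
  have hsplit : ∀ {M : Type} [AddCommMonoid M] (F : IrrCharacter G → M), (∀ χ, Q.c χ = 0 → F χ = 0) →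
      ∑ χ, F χ = F one + (li.map F).sum := by
    intro M _ F h
    rw [← Finset.add_sum_erase _ F (Finset.mem_univ one), ← hs, hF F fun i _ => h i]
  have E1 := Q.coef112
  have E2 := Q.coef221
  rw [hsplit _ fun χ h => by simp [h, v1Of, v2Of], hone, deg_one] at E1 E2
  have key : ∀ i ∈ li, ∀ {t : Vec}, canOf (Q.c i) = t → _ := fun i hi {t} ht => row_terms Q i ht
  have half : ∀ i ∈ li, ∀ {t : Vec}, canOf (Q.c i) = t → i ≠ sg →
      HalfOK t.1 t.2.1 t.2.2.1 t.2.2.2 (sgnOf (Q.c i) * (deg (i : G → ℂ) : ℤ)) := by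
    intro i hi t ht hne
    obtain ⟨ap, am, bp, bm, k0, k1, ka, kp⟩ := Q.ok1 i
    have hres := Q.res i
    have hv := vec_eq ht
    have hσ := sgnOf_cases (Q.c i)
    generalize sgnOf (Q.c i) = σ at hv hσ ⊢
    rw [hv] at hres k0 k1
    exact ⟨σ, (deg (i : G → ℂ) : ℤ), Q.a i, hσ, rfl, hlin i (Finset.ne_of_mem_erase (hli i hi).1) hne,
      by rw [hres]; ring, ap, am, bp, bm, k0, k1, ka, kp h1⟩
  have hsgt' : canOf (Q.c sg) = (1, 0, 0, 1) := by rw [hsgc]; decide
  have hsne : ∀ i, ∀ {t : Vec}, canOf (Q.c i) = t → t ≠ (1, 0, 0, 1) → i ≠ sg := fun i t ht hne e =>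
    hne (by rw [← ht, e, hsgt'])
  have hrecip : ∀ i, i = sg →
      ((sgnOf (Q.c i) : ℚ) * (deg (i : G → ℂ) : ℚ))⁻¹ = 1 := by
    intro i e
    rw [e, hsgc, show ((deg (sg : G → ℂ) : ℚ)) = 1 by exact_mod_cast hsgd,
      show sgnOf (1, 0, 0, 1) = 1 by decide]
    norm_num
  have hn : (0 : ℚ) ≤ (Nat.card G : ℚ) := Nat.cast_nonneg _
  suffices hgoal : (Nat.card G : ℚ) ≤ 1117 by exact_mod_cast hgoal
  simp only [confDih, List.mem_cons, List.not_mem_nil, or_false] at hl
  rcases hl with rfl | rfl | rfl | rfl | rfl | rfl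
  · exact absurd hsgt (by decide)
  · simp only [List.map_eq_cons_iff, List.map_eq_nil_iff] at hmap
    obtain ⟨i1, _, rfl, t1, i2, _, rfl, t2, i3, _, rfl, t3, i4, _, rfl, t4, i5, _, rfl, t5, i6, _, rfl, t6,
      i7, _, rfl, t7, rfl⟩ := hmap
    obtain ⟨a1, b1, -⟩ := key i1 (by simp) t1
    obtain ⟨a2, b2, -⟩ := key i2 (by simp) t2
    obtain ⟨a3, b3, -⟩ := key i3 (by simp) t3
    obtain ⟨a4, b4, -⟩ := key i4 (by simp) t4
    obtain ⟨a5, b5, -⟩ := key i5 (by simp) t5
    obtain ⟨a6, b6, -⟩ := key i6 (by simp) t6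
    obtain ⟨a7, b7, -⟩ := key i7 (by simp) t7
    simp only [List.map_cons, List.map_nil, List.sum_cons, List.sum_nil, a1, a2, a3, a4, a5, a6, a7] at E1
    simp only [List.map_cons, List.map_nil, List.sum_cons, List.sum_nil, b1, b2, b3, b4, b5, b6, b7] at E2
    simp [v1Of, v2Of, -Nat.card_eq_fintype_card, -Fintype.card_eq_nat_card] at E1 E2
    have k1 := (inv_bounds (by norm_num : (0 : ℤ) < 11) (by norm_num : (0 : ℤ) < 16)
      (half_full (half i1 (by simp) t1 (hsne i1 t1 (by decide))))).1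
    push_cast at k1
    simp only [one_div] at k1
    have h4 : i4 = sg := by
      simp only [List.mem_cons, List.not_mem_nil, or_false] at hsgl
      rcases hsgl with e | e | e | e | e | e | e
      exacts [absurd e.symm (hsne i1 t1 (by decide)), absurd e.symm (hsne i2 t2 (by decide)),
        absurd e.symm (hsne i3 t3 (by decide)), e.symm, absurd e.symm (hsne i5 t5 (by decide)),
        absurd e.symm (hsne i6 t6 (by decide)), absurd e.symm (hsne i7 t7 (by decide))]
    have k4 := hrecip i4 h4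
    set x := ((sgnOf (Q.c i1) : ℚ) * (deg (i1 : G → ℂ) : ℚ))⁻¹ with hx
    set y := ((sgnOf (Q.c i4) : ℚ) * (deg (i4 : G → ℂ) : ℚ))⁻¹ with hy
    refine bound_1117 hn (K := 1 + 8 * x + y) ?_ (by linarith)
    linear_combination (2 / 3 : ℚ) * E1 + (1 / 3 : ℚ) * E2
  · simp only [List.map_eq_cons_iff, List.map_eq_nil_iff] at hmap
    obtain ⟨i1, _, rfl, t1, i2, _, rfl, t2, i3, _, rfl, t3, i4, _, rfl, t4, i5, _, rfl, t5, i6, _, rfl, t6,
      i7, _, rfl, t7, rfl⟩ := hmap
    obtain ⟨a1, b1, -⟩ := key i1 (by simp) t1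
    obtain ⟨a2, b2, -⟩ := key i2 (by simp) t2
    obtain ⟨a3, b3, -⟩ := key i3 (by simp) t3
    obtain ⟨a4, b4, -⟩ := key i4 (by simp) t4
    obtain ⟨a5, b5, -⟩ := key i5 (by simp) t5
    obtain ⟨a6, b6, -⟩ := key i6 (by simp) t6
    obtain ⟨a7, b7, -⟩ := key i7 (by simp) t7
    simp only [List.map_cons, List.map_nil, List.sum_cons, List.sum_nil, a1, a2, a3, a4, a5, a6, a7] at E1
    simp only [List.map_cons, List.map_nil, List.sum_cons, List.sum_nil, b1, b2, b3, b4, b5, b6, b7] at E2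
    simp [v1Of, v2Of, -Nat.card_eq_fintype_card, -Fintype.card_eq_nat_card] at E1 E2
    have k3 := (inv_bounds (by norm_num : (0 : ℤ) < 10) (by norm_num : (0 : ℤ) < 17)
      (half_pair (half i3 (by simp) t3 (hsne i3 t3 (by decide))) (by norm_num))).1
    have k5 := (inv_bounds (by norm_num : (0 : ℤ) < 10) (by norm_num : (0 : ℤ) < 17)
      (half_pair (half i5 (by simp) t5 (hsne i5 t5 (by decide))) (by norm_num))).1
    have k6 := (inv_bounds (by norm_num : (0 : ℤ) < 5) (by norm_num : (0 : ℤ) < 4)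
      (half_unit (half i6 (by simp) t6 (hsne i6 t6 (by decide))) (by norm_num))).2
    have k7 := (inv_bounds (by norm_num : (0 : ℤ) < 5) (by norm_num : (0 : ℤ) < 4)
      (half_unit (half i7 (by simp) t7 (hsne i7 t7 (by decide))) (by norm_num))).2
    push_cast at k3 k5 k6 k7
    simp only [one_div] at k3 k5 k6 k7
    have h4 : i4 = sg := by
      simp only [List.mem_cons, List.not_mem_nil, or_false] at hsgl
      rcases hsgl with e | e | e | e | e | e | e
      exacts [absurd e.symm (hsne i1 t1 (by decide)), absurd e.symm (hsne i2 t2 (by decide)),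
        absurd e.symm (hsne i3 t3 (by decide)), e.symm, absurd e.symm (hsne i5 t5 (by decide)),
        absurd e.symm (hsne i6 t6 (by decide)), absurd e.symm (hsne i7 t7 (by decide))]
    have k4 := hrecip i4 h4
    set x3 := ((sgnOf (Q.c i3) : ℚ) * (deg (i3 : G → ℂ) : ℚ))⁻¹ with hx3
    set x4 := ((sgnOf (Q.c i4) : ℚ) * (deg (i4 : G → ℂ) : ℚ))⁻¹ with hx4
    set x5 := ((sgnOf (Q.c i5) : ℚ) * (deg (i5 : G → ℂ) : ℚ))⁻¹ with hx5
    set x6 := ((sgnOf (Q.c i6) : ℚ) * (deg (i6 : G → ℂ) : ℚ))⁻¹ with hx6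
    set x7 := ((sgnOf (Q.c i7) : ℚ) * (deg (i7 : G → ℂ) : ℚ))⁻¹ with hx7
    refine bound_1117 hn (K := 1 + (x3 + x4 + x5) - x6 - x7) ?_ (by linarith)
    linear_combination (1 / 2 : ℚ) * E1 + (1 / 2 : ℚ) * E2
  · simp only [List.map_eq_cons_iff, List.map_eq_nil_iff] at hmap
    obtain ⟨i1, _, rfl, t1, i2, _, rfl, t2, i3, _, rfl, t3, i4, _, rfl, t4, i5, _, rfl, t5, i6, _, rfl, t6,
      i7, _, rfl, t7, rfl⟩ := hmap
    obtain ⟨a1, b1, -⟩ := key i1 (by simp) t1
    obtain ⟨a2, b2, -⟩ := key i2 (by simp) t2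
    obtain ⟨a3, b3, -⟩ := key i3 (by simp) t3
    obtain ⟨a4, b4, -⟩ := key i4 (by simp) t4
    obtain ⟨a5, b5, -⟩ := key i5 (by simp) t5
    obtain ⟨a6, b6, -⟩ := key i6 (by simp) t6
    obtain ⟨a7, b7, -⟩ := key i7 (by simp) t7
    simp only [List.map_cons, List.map_nil, List.sum_cons, List.sum_nil, a1, a2, a3, a4, a5, a6, a7] at E1
    simp only [List.map_cons, List.map_nil, List.sum_cons, List.sum_nil, b1, b2, b3, b4, b5, b6, b7] at E2
    simp [v1Of, v2Of, -Nat.card_eq_fintype_card, -Fintype.card_eq_nat_card] at E1 E2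
    have k3 := (inv_bounds (by norm_num : (0 : ℤ) < 10) (by norm_num : (0 : ℤ) < 17)
      (half_pair (half i3 (by simp) t3 (hsne i3 t3 (by decide))) (by norm_num))).1
    have kk : ∀ i ∈ [i4, i5], canOf (Q.c i) = (1, 0, 0, 1) →
        -(1 / 17 : ℚ) ≤ ((sgnOf (Q.c i) : ℚ) * (deg (i : G → ℂ) : ℚ))⁻¹ := by
      intro i hi ht
      by_cases hi' : i = sg
      · rw [hrecip i hi']; norm_num
      · have := (inv_bounds (by norm_num : (0 : ℤ) < 10) (by norm_num : (0 : ℤ) < 17)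
          (half_pair (half i (by
            simp only [List.mem_cons, List.not_mem_nil, or_false] at hi
            rcases hi with rfl | rfl <;> simp) ht hi') (by norm_num))).1
        push_cast at this
        simp only [one_div] at this ⊢
        linarith
    have k6 := (inv_bounds (by norm_num : (0 : ℤ) < 5) (by norm_num : (0 : ℤ) < 4)
      (half_unit (half i6 (by simp) t6 (hsne i6 t6 (by decide))) (by norm_num))).2
    have k7 := (inv_bounds (by norm_num : (0 : ℤ) < 5) (by norm_num : (0 : ℤ) < 4)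
      (half_unit (half i7 (by simp) t7 (hsne i7 t7 (by decide))) (by norm_num))).2
    push_cast at k3 k6 k7
    simp only [one_div] at k3 k6 k7
    have k4 := kk i4 (by simp) t4
    have k5 := kk i5 (by simp) t5
    have h45 : i4 = sg ∨ i5 = sg := by
      simp only [List.mem_cons, List.not_mem_nil, or_false] at hsgl
      rcases hsgl with e | e | e | e | e | e | e
      exacts [absurd e.symm (hsne i1 t1 (by decide)), absurd e.symm (hsne i2 t2 (by decide)),
        absurd e.symm (hsne i3 t3 (by decide)), Or.inl e.symm, Or.inr e.symm,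
        absurd e.symm (hsne i6 t6 (by decide)), absurd e.symm (hsne i7 t7 (by decide))]
    have k45 : (16 / 17 : ℚ) ≤ ((sgnOf (Q.c i4) : ℚ) * (deg (i4 : G → ℂ) : ℚ))⁻¹ +
        ((sgnOf (Q.c i5) : ℚ) * (deg (i5 : G → ℂ) : ℚ))⁻¹ := by
      rcases h45 with e | e
      · have := hrecip i4 e; linarith
      · have := hrecip i5 e; linarith
    set x3 := ((sgnOf (Q.c i3) : ℚ) * (deg (i3 : G → ℂ) : ℚ))⁻¹ with hx3
    set x4 := ((sgnOf (Q.c i4) : ℚ) * (deg (i4 : G → ℂ) : ℚ))⁻¹ with hx4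
    set x5 := ((sgnOf (Q.c i5) : ℚ) * (deg (i5 : G → ℂ) : ℚ))⁻¹ with hx5
    set x6 := ((sgnOf (Q.c i6) : ℚ) * (deg (i6 : G → ℂ) : ℚ))⁻¹ with hx6
    set x7 := ((sgnOf (Q.c i7) : ℚ) * (deg (i7 : G → ℂ) : ℚ))⁻¹ with hx7
    refine bound_1117 hn (K := 1 + (x3 + x4 + x5) - x6 - x7) ?_ (by linarith)
    linear_combination (1 / 2 : ℚ) * E1 + (1 / 2 : ℚ) * E2
  · exact absurd hsgt (by decide)
  · simp only [List.map_eq_cons_iff, List.map_eq_nil_iff] at hmap
    obtain ⟨i1, _, rfl, t1, i2, _, rfl, t2, i3, _, rfl, t3, i4, _, rfl, t4, i5, _, rfl, t5, i6, _, rfl, t6,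
      i7, _, rfl, t7, i8, _, rfl, t8, rfl⟩ := hmap
    obtain ⟨a1, b1, -⟩ := key i1 (by simp) t1
    obtain ⟨a2, b2, -⟩ := key i2 (by simp) t2
    obtain ⟨a3, b3, -⟩ := key i3 (by simp) t3
    obtain ⟨a4, b4, -⟩ := key i4 (by simp) t4
    obtain ⟨a5, b5, -⟩ := key i5 (by simp) t5
    obtain ⟨a6, b6, -⟩ := key i6 (by simp) t6
    obtain ⟨a7, b7, -⟩ := key i7 (by simp) t7
    obtain ⟨a8, b8, -⟩ := key i8 (by simp) t8
    simp only [List.map_cons, List.map_nil, List.sum_cons, List.sum_nil, a1, a2, a3, a4, a5, a6, a7, a8] at E1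
    simp only [List.map_cons, List.map_nil, List.sum_cons, List.sum_nil, b1, b2, b3, b4, b5, b6, b7, b8] at E2
    simp [v1Of, v2Of, -Nat.card_eq_fintype_card, -Fintype.card_eq_nat_card] at E1 E2
    have k1 := (inv_bounds (by norm_num : (0 : ℤ) < 11) (by norm_num : (0 : ℤ) < 16)
      (half_full (half i1 (by simp) t1 (hsne i1 t1 (by decide))))).1
    have k2 := (inv_bounds (by norm_num : (0 : ℤ) < 10) (by norm_num : (0 : ℤ) < 17)
      (half_pair (half i2 (by simp) t2 (hsne i2 t2 (by decide))) (by norm_num))).1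
    have k3 := (inv_bounds (by norm_num : (0 : ℤ) < 10) (by norm_num : (0 : ℤ) < 17)
      (half_pair (half i3 (by simp) t3 (hsne i3 t3 (by decide))) (by norm_num))).1
    have k5 := (inv_bounds (by norm_num : (0 : ℤ) < 5) (by norm_num : (0 : ℤ) < 4)
      (half_unit (half i5 (by simp) t5 (hsne i5 t5 (by decide))) (by norm_num))).2
    have k6 := (inv_bounds (by norm_num : (0 : ℤ) < 5) (by norm_num : (0 : ℤ) < 4)
      (half_unit (half i6 (by simp) t6 (hsne i6 t6 (by decide))) (by norm_num))).2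
    push_cast at k1 k2 k3 k5 k6
    simp only [one_div] at k1 k2 k3 k5 k6
    have h4 : i4 = sg := by
      simp only [List.mem_cons, List.not_mem_nil, or_false] at hsgl
      rcases hsgl with e | e | e | e | e | e | e | e
      exacts [absurd e.symm (hsne i1 t1 (by decide)), absurd e.symm (hsne i2 t2 (by decide)),
        absurd e.symm (hsne i3 t3 (by decide)), e.symm, absurd e.symm (hsne i5 t5 (by decide)),
        absurd e.symm (hsne i6 t6 (by decide)), absurd e.symm (hsne i7 t7 (by decide)),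
        absurd e.symm (hsne i8 t8 (by decide))]
    have k4 := hrecip i4 h4
    set x1 := ((sgnOf (Q.c i1) : ℚ) * (deg (i1 : G → ℂ) : ℚ))⁻¹ with hx1
    set x2 := ((sgnOf (Q.c i2) : ℚ) * (deg (i2 : G → ℂ) : ℚ))⁻¹ with hx2
    set x3 := ((sgnOf (Q.c i3) : ℚ) * (deg (i3 : G → ℂ) : ℚ))⁻¹ with hx3
    set x4 := ((sgnOf (Q.c i4) : ℚ) * (deg (i4 : G → ℂ) : ℚ))⁻¹ with hx4
    set x5 := ((sgnOf (Q.c i5) : ℚ) * (deg (i5 : G → ℂ) : ℚ))⁻¹ with hx5
    set x6 := ((sgnOf (Q.c i6) : ℚ) * (deg (i6 : G → ℂ) : ℚ))⁻¹ with hx6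
    refine bound_1117 hn (K := 1 + 8 * x1 + (x2 + x3 + x4) - 2 * (x5 + x6)) ?_ (by linarith)
    linear_combination (2 / 3 : ℚ) * E1 + (1 / 3 : ℚ) * E2

end Cfsg.Agent.Solv.ThreeLocal
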