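import Mathlib
import Cfsg.Agent.Lib.Solv.ThreeLocal.Basics

/-!
# A plane whose automiser is dihedral of order eight
-/

set_option autoImplicit false

namespace Cfsg.Agent.Solv.ThreeLocal

open Cfsg Cfsg.Agent.Char

universe u

/-- Whether a vector lies on one of the two coordinate axes. -/
def axisB (v : Pl) : Bool := decide (v.1 = 0 ∨ v.2 = 0)

/-- The rotation by a quarter turn. -/
def rot (v : Pl) : Pl := (-v.2, v.1)

/-- The reflection in the first axis. -/
def flip (v : Pl) : Pl := (v.1, -v.2)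

/-- Coordinates adapted to a dihedral automiser of order eight: a reflection and a quarter turn. -/
structure Dih {G : Type u} [Group G] (X : Ctx G) where
  r : G
  R : G
  r_sq : r * r = 1
  R_four : R ^ 4 = 1
  rel : r * R * r = R⁻¹
  r_act : ∀ v, r * X.e v * r⁻¹ = X.e (flip v)
  R_act : ∀ v, R * X.e v * R⁻¹ = X.e (rot v)
  cover : ∀ g ∈ Subgroup.normalizer (X.S : Set G), ∃ (v : Pl) (n : ℕ), n < 4 ∧
    (g = X.e v * R ^ n ∨ g = X.e v * R ^ n * r)

namespace Dih

variable {G : Type u} [Group G] {X : Ctx G} (D : Dih X)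
include D


theorem r_inv : D.r⁻¹ = D.r := inv_eq_of_mul_eq_one_right D.r_sq

theorem Rn_act (n : ℕ) (v : Pl) : D.R ^ n * X.e v * (D.R ^ n)⁻¹ = X.e (rot^[n] v) := by
  induction n with
  | zero => simp
  | succ n ih =>
    rw [Function.iterate_succ_apply', ← D.R_act, ← ih, pow_succ']
    group

theorem act_of_cover {g : G} {w : Pl} {n : ℕ} (h : g = X.e w * D.R ^ n) (v : Pl) :
    g * X.e v * g⁻¹ = X.e (rot^[n] v) := by
  subst h
  calc X.e w * D.R ^ n * X.e v * (X.e w * D.R ^ n)⁻¹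
      = X.e w * (D.R ^ n * X.e v * (D.R ^ n)⁻¹) * (X.e w)⁻¹ := by group
    _ = _ := by rw [D.Rn_act, X.e_comm, mul_inv_cancel_right]

theorem act_of_cover' {g : G} {w : Pl} {n : ℕ} (h : g = X.e w * D.R ^ n * D.r) (v : Pl) :
    g * X.e v * g⁻¹ = X.e (rot^[n] (flip v)) := by
  subst h
  calc X.e w * D.R ^ n * D.r * X.e v * (X.e w * D.R ^ n * D.r)⁻¹
      = X.e w * D.R ^ n * (D.r * X.e v * D.r⁻¹) * (X.e w * D.R ^ n)⁻¹ := by group
    _ = _ := by rw [D.r_act, D.act_of_cover rfl]

theorem isConj_iff_axis [Finite G] {v w : Pl} (hv : v ≠ 0) :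
    IsConj (X.e v) (X.e w) ↔ w ≠ 0 ∧ axisB v = axisB w := by
  constructor
  · intro h
    obtain ⟨g, hg, hgv⟩ := X.exists_of_isConj hv h
    obtain ⟨t, n, hn, hc⟩ := D.cover g hg
    rcases hc with hc | hc
    · have e : rot^[n] v = w := X.inj ((D.act_of_cover hc v).symm.trans hgv)
      subst e
      revert hv v
      have key : ∀ n < 4, ∀ v : Pl, v ≠ 0 → rot^[n] v ≠ 0 ∧ axisB v = axisB (rot^[n] v) := by decide +kernel
      exact fun {v} hv _ _ => key n hn v hv
    · have e : rot^[n] (flip v) = w := X.inj ((D.act_of_cover' hc v).symm.trans hgv)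
      subst e
      have key : ∀ n < 4, ∀ v : Pl, v ≠ 0 → rot^[n] (flip v) ≠ 0 ∧ axisB v = axisB (rot^[n] (flip v)) := by
        decide +kernel
      exact key n hn v hv
  · rintro ⟨hw, h⟩
    have key : ∀ v w : Pl, v ≠ 0 → w ≠ 0 → axisB v = axisB w → ∃ n < 4, rot^[n] v = w := by decide +kernel
    obtain ⟨n, -, hn⟩ := key v w hv hw h
    exact isConj_iff.2 ⟨D.R ^ n, by rw [D.Rn_act, hn]⟩

/-- The reflection in the diagonal. -/
def r2 : G := D.R * D.r

theorem r2_sq : D.r2 * D.r2 = 1 := by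
  rw [r2, show D.R * D.r * (D.R * D.r) = D.R * (D.r * D.R * D.r) by group, D.rel, mul_inv_cancel]

theorem r2_act (v : Pl) : D.r2 * X.e v * D.r2⁻¹ = X.e (v.2, v.1) := by
  rw [r2, show D.R * D.r * X.e v * (D.R * D.r)⁻¹ = D.R * (D.r * X.e v * D.r⁻¹) * D.R⁻¹ by group, D.r_act,
    D.R_act]
  congr 1
  simp [rot, flip]

theorem R_sq_comm : D.R ^ 2 * D.r = D.r * D.R ^ 2 := by
  have h : D.r * D.R ^ 2 * D.r = D.R ^ 2 := by
    have h1 : D.r * D.R ^ 2 * D.r = (D.r * D.R * D.r) * (D.r * D.R * D.r) := by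
      calc D.r * D.R ^ 2 * D.r = D.r * D.R * (D.r * D.r) * D.R * D.r := by rw [D.r_sq, pow_two]; group
        _ = _ := by group
    rw [h1, D.rel, ← mul_inv_rev, ← pow_two, inv_eq_iff_mul_eq_one, ← pow_add]
    exact D.R_four
  calc D.R ^ 2 * D.r = D.r * D.R ^ 2 * D.r * D.r := by rw [h]
    _ = _ := by rw [mul_assoc, D.r_sq, mul_one]

theorem R_sq_act (v : Pl) : D.R ^ 2 * X.e v * (D.R ^ 2)⁻¹ = X.e (-v) := by
  rw [D.Rn_act]; rfl

/-- The centraliser of `e p`, when the reflection `t` is the only outside symmetry fixing `p`. -/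
theorem mem_cent {p : Pl} {t : G} {T : Pl → Pl} (ht : ∀ v, t * X.e v * t⁻¹ = X.e (T v))
    (hcov : ∀ (n : ℕ), n < 4 → (rot^[n] p = p → D.R ^ n = 1) ∧ (rot^[n] (flip p) = p → D.R ^ n * D.r = t))
    (hfix : T p = p) (hp : p ≠ 0) (g : G) :
    g * X.e p = X.e p * g ↔ ∃ v, g = X.e v ∨ g = X.e v * t := by
  constructor
  · intro h
    obtain ⟨v, n, hn, hc⟩ := D.cover g (X.loc p hp g h)
    have h1 : g * X.e p * g⁻¹ = X.e p := by rw [h, mul_inv_cancel_right]
    rcases hc with hc | hc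
    · refine ⟨v, Or.inl ?_⟩
      rw [hc, (hcov n hn).1 (X.inj ((D.act_of_cover hc p).symm.trans h1)), mul_one]
    · refine ⟨v, Or.inr ?_⟩
      rw [hc, mul_assoc, (hcov n hn).2 (X.inj ((D.act_of_cover' hc p).symm.trans h1))]
  · rintro ⟨v, rfl | rfl⟩
    · exact X.e_comm v p
    · have h1 : t * X.e p = X.e p * t := by
        have := ht p
        rw [hfix, mul_inv_eq_iff_eq_mul] at this
        exact this
      rw [mul_assoc, h1, ← mul_assoc, X.e_comm, mul_assoc]

theorem cent_cards [Finite G] {p : Pl} {t : G} {T : Pl → Pl} (ht : ∀ v, t * X.e v * t⁻¹ = X.e (T v))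
    (ht2 : t * t = 1)
    (hcov : ∀ (n : ℕ), n < 4 → (rot^[n] p = p → D.R ^ n = 1) ∧ (rot^[n] (flip p) = p → D.R ^ n * D.r = t))
    (hfix : T p = p) (hp : p ≠ 0) (hT : ∀ v, T v = v ↔ ∃ i : ZMod 3, v = i • p) :
    Nat.card (Subgroup.centralizer ({X.e p} : Set G)) = 18 ∧
      Nat.card (Subgroup.centralizer ({X.e p * t} : Set G)) = 6 := by
  have hmem := D.mem_cent ht hcov hfix hp
  have htS : ∀ v, X.e v ≠ t := by
    intro v hv
    have hall : ∀ w, T w = w := fun w => X.inj (by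
      rw [← ht, ← hv, X.e_comm, mul_inv_cancel_right])
    have h1 := fun w => (hT w).1 (hall w)
    exact (show ∀ p : Pl, ¬ ∀ w : Pl, ∃ i : ZMod 3, w = i • p by decide +kernel) p h1
  let F : Pl × Bool → G := fun x => if x.2 then X.e x.1 * t else X.e x.1
  have hFinj : Function.Injective F := by
    rintro ⟨v, b⟩ ⟨w, c⟩ h
    cases b <;> cases c <;> simp only [F, Bool.false_eq_true, if_false, if_true] at h
    · rw [X.inj h]
    · exact absurd (by rw [X.e_add, h, ← mul_assoc, ← X.e_add, neg_add_cancel, X.e_zero, one_mul]) (htS (-w + v))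
    · exact absurd (by rw [X.e_add, ← h, ← mul_assoc, ← X.e_add, neg_add_cancel, X.e_zero, one_mul]) (htS (-v + w))
    · rw [X.inj (mul_right_cancel h)]
  constructor
  · have : Nat.card (Pl × Bool) = 18 := by simp [Pl, Nat.card_eq_fintype_card]
    rw [← this]
    refine (Nat.card_congr (Equiv.ofBijective (fun x => (⟨F x, ?_⟩ : Subgroup.centralizer ({X.e p} : Set G)))
      ⟨fun a b h => hFinj (congrArg Subtype.val h), ?_⟩)).symm
    · rw [Subgroup.mem_centralizer_singleton_iff, hmem]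
      rcases x with ⟨v, b⟩
      cases b
      · exact ⟨v, Or.inl rfl⟩
      · exact ⟨v, Or.inr rfl⟩
    · rintro ⟨g, hg⟩
      rw [Subgroup.mem_centralizer_singleton_iff, hmem] at hg
      obtain ⟨v, rfl | rfl⟩ := hg
      · exact ⟨(v, false), Subtype.ext rfl⟩
      · exact ⟨(v, true), Subtype.ext rfl⟩
  have htp : t * X.e p = X.e p * t := (hmem t).2 ⟨0, Or.inr (by rw [X.e_zero, one_mul])⟩
  have hcomm : Commute (X.e p) t := htp.symm
  have hp3 : (X.e p * t) ^ 3 = t := by
    rw [hcomm.mul_pow, X.e_cube, one_mul, pow_succ, pow_two, ht2, one_mul]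
  have hp4 : (X.e p * t) ^ 4 = X.e p := by
    rw [pow_succ, hp3, ← mul_assoc, htp, mul_assoc, ht2, mul_one]
  have hmem2 : ∀ g : G, g * (X.e p * t) = X.e p * t * g ↔
      ∃ (i : ZMod 3) (b : Bool), g = F (i • p, b) := by
    intro g
    constructor
    · intro h
      have hc : Commute g (X.e p * t) := h
      have h1 : g * X.e p = X.e p * g := by
        have := hc.pow_right 4; rwa [hp4] at this
      have h2 : g * t = t * g := by
        have := hc.pow_right 3; rwa [hp3] at this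
      obtain ⟨v, rfl | rfl⟩ := (hmem g).1 h1
      · obtain ⟨i, rfl⟩ := (hT v).1 (X.inj (by rw [← ht, ← h2, mul_inv_cancel_right]))
        exact ⟨i, false, rfl⟩
      · have h3 : X.e v * t = t * X.e v := mul_right_cancel (h2.trans (mul_assoc t (X.e v) t).symm)
        obtain ⟨i, rfl⟩ := (hT v).1 (X.inj (by rw [← ht, ← h3, mul_inv_cancel_right]))
        exact ⟨i, true, rfl⟩
    · rintro ⟨i, b, rfl⟩
      have hTi : T (i • p) = i • p := (hT _).2 ⟨i, rfl⟩
      have hct : Commute (X.e (i • p)) t := by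
        have := ht (i • p)
        rw [hTi, mul_inv_eq_iff_eq_mul] at this
        exact this.symm
      have hce : Commute (X.e (i • p)) (X.e p) := X.e_comm _ _
      cases b
      · exact (hce.mul_right hct).eq
      · exact ((hce.mul_right hct).mul_left (hcomm.symm.mul_right (Commute.refl t))).eq
  have h6 : Nat.card (ZMod 3 × Bool) = 6 := by simp [Nat.card_eq_fintype_card]
  rw [← h6]
  refine (Nat.card_congr (Equiv.ofBijective
    (fun x => (⟨F (x.1 • p, x.2), ?_⟩ : Subgroup.centralizer ({X.e p * t} : Set G)))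
    ⟨fun a b h => ?_, ?_⟩)).symm
  · rw [Subgroup.mem_centralizer_singleton_iff, hmem2]
    exact ⟨x.1, x.2, rfl⟩
  · have h' := hFinj (congrArg Subtype.val h)
    simp only [Prod.mk.injEq] at h'
    refine Prod.ext ?_ h'.2
    exact (show ∀ p : Pl, p ≠ 0 → ∀ i j : ZMod 3, i • p = j • p → i = j by decide +kernel) p hp _ _ h'.1
  · rintro ⟨g, hg⟩
    rw [Subgroup.mem_centralizer_singleton_iff, hmem2] at hg
    obtain ⟨i, b, rfl⟩ := hg
    exact ⟨(i, b), rfl⟩

theorem cards_axis [Finite G] :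
    Nat.card (Subgroup.centralizer ({X.e (1, 0)} : Set G)) = 18 ∧
      Nat.card (Subgroup.centralizer ({X.e (1, 0) * D.r} : Set G)) = 6 := by
  refine D.cent_cards (T := flip) D.r_act D.r_sq ?_ (by decide) (by decide) (by decide +kernel)
  intro n hn
  have k1 : ∀ n < 4, rot^[n] ((1, 0) : Pl) = (1, 0) → n = 0 := by decide
  have k2 : ∀ n < 4, rot^[n] (flip ((1, 0) : Pl)) = (1, 0) → n = 0 := by decide
  exact ⟨fun h => by rw [k1 n hn h, pow_zero], fun h => by rw [k2 n hn h, pow_zero, one_mul]⟩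

theorem cards_diag [Finite G] :
    Nat.card (Subgroup.centralizer ({X.e (1, 1)} : Set G)) = 18 ∧
      Nat.card (Subgroup.centralizer ({X.e (1, 1) * D.r2} : Set G)) = 6 := by
  refine D.cent_cards (T := fun v : Pl => (v.2, v.1)) D.r2_act D.r2_sq ?_ (by decide) (by decide)
    (by decide +kernel)
  intro n hn
  have k1 : ∀ n < 4, rot^[n] ((1, 1) : Pl) = (1, 1) → n = 0 := by decide
  have k2 : ∀ n < 4, rot^[n] (flip ((1, 1) : Pl)) = (1, 1) → n = 1 := by decide
  exact ⟨fun h => by rw [k1 n hn h, pow_zero], fun h => by rw [k2 n hn h, pow_one, r2]⟩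

theorem card_normalizer [Finite G] : Nat.card (Subgroup.normalizer (X.S : Set G)) = 72 := by
  rw [X.card_normalizer (v := (1, 0)) (by decide)
      (Finset.univ.filter fun w => w ≠ 0 ∧ axisB (1, 0) = axisB w)
      (fun w => by rw [D.isConj_iff_axis (by decide)]; simp), D.cards_axis.1,
    show (Finset.univ.filter fun w : Pl => w ≠ 0 ∧ axisB (1, 0) = axisB w).card = 4 by decide]

end Dih

end Cfsg.Agent.Solv.ThreeLocal
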