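import Mathlib

/-!
# Decompositions of a small Gram matrix into vectors with entries in `{-1, 0, 1}`
-/

set_option autoImplicit false
set_option linter.unusedSimpArgs false

namespace Cfsg.Agent.Solv.ThreeLocal

/-- Integer vectors with four entries. -/
abbrev Vec := ℤ × ℤ × ℤ × ℤ

/-- Symmetric matrices of size four: diagonal, then the entries above it. -/
abbrev Gram := ℤ × ℤ × ℤ × ℤ × ℤ × ℤ × ℤ × ℤ × ℤ × ℤ

def outer : Vec → Gram
  | (a, b, c, d) => (a * a, b * b, c * c, d * d, a * b, a * c, a * d, b * c, b * d, c * d)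

def okGram : Gram → Bool
  | (aa, bb, cc, dd, ab, ac, ad, bc, bd, cd) =>
    decide (-aa ≤ ab ∧ ab ≤ aa ∧ -bb ≤ ab ∧ ab ≤ bb ∧ -aa ≤ ac ∧ ac ≤ aa ∧ -cc ≤ ac ∧ ac ≤ cc ∧
      -aa ≤ ad ∧ ad ≤ aa ∧ -dd ≤ ad ∧ ad ≤ dd ∧ -bb ≤ bc ∧ bc ≤ bb ∧ -cc ≤ bc ∧ bc ≤ cc ∧
      -bb ≤ bd ∧ bd ≤ bb ∧ -dd ≤ bd ∧ bd ≤ dd ∧ -cc ≤ cd ∧ cd ≤ cc ∧ -dd ≤ cd ∧ cd ≤ dd)

def zeroGram : Gram → Bool
  | (aa, bb, cc, dd, ab, ac, ad, bc, bd, cd) =>
    decide (aa = 0 ∧ bb = 0 ∧ cc = 0 ∧ dd = 0 ∧ ab = 0 ∧ ac = 0 ∧ ad = 0 ∧ bc = 0 ∧ bd = 0 ∧ cd = 0)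

theorem zeroGram_iff (R : Gram) : zeroGram R = true ↔ R = 0 := by
  obtain ⟨aa, bb, cc, dd, ab, ac, ad, bc, bd, cd⟩ := R
  simp [zeroGram, Prod.ext_iff]

/-- The representatives, up to sign, of the non-zero vectors with entries in `{-1, 0, 1}`. -/
def can : List Vec :=
  [(1, -1, -1, -1), (1, -1, -1, 1), (1, -1, 1, -1), (1, -1, 1, 1), (1, 1, -1, -1), (1, 1, -1, 1),
   (1, 1, 1, -1), (1, 1, 1, 1), (0, 1, -1, -1), (0, 1, -1, 1), (0, 1, 1, -1), (0, 1, 1, 1),
   (1, -1, -1, 0), (1, -1, 0, -1), (1, -1, 0, 1), (1, -1, 1, 0), (1, 0, -1, -1), (1, 0, -1, 1),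
   (1, 0, 1, -1), (1, 0, 1, 1), (1, 1, -1, 0), (1, 1, 0, -1), (1, 1, 0, 1), (1, 1, 1, 0),
   (0, 0, 1, -1), (0, 0, 1, 1), (0, 1, -1, 0), (0, 1, 0, -1), (0, 1, 0, 1), (0, 1, 1, 0),
   (1, -1, 0, 0), (1, 0, -1, 0), (1, 0, 0, -1), (1, 0, 0, 1), (1, 0, 1, 0), (1, 1, 0, 0),
   (0, 0, 0, 1), (0, 0, 1, 0), (0, 1, 0, 0), (1, 0, 0, 0)]

/-- All decompositions of `R` into vectors of the list, tested by `leaf`. -/
def search (leaf : List Vec → Bool) : List Vec → Gram → List Vec → Bool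
  | [], R, acc => if zeroGram R then leaf acc else true
  | v :: vs, R, acc => if zeroGram R then leaf acc else if okGram R then
      (List.range 5).all fun j => search leaf vs (R - j • outer v) (acc ++ List.replicate j v)
    else true

/-- The sum of the outer squares. -/
def gramSum (M : Multiset Vec) : Gram := (M.map outer).sum

theorem okGram_add {R R' : Gram} (h : okGram R = true) (h' : okGram R' = true) :
    okGram (R + R') = true := by
  obtain ⟨aa, bb, cc, dd, ab, ac, ad, bc, bd, cd⟩ := R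
  obtain ⟨aa', bb', cc', dd', ab', ac', ad', bc', bd', cd'⟩ := R'
  simp only [okGram, Prod.mk_add_mk, decide_eq_true_eq] at h h' ⊢
  omega

theorem okGram_gramSum {M : Multiset Vec} (hM : ∀ v ∈ M, v ∈ can) : okGram (gramSum M) = true := by
  induction M using Multiset.induction_on with
  | empty => rfl
  | cons v M ih =>
    rw [gramSum, Multiset.map_cons, Multiset.sum_cons]
    refine okGram_add ?_ (ih fun w hw => hM w (Multiset.mem_cons_of_mem hw))
    exact (show ∀ w ∈ can, okGram (outer w) = true by decide +kernel) v (hM v (Multiset.mem_cons_self _ _))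

/-- The diagonal of a Gram matrix is below five. -/
def Below : Gram → Prop
  | (aa, bb, cc, dd, _) => aa < 5 ∧ bb < 5 ∧ cc < 5 ∧ dd < 5

def traceG : Gram → ℤ
  | (aa, bb, cc, dd, _) => aa + bb + cc + dd

theorem traceG_add (R R' : Gram) : traceG (R + R') = traceG R + traceG R' := by
  obtain ⟨aa, bb, cc, dd, r⟩ := R
  obtain ⟨aa', bb', cc', dd', r'⟩ := R'
  simp only [traceG, Prod.mk_add_mk]
  ring

theorem eq_zero_of_gramSum {M : Multiset Vec} (hM : ∀ v ∈ M, v ∈ can) (h : gramSum M = 0) : M = 0 := by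
  by_contra hne
  obtain ⟨v, hv⟩ := Multiset.exists_mem_of_ne_zero hne
  obtain ⟨M', rfl⟩ := Multiset.exists_cons_of_mem hv
  rw [gramSum, Multiset.map_cons, Multiset.sum_cons] at h
  have h1 := (show ∀ w ∈ can, 0 < traceG (outer w) by decide +kernel) v (hM v (Multiset.mem_cons_self _ _))
  have h2 := okGram_gramSum (M := M') fun w hw => hM w (Multiset.mem_cons_of_mem hw)
  have h3 := congrArg traceG h
  rw [traceG_add, show traceG (0 : Gram) = 0 from rfl] at h3
  rw [← gramSum] at h3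
  generalize gramSum M' = R at h2 h3
  obtain ⟨aa, bb, cc, dd, ab, ac, ad, bc, bd, cd⟩ := R
  generalize traceG (outer v) = t at h1 h3
  rw [traceG] at h3
  simp only [okGram, decide_eq_true_eq] at h2
  omega

theorem count_lt_five {R' : Gram} (h2 : okGram R' = true) {v : Vec} (hv : v ∈ can) {j : ℕ}
    (hB : Below (j • outer v + R')) : j < 5 := by
  by_contra hj
  obtain ⟨aa, bb, cc, dd, ab, ac, ad, bc, bd, cd⟩ := R'
  have h1 := (show ∀ w ∈ can, 0 ≤ (outer w).1 ∧ 0 ≤ (outer w).2.1 ∧ 0 ≤ (outer w).2.2.1 ∧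
    0 ≤ (outer w).2.2.2.1 ∧ 0 < traceG (outer w) by decide +kernel) v hv
  generalize outer v = o at h1 hB
  obtain ⟨oa, ob, oc, od, r⟩ := o
  obtain ⟨r1, r2, r3, r4, r5, r6⟩ := r
  simp only [traceG, okGram, decide_eq_true_eq, Below, Prod.smul_mk, Prod.mk_add_mk, nsmul_eq_mul] at h1 h2 hB
  have h5 : (5 : ℤ) ≤ (j : ℤ) := by exact_mod_cast (Nat.le_of_not_lt hj)
  have hn : ∀ o : ℤ, 0 ≤ o → o ≠ 0 → (5 : ℤ) ≤ (j : ℤ) * o := fun o h0 h0' => by
    have : (1 : ℤ) ≤ o := by omega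
    nlinarith
  have k1 := hn oa h1.1
  have k2 := hn ob h1.2.1
  have k3 := hn oc h1.2.2.1
  have k4 := hn od h1.2.2.2.1
  omega

/-- Soundness of the search. -/
theorem search_sound (leaf : List Vec → Bool) : ∀ (l : List Vec) (R : Gram) (acc : List Vec),
    (∀ v ∈ l, v ∈ can) → search leaf l R acc = true → Below R → ∀ M : Multiset Vec,
    (∀ v ∈ M, v ∈ l) → gramSum M = R → ∃ l' : List Vec, M = ↑l' ∧ leaf (acc ++ l') = true
  | [], R, acc, _, h, _, M, hM, hs => by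
    obtain rfl : M = 0 := Multiset.eq_zero_of_forall_notMem fun v hv => List.not_mem_nil (hM v hv)
    rw [search, if_pos ((zeroGram_iff R).2 hs.symm)] at h
    exact ⟨[], rfl, by rwa [List.append_nil]⟩
  | v :: vs, R, acc, hl, h, hB, M, hM, hs => by
    rw [search] at h
    have hMc : ∀ w ∈ M, w ∈ can := fun w hw => hl w (hM w hw)
    by_cases h0 : R = 0
    · rw [if_pos ((zeroGram_iff R).2 h0)] at h
      obtain rfl : M = 0 := eq_zero_of_gramSum hMc (hs.trans h0)
      exact ⟨[], rfl, by rwa [List.append_nil]⟩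
    rw [if_neg (fun e => h0 ((zeroGram_iff R).1 e)), if_pos (hs ▸ okGram_gramSum hMc), List.all_eq_true] at h
    set M' := M.filter (fun w => w ≠ v) with hM'
    have hsplit : M = Multiset.replicate (M.count v) v + M' := by
      conv_lhs => rw [← Multiset.filter_add_not (fun w => w = v) M]
      rw [Multiset.filter_eq']
    have hM'c : ∀ w ∈ M', w ∈ can := fun w hw => hMc w (Multiset.mem_of_mem_filter hw)
    have hsum : R = M.count v • outer v + gramSum M' := by
      rw [← hs]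
      conv_lhs => rw [hsplit]
      simp [gramSum, Multiset.map_add, Multiset.sum_replicate, Multiset.map_replicate]
    have hj := count_lt_five (okGram_gramSum hM'c) (hl v List.mem_cons_self) (j := M.count v) (hsum ▸ hB)
    have hh := h (M.count v) (List.mem_range.2 hj)
    have hB' : Below (gramSum M') := by
      have h1 := (show ∀ w ∈ can, 0 ≤ (outer w).1 ∧ 0 ≤ (outer w).2.1 ∧ 0 ≤ (outer w).2.2.1 ∧
        0 ≤ (outer w).2.2.2.1 by decide +kernel) v (hl v List.mem_cons_self)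
      rw [hsum] at hB
      generalize gramSum M' = R' at hB ⊢
      generalize outer v = o at h1 hB
      obtain ⟨oa, ob, oc, od, r1, r2, r3, r4, r5, r6⟩ := o
      obtain ⟨aa, bb, cc, dd, ab, ac, ad, bc, bd, cd⟩ := R'
      simp only [Below, Prod.smul_mk, Prod.mk_add_mk, nsmul_eq_mul] at hB ⊢
      have hn : ∀ o : ℤ, 0 ≤ o → 0 ≤ (M.count v : ℤ) * o := fun o ho => mul_nonneg (by positivity) ho
      have := hn oa h1.1; have := hn ob h1.2.1; have := hn oc h1.2.2.1; have := hn od h1.2.2.2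
      omega
    obtain ⟨l', hl', hleaf⟩ := search_sound leaf vs _ _ (fun w hw => hl w (List.mem_cons_of_mem _ hw)) hh
      (by rwa [hsum, add_sub_cancel_left]) M'
      (fun w hw => by
        rw [hM', Multiset.mem_filter] at hw
        exact (List.mem_cons.1 (hM w hw.1)).resolve_left hw.2)
      (by rw [hsum, add_sub_cancel_left])
    refine ⟨List.replicate (M.count v) v ++ l', ?_, by rwa [← List.append_assoc]⟩
    rw [← Multiset.coe_add, Multiset.coe_replicate, ← hl', ← hsplit]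

/-- The residual Gram matrix of the dihedral case. -/
def gramDih : Gram := (3, 4, 3, 4, 1, 1, 2, 2, 2, 1)

/-- The six decompositions in the dihedral case. -/
def confDih : List (List Vec) :=
  [[(1, 1, 1, 1), (1, 1, 0, 1), (0, 1, 1, 0), (1, -1, 0, 0), (0, 0, 0, 1), (0, 0, 0, 1), (0, 0, 1, 0)],
   [(1, 1, 1, 1), (0, 1, 1, 1), (0, 0, 1, -1), (1, 0, 0, 1), (0, 1, 0, 0), (0, 1, 0, 0), (1, 0, 0, 0)],
   [(0, 1, 1, 1), (1, 1, 0, 1), (0, 1, 1, 0), (1, 0, 0, 1), (1, 0, 1, 0), (0, 0, 0, 1), (0, 1, 0, 0)],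
   [(0, 1, 1, 1), (1, 1, 1, 0), (0, 1, 0, 1), (1, 0, 0, 1), (1, 0, 0, 1), (0, 0, 1, 0), (0, 1, 0, 0)],
   [(1, 0, 1, 1), (1, 1, 0, 1), (0, 1, 0, 1), (0, 1, 1, 0), (0, 1, 1, 0), (0, 0, 0, 1), (1, 0, 0, 0)],
   [(1, 1, 1, 1), (0, 1, 0, 1), (0, 1, 1, 0), (1, 0, 0, 1), (0, 0, 0, 1), (0, 0, 1, 0), (0, 1, 0, 0),
    (1, 0, 0, 0)]]

/-- The residual Gram matrix of the cyclic case of order four. -/
def gramFour : Gram := (4, 4, 0, 0, 3, 0, 0, 0, 0, 0)

def confFour : List Vec := [(1, 1, 0, 0), (1, 1, 0, 0), (1, 1, 0, 0), (0, 1, 0, 0), (1, 0, 0, 0)]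

/-- The residual Gram matrix of the case of order two. -/
def gramTwo : Gram := (2, 2, 2, 2, 1, 1, 1, 1, 1, 1)

def confTwo : List Vec := [(1, 1, 1, 1), (0, 0, 0, 1), (0, 0, 1, 0), (0, 1, 0, 0), (1, 0, 0, 0)]

theorem classify_dih {M : Multiset Vec} (hM : ∀ v ∈ M, v ∈ can) (hs : gramSum M = gramDih) :
    ∃ l ∈ confDih, M = ↑l := by
  obtain ⟨l, hl, hleaf⟩ := search_sound (fun l => decide (l ∈ confDih)) can gramDih []
    (fun v hv => hv) (by decide +kernel) (by simp [Below, gramDih, gramFour, gramTwo]) M hM hs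
  exact ⟨l, by simpa using hleaf, hl⟩

theorem classify_four {M : Multiset Vec} (hM : ∀ v ∈ M, v ∈ can) (hs : gramSum M = gramFour) :
    M = ↑confFour := by
  obtain ⟨l, hl, hleaf⟩ := search_sound (fun l => decide (l = confFour)) can gramFour []
    (fun v hv => hv) (by decide +kernel) (by simp [Below, gramDih, gramFour, gramTwo]) M hM hs
  rw [hl, show l = confFour by simpa using hleaf]

theorem classify_two {M : Multiset Vec} (hM : ∀ v ∈ M, v ∈ can) (hs : gramSum M = gramTwo) :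
    M = ↑confTwo := by
  obtain ⟨l, hl, hleaf⟩ := search_sound (fun l => decide (l = confTwo)) can gramTwo []
    (fun v hv => hv) (by decide +kernel) (by simp [Below, gramDih, gramFour, gramTwo]) M hM hs
  rw [hl, show l = confTwo by simpa using hleaf]

end Cfsg.Agent.Solv.ThreeLocal
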