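import Mathlib
import Cfsg.Agent.Lib.Solv.ThreeLocal.Classify

/-!
# The rows of a system of integral columns
-/

set_option autoImplicit false

namespace Cfsg.Agent.Solv.ThreeLocal

/-- The sign making a vector canonical. -/
def sgnOf (v : Vec) : ℤ := if v ∈ can then 1 else -1

/-- The canonical representative. -/
def canOf (v : Vec) : Vec := sgnOf v • v

theorem sgnOf_sq (v : Vec) : sgnOf v * sgnOf v = 1 := by unfold sgnOf; split_ifs <;> rfl

theorem sgnOf_cases (v : Vec) : sgnOf v = 1 ∨ sgnOf v = -1 := by unfold sgnOf; split_ifs <;> simp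

theorem eq_smul_canOf (v : Vec) : v = sgnOf v • canOf v := by
  rw [canOf, smul_smul, sgnOf_sq, one_smul]

/-- All entries lie in `{-1, 0, 1}`. -/
def SmallVec (v : Vec) : Prop :=
  (-1 ≤ v.1 ∧ v.1 ≤ 1) ∧ (-1 ≤ v.2.1 ∧ v.2.1 ≤ 1) ∧ (-1 ≤ v.2.2.1 ∧ v.2.2.1 ≤ 1) ∧
    (-1 ≤ v.2.2.2 ∧ v.2.2.2 ≤ 1)

theorem canOf_mem {v : Vec} (h : SmallVec v) (h0 : v ≠ 0) : canOf v ∈ can := by
  have key : ∀ a ∈ [(-1 : ℤ), 0, 1], ∀ b ∈ [(-1 : ℤ), 0, 1], ∀ c ∈ [(-1 : ℤ), 0, 1],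
      ∀ d ∈ [(-1 : ℤ), 0, 1], (a, b, c, d) = ((0, 0, 0, 0) : Vec) ∨ canOf (a, b, c, d) ∈ can := by
    decide +kernel
  obtain ⟨a, b, c, d⟩ := v
  have hmem : ∀ x : ℤ, -1 ≤ x ∧ x ≤ 1 → x ∈ [(-1 : ℤ), 0, 1] := fun x hx => by
    simp only [List.mem_cons, List.not_mem_nil, or_false]
    omega
  exact (key a (hmem a h.1) b (hmem b h.2.1) c (hmem c h.2.2.1) d (hmem d h.2.2.2)).resolve_left h0

theorem outer_canOf (v : Vec) : outer (canOf v) = outer v := by
  rcases sgnOf_cases v with e | e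
  · rw [canOf, e, one_smul]
  · obtain ⟨a, b, c, d⟩ := v
    rw [canOf, e, neg_one_smul]
    simp [outer]

variable {ι : Type*}

theorem entry_small {s : Finset ι} {x y : ι → ℤ} {i : ι} (hi : i ∈ s) {N M : ℤ}
    (hx : ∑ j ∈ s, x j * x j = N) (hxy : ∑ j ∈ s, x j * y j = M) (hN : N < 4 ∨ N = 4 ∧ M % 2 = 1) :
    -1 ≤ x i ∧ x i ≤ 1 := by
  have h1 : x i * x i ≤ N := hx ▸ Finset.single_le_sum (fun j _ => mul_self_nonneg (x j)) hi
  by_contra hne
  have h4 : 4 ≤ x i * x i := by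
    rcases (show x i ≤ -2 ∨ 2 ≤ x i by omega) with h | h <;> nlinarith
  obtain ⟨hN4, hM⟩ := hN.resolve_left (by omega)
  classical
  rw [← Finset.add_sum_erase s _ hi] at hx hxy
  have h2 : ∀ j ∈ s.erase i, x j = 0 := fun j hj => mul_self_eq_zero.1
    ((Finset.sum_eq_zero_iff_of_nonneg fun k _ => mul_self_nonneg (x k)).1 (by omega) j hj)
  rw [Finset.sum_eq_zero fun j hj => by rw [h2 j hj, zero_mul], add_zero] at hxy
  have h5 : x i = 2 ∨ x i = -2 := by
    rcases (show x i ≤ -2 ∨ 2 ≤ x i by omega) with h | h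
    · exact Or.inr (by nlinarith)
    · exact Or.inl (by nlinarith)
  rcases h5 with e | e <;> rw [e] at hxy <;> omega

theorem lift_list {α : Type*} (f : ι → α) : ∀ (l : List α) (m : Multiset ι), m.map f = ↑l →
    ∃ li : List ι, m = ↑li ∧ li.map f = l
  | [], m, h => ⟨[], Multiset.map_eq_zero.1 h, rfl⟩
  | a :: l, m, h => by
    classical
    obtain ⟨i, hi, hia, hrest⟩ := (Multiset.map_eq_cons f m ↑l a).2 (by rw [h]; rfl)
    obtain ⟨li, hli, hmap⟩ := lift_list f l _ hrest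
    exact ⟨i :: li, by rw [← Multiset.cons_erase hi, hli]; rfl, by rw [List.map_cons, hia, hmap]⟩

/-- The parity condition keeping the entries small. -/
def Tight : Gram → Prop
  | (aa, bb, cc, dd, ab, _, _, _, _, cd) =>
    (aa < 4 ∨ aa = 4 ∧ ab % 2 = 1) ∧ (bb < 4 ∨ bb = 4 ∧ ab % 2 = 1) ∧
      (cc < 4 ∨ cc = 4 ∧ cd % 2 = 1) ∧ (dd < 4 ∨ dd = 4 ∧ cd % 2 = 1)

theorem sum_outer (s : Finset ι) (c : ι → Vec) :
    ∑ i ∈ s, outer (c i) =
      (∑ i ∈ s, (c i).1 * (c i).1, ∑ i ∈ s, (c i).2.1 * (c i).2.1, ∑ i ∈ s, (c i).2.2.1 * (c i).2.2.1,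
        ∑ i ∈ s, (c i).2.2.2 * (c i).2.2.2, ∑ i ∈ s, (c i).1 * (c i).2.1,
        ∑ i ∈ s, (c i).1 * (c i).2.2.1, ∑ i ∈ s, (c i).1 * (c i).2.2.2,
        ∑ i ∈ s, (c i).2.1 * (c i).2.2.1, ∑ i ∈ s, (c i).2.1 * (c i).2.2.2,
        ∑ i ∈ s, (c i).2.2.1 * (c i).2.2.2) := by
  classical
  induction s using Finset.induction_on with
  | empty => rfl
  | insert a s ha ih =>
    simp only [Finset.sum_insert ha]
    rw [ih]
    rfl

/-- The non-zero rows, up to sign, decompose the Gram matrix. -/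
theorem rows [DecidableEq ι] (s : Finset ι) (c : ι → Vec) (R : Gram) (hs : ∑ i ∈ s, outer (c i) = R)
    (hR : Tight R) :
    (∀ v ∈ ((s.filter fun i => c i ≠ 0).val.map fun i => canOf (c i)), v ∈ can) ∧
      gramSum ((s.filter fun i => c i ≠ 0).val.map fun i => canOf (c i)) = R := by
  have hsmall : ∀ i ∈ s, SmallVec (c i) := by
    intro i hi
    have e := (sum_outer s c).symm.trans hs
    obtain ⟨aa, bb, cc, dd, ab, ac, ad, bc, bd, cd⟩ := R
    simp only [Prod.mk.injEq] at e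
    obtain ⟨eaa, ebb, ecc, edd, eab, -, -, -, -, ecd⟩ := e
    obtain ⟨h1, h2, h3, h4⟩ := hR
    refine ⟨entry_small (x := fun j => (c j).1) hi eaa eab h1,
      entry_small (x := fun j => (c j).2.1) (y := fun j => (c j).1) hi ebb ?_ h2,
      entry_small (x := fun j => (c j).2.2.1) hi ecc ecd h3,
      entry_small (x := fun j => (c j).2.2.2) (y := fun j => (c j).2.2.1) hi edd ?_ h4⟩
    · rw [← eab]; exact Finset.sum_congr rfl fun j _ => mul_comm _ _
    · rw [← ecd]; exact Finset.sum_congr rfl fun j _ => mul_comm _ _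
  refine ⟨fun v hv => ?_, ?_⟩
  · obtain ⟨i, hi, rfl⟩ := Multiset.mem_map.1 hv
    have hi' := Finset.mem_filter.1 (Finset.mem_def.2 hi)
    exact canOf_mem (hsmall i hi'.1) hi'.2
  · rw [gramSum, Multiset.map_map]
    show ∑ i ∈ s.filter (fun i => c i ≠ 0), outer (canOf (c i)) = R
    rw [Finset.sum_congr rfl fun i _ => outer_canOf (c i), Finset.sum_filter_of_ne, hs]
    intro i _ h h0
    exact h (by rw [h0]; rfl)

/-- Named rows for a given decomposition. -/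
theorem named_rows [DecidableEq ι] (s : Finset ι) (c : ι → Vec) (l : List Vec)
    (h : ((s.filter fun i => c i ≠ 0).val.map fun i => canOf (c i)) = ↑l) :
    ∃ li : List ι, li.map (fun i => canOf (c i)) = l ∧ (∀ i ∈ li, i ∈ s ∧ c i ≠ 0) ∧
      ∀ {M : Type} [AddCommMonoid M] (F : ι → M), (∀ i ∈ s, c i = 0 → F i = 0) →
        ∑ i ∈ s, F i = (li.map F).sum := by
  obtain ⟨li, hli, hmap⟩ := lift_list _ l _ h
  refine ⟨li, hmap, fun i hi => ?_, fun {M} _ F hF => ?_⟩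
  · have : i ∈ (s.filter fun i => c i ≠ 0).val := by rw [hli]; exact hi
    exact Finset.mem_filter.1 (Finset.mem_def.2 this)
  · rw [← Finset.sum_filter_of_ne (p := fun i => c i ≠ 0) fun i hi hne h0 => hne (hF i hi h0),
      Finset.sum_eq_multiset_sum, hli, Multiset.map_coe, Multiset.sum_coe]

end Cfsg.Agent.Solv.ThreeLocal
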