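import Mathlib
import Cfsg.Agent.Lib.Solv.ThreeLocal.Basics
import Cfsg.Agent.Lib.Solv.ThreeLocal.Plane
import Cfsg.Agent.Lib.Solv.ThreeLocal.Rows
import Cfsg.Agent.Lib.Small.SimpleOrderTools
import Cfsg.Agent.S0496

/-!
# Simple groups with self-centralising elements of order three in an elementary group of order nine
-/

set_option autoImplicit false
set_option linter.unusedSimpArgs false

namespace Cfsg.Agent.Solv.ThreeLocal

open Cfsg Cfsg.Agent.Char
open scoped ComplexConjugate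

universe u

/-- The additive map with given values on the standard basis. -/
def lin (a b : Pl) (v : Pl) : Pl := v.1 • a + v.2 • b

theorem eq_lin (L : Pl ≃+ Pl) : ∀ v, L v = lin (L (1, 0)) (L (0, 1)) v := by
  intro v
  have hs : ∀ (i : ZMod 3) (t : Pl), L (i • t) = i • L t := fun i t => by
    obtain rfl | rfl | rfl : i = 0 ∨ i = 1 ∨ i = 2 := by revert i; decide
    · simp
    · simp
    · rw [two_smul, two_smul, map_add]
  conv_lhs => rw [show v = v.1 • ((1, 0) : Pl) + v.2 • ((0, 1) : Pl) by revert v; decide]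
  rw [map_add, hs, hs]
  rfl

/-- Either trivial or without fixed points. -/
def semiFree (T : Pl → Pl) : Bool :=
  decide (∀ v, T v = v) || decide (∀ v, v ≠ 0 → T v ≠ v)

/-- One orbit on the non-zero vectors. -/
def oneOrbit (T : Pl → Pl) : Bool :=
  decide (∀ v w : Pl, v ≠ 0 → w ≠ 0 → T^[0] v = w ∨ T^[1] v = w ∨ T^[2] v = w ∨ T^[3] v = w ∨
    T^[4] v = w ∨ T^[5] v = w ∨ T^[6] v = w ∨ T^[7] v = w)

theorem free_cases : ∀ a b : Pl, (∀ v, v ≠ 0 → lin a b v ≠ 0) →
    semiFree (lin a b)^[1] = true → semiFree (lin a b)^[2] = true →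
    semiFree (lin a b)^[3] = true → semiFree (lin a b)^[4] = true →
    (∀ v, lin a b v = v) ∨ (∀ v, lin a b v = -v) ∨ (∀ v, lin a b (lin a b v) = -v) ∨
      oneOrbit (lin a b) = true := by
  decide +kernel

theorem pl10 : ((1, 0) : Pl) ≠ 0 := by decide

theorem quarter_basis : ∀ a b : Pl, (∀ v, lin a b (lin a b v) = -v) →
    ∀ v, (v ≠ 0 → lin (1, 0) (lin a b (1, 0)) v ≠ 0) ∧
      lin a b (lin (1, 0) (lin a b (1, 0)) v) = lin (1, 0) (lin a b (1, 0)) (-v.2, v.1) := by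
  decide +kernel

/-- Whether a vector lies on one of the two coordinate axes. -/
def cls (v : Pl) : Bool := decide (v.1 = 0 ∨ v.2 = 0)

theorem cls_orbit : ∀ v w : Pl, v ≠ 0 → w ≠ 0 → cls v = cls w →
    ∃ i ∈ [0, 1, 2, 3], (fun t : Pl => (-t.2, t.1))^[i] v = w := by
  decide +kernel

variable {G : Type u} [Group G] [Finite G]

/-- The two possible fusion patterns. -/
theorem semi_classes [IsSimpleGroup G] (hna : ¬ IsMulCommutative G) (X : Ctx G) (P : Sylow 3 G)
    (hP : (P : Subgroup G) = X.S)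
    (hsemi : ∀ v, v ≠ 0 → Subgroup.centralizer ({X.e v} : Set G) = X.S)
    (hcl : ∃ v w : Pl, v ≠ 0 ∧ w ≠ 0 ∧ ¬ IsConj (X.e v) (X.e w)) :
    (∀ v w, v ≠ 0 → (IsConj (X.e v) (X.e w) ↔ w = v ∨ w = -v)) ∨
      ∃ L : Pl ≃+ Pl, ∀ v w, v ≠ 0 →
        (IsConj ((X.rebase L).e v) ((X.rebase L).e w) ↔ w ≠ 0 ∧ cls v = cls w) := by
  classical
  haveI : Fact (Nat.Prime 3) := ⟨Nat.prime_three⟩
  set N := Subgroup.normalizer (X.S : Set G) with hN
  have hpow : ∀ {g : G} {L : Pl ≃+ Pl}, (∀ v, g * X.e v * g⁻¹ = X.e (L v)) →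
      ∀ (n : ℕ) (v : Pl), g ^ n * X.e v * (g ^ n)⁻¹ = X.e ((lin (L (1, 0)) (L (0, 1)))^[n] v) := by
    intro g L hL n
    induction n with
    | zero => intro v; simp
    | succ n ih =>
      intro v
      rw [Function.iterate_succ_apply', ← eq_lin L, ← hL, ← ih v, pow_succ']
      group
  have hS : ∀ g ∈ X.S, ∀ v, g * X.e v * g⁻¹ = X.e v := by
    intro g hg v
    obtain ⟨t, rfl⟩ := (X.mem_iff g).1 hg
    rw [X.e_comm, mul_inv_cancel_right]
  have hfix : ∀ {g : G} {v : Pl}, v ≠ 0 → g * X.e v * g⁻¹ = X.e v → g ∈ X.S := by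
    intro g v hv h
    rw [← hsemi v hv, Subgroup.mem_centralizer_singleton_iff]
    exact mul_inv_eq_iff_eq_mul.1 h
  have hcases : ∀ g ∈ N, ∀ L : Pl ≃+ Pl, (∀ v, g * X.e v * g⁻¹ = X.e (L v)) →
      g ∈ X.S ∨ (∀ v, L v = -v) ∨ ∀ v, L (L v) = -v := by
    intro g hg L hL
    set T := lin (L (1, 0)) (L (0, 1)) with hT
    have hLT : ∀ v, L v = T v := eq_lin L
    have hsf : ∀ n : ℕ, semiFree T^[n] = true := fun n => by
      rw [semiFree, Bool.or_eq_true, decide_eq_true_eq, decide_eq_true_eq]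
      by_cases h : ∃ v, v ≠ 0 ∧ T^[n] v = v
      · left
        obtain ⟨v, hv, hfv⟩ := h
        have hmem : g ^ n ∈ X.S := hfix hv (by rw [hpow hL n v, hfv])
        exact fun w => X.inj (by rw [← hpow hL n w]; exact hS _ hmem w)
      · right
        exact fun v hv hfv => h ⟨v, hv, hfv⟩
    rcases free_cases (L (1, 0)) (L (0, 1))
      (fun v hv h => hv (L.injective ((hLT v).trans (h.trans (map_zero L).symm))))
      (hsf 1) (hsf 2) (hsf 3) (hsf 4) with h | h | h | h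
    · left
      exact hfix pl10 (by rw [hL, hLT]; exact congrArg X.e (h (1, 0)))
    · exact Or.inr (Or.inl fun v => (hLT v).trans (h v))
    · exact Or.inr (Or.inr fun v => by rw [hLT, hLT]; exact h v)
    · exfalso
      obtain ⟨v, w, hv, hw, hvw⟩ := hcl
      simp only [oneOrbit, decide_eq_true_eq] at h
      have key : ∀ i : ℕ, T^[i] v = w → False := fun i hi =>
        hvw (isConj_iff.2 ⟨g ^ i, by rw [hpow hL i v, hi]⟩)
      rcases h v w hv hw with e | e | e | e | e | e | e | e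
      exacts [key 0 e, key 1 e, key 2 e, key 3 e, key 4 e, key 5 e, key 6 e, key 7 e]
  obtain ⟨g0, hg0, hg0S⟩ : ∃ g0 ∈ N, g0 ∉ X.S := by
    by_contra hno
    push Not at hno
    have hle : Subgroup.normalizer ((P : Subgroup G) : Set G) ≤
        Subgroup.centralizer ((P : Subgroup G) : Set G) := by
      rw [hP]
      intro g hg
      rw [Subgroup.mem_centralizer_iff]
      intro s hs
      obtain ⟨t, rfl⟩ := (X.mem_iff g).1 (hno g hg)
      obtain ⟨t', rfl⟩ := (X.mem_iff s).1 hs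
      exact X.e_comm _ _
    have hc := MonoidHom.ker_transferSylow_isComplement' P hle
    have h9 : Nat.card (P : Subgroup G) = 9 := by rw [hP]; exact X.card_S
    rcases IsSimpleGroup.eq_bot_or_eq_top_of_normal (MonoidHom.transferSylow P hle).ker inferInstance with
      e | e <;> rw [e] at hc
    · have h := hc.card_mul
      rw [Subgroup.card_bot, one_mul, h9] at h
      have htop : X.S = ⊤ := Subgroup.eq_top_of_card_eq _ (by rw [X.card_S, h])
      exact hna ⟨⟨fun a b => by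
        obtain ⟨s, rfl⟩ := (X.mem_iff a).1 (htop ▸ Subgroup.mem_top a)
        obtain ⟨t, rfl⟩ := (X.mem_iff b).1 (htop ▸ Subgroup.mem_top b)
        exact X.e_comm s t⟩⟩
    · have h := hc.card_mul
      rw [Subgroup.card_top, h9] at h
      nlinarith [Nat.card_pos (α := G)]
  have hneg : ∀ v, IsConj (X.e v) (X.e (-v)) := by
    intro v
    obtain ⟨L, hL⟩ := X.exists_act hg0
    rcases hcases g0 hg0 L hL with h | h | h
    · exact absurd h hg0S
    · exact isConj_iff.2 ⟨g0, by rw [hL, h]⟩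
    · refine isConj_iff.2 ⟨g0 ^ 2, ?_⟩
      rw [hpow hL 2 v]
      show X.e (lin _ _ (lin _ _ v)) = _
      rw [← eq_lin L, ← eq_lin L, h]
  by_cases hq : ∃ g ∈ N, ∃ L : Pl ≃+ Pl, (∀ v, g * X.e v * g⁻¹ = X.e (L v)) ∧ ∀ v, L (L v) = -v
  swap
  · left
    intro v w hv
    refine ⟨fun h => ?_, ?_⟩
    · obtain ⟨g, hg, hgv⟩ := X.exists_of_isConj hv h
      obtain ⟨L, hL⟩ := X.exists_act hg
      have e : L v = w := X.inj ((hL v).symm.trans hgv)
      rcases hcases g hg L hL with h' | h' | h'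
      · left
        exact (X.inj ((hS g h' v).symm.trans hgv)).symm
      · right; rw [← e, h']
      · exact absurd ⟨g, hg, L, hL, h'⟩ hq
    · rintro (rfl | rfl)
      · exact IsConj.refl _
      · exact hneg v
  right
  obtain ⟨g, hg, L, hL, hL2⟩ := hq
  have hlin := quarter_basis (L (1, 0)) (L (0, 1)) fun v => by rw [← eq_lin L, ← eq_lin L, hL2]
  set M := lin (1, 0) (lin (L (1, 0)) (L (0, 1)) (1, 0)) with hM
  have hMadd : ∀ v w, M (v + w) = M v + M w := fun v w => by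
    simp only [hM, lin, Prod.fst_add, Prod.snd_add, add_smul]
    abel
  let Me : Pl ≃+ Pl := AddEquiv.ofBijective (AddMonoidHom.mk' M hMadd) (Finite.injective_iff_bijective.1
    ((injective_iff_map_eq_zero (AddMonoidHom.mk' M hMadd)).2 fun v h => by
      by_contra hv
      exact (hlin v).1 hv h))
  refine ⟨Me, ?_⟩
  set Y := X.rebase Me
  have hrot : ∀ v : Pl, g * Y.e v * g⁻¹ = Y.e (-v.2, v.1) := fun v => by
    show g * X.e (M v) * g⁻¹ = X.e (M (-v.2, v.1))
    rw [hL, eq_lin L]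
    exact congrArg X.e (hlin v).2
  have hrotn : ∀ (i : ℕ) (v : Pl), g ^ i * Y.e v * (g ^ i)⁻¹ = Y.e ((fun t : Pl => (-t.2, t.1))^[i] v) := by
    intro i
    induction i with
    | zero => intro v; simp
    | succ n ih =>
      intro v
      rw [Function.iterate_succ_apply', ← hrot, ← ih v, pow_succ']
      group
  have hsame : ∀ v w : Pl, v ≠ 0 → w ≠ 0 → cls v = cls w → IsConj (Y.e v) (Y.e w) := fun v w hv hw h => by
    obtain ⟨i, -, hi⟩ := cls_orbit v w hv hw h
    exact isConj_iff.2 ⟨g ^ i, by rw [hrotn, hi]⟩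
  intro v w hv
  refine ⟨fun h => ?_, fun h => hsame v w hv h.1 h.2⟩
  have hw : w ≠ 0 := by
    rintro rfl
    rw [Y.e_zero] at h
    exact Y.not_isConj_zero hv h.symm
  refine ⟨hw, ?_⟩
  by_contra hne
  obtain ⟨x, y, hx, hy, hxy⟩ := hcl
  have hall : ∀ x, x ≠ 0 → IsConj (Y.e v) (Y.e x) := fun x hx => by
    by_cases hvx : cls v = cls x
    · exact hsame v x hv hx hvx
    · refine h.trans (hsame w x hw hx ?_)
      revert hne hvx
      cases cls v <;> cases cls w <;> cases cls x <;> simp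
  have hx' : Me.symm x ≠ 0 := fun e => hx (by simpa using congrArg Me e)
  have hy' : Me.symm y ≠ 0 := fun e => hy (by simpa using congrArg Me e)
  have := (hall _ hx').symm.trans (hall _ hy')
  refine hxy ?_
  have ex : ∀ t, Y.e (Me.symm t) = X.e t := fun t => congrArg X.e (Me.apply_symm_apply t)
  rwa [ex, ex] at this

theorem term_div (σ d A B C : ℤ) (h : σ = 1 ∨ σ = -1) :
    (((σ * A) * (σ * B) * (σ * C) : ℤ) : ℚ) / (d : ℚ) = ((A * B * C : ℤ) : ℚ) / ((σ * d : ℤ) : ℚ) := by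
  rcases h with rfl | rfl <;> push_cast <;> ring

theorem vec_eq {v t : Vec} (h : canOf v = t) :
    v = (sgnOf v * t.1, sgnOf v * t.2.1, sgnOf v * t.2.2.1, sgnOf v * t.2.2.2) := by
  conv_lhs => rw [eq_smul_canOf v, h]
  rfl

variable [Fintype G]

/-- Four classes of elements of order three force a normal plane. -/
theorem false_of_four_classes (X : Ctx G)
    (hsemi : ∀ v, v ≠ 0 → Subgroup.centralizer ({X.e v} : Set G) = X.S) (hnn : ¬ X.S.Normal)
    (hconj : ∀ v w, v ≠ 0 → (IsConj (X.e v) (X.e w) ↔ w = v ∨ w = -v)) : False := by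
  classical
  have hreal : ∀ (χ : IrrCharacter G) (v : Pl), (χ : G → ℂ) (X.e (-v)) = (χ : G → ℂ) (X.e v) := by
    intro χ v
    rcases eq_or_ne v 0 with rfl | hv
    · rw [neg_zero]
    · obtain ⟨k, hk⟩ := isConj_iff.1 ((hconj v (-v) hv).2 (Or.inr rfl))
      rw [← hk]
      exact isClassFunction_character (irr_isCharacter χ.2) _ k
  choose a b1 b2 b3 b4 ha h1 h2 h3 h4 using fun χ : IrrCharacter G =>
    X.plane_data (irr_isCharacter χ.2) (hreal χ)
  let K : Fin 4 → Pl := ![(1, 0), (0, 1), (1, 1), (1, 2)]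
  let u : Fin 4 → IrrCharacter G → ℤ := ![fun χ => (a χ : ℤ) - b1 χ, fun χ => (a χ : ℤ) - b2 χ,
    fun χ => (a χ : ℤ) - b3 χ, fun χ => (a χ : ℤ) - b4 χ]
  let V : Fin 4 → IrrCharacter G → ℤ := fun k χ => u 0 χ + u 1 χ + u 2 χ + u 3 χ - 3 * u k χ
  have hV : ∀ k (χ : IrrCharacter G), (χ : G → ℂ) (X.e (K k)) = (V k χ : ℂ) := by
    intro k χ
    fin_cases k <;> simp only [V, u, K, Matrix.cons_val_zero, Matrix.cons_val_one, Matrix.cons_val,
      Fin.isValue, Fin.reduceFinMk, Int.cast_sub, Int.cast_add, Int.cast_mul, Int.cast_natCast,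
      Int.cast_ofNat, Fin.zero_eta, Fin.mk_one]
    · linear_combination (1 / 9 : ℂ) * (ha χ + 2 * h1 χ - h2 χ - h3 χ - h4 χ)
    · linear_combination (1 / 9 : ℂ) * (ha χ - h1 χ + 2 * h2 χ - h3 χ - h4 χ)
    · linear_combination (1 / 9 : ℂ) * (ha χ - h1 χ - h2 χ + 2 * h3 χ - h4 χ)
    · linear_combination (1 / 9 : ℂ) * (ha χ - h1 χ - h2 χ - h3 χ + 2 * h4 χ)
  have hK0 : ∀ k, K k ≠ 0 := by decide
  have hcard : ∀ v, v ≠ 0 → Nat.card (Subgroup.centralizer ({X.e v} : Set G)) = 9 := fun v hv => by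
    rw [hsemi v hv, X.card_S]
  have hO : ∀ k l, ∑ χ, V k χ * V l χ = if k = l then 9 else 0 := by
    intro k l
    rw [int_orth (X.e (K k)) (X.e (K l)) (V k) (V l) (hV k) (hV l), hcard _ (hK0 l)]
    have hKK : ∀ k l, (K l = K k ∨ K l = -K k) ↔ k = l := by decide
    simp only [hconj _ _ (hK0 k), hKK]
    split_ifs <;> rfl
  have hD : ∀ k, ∑ χ : IrrCharacter G, (deg (χ : G → ℂ) : ℤ) * V k χ = 0 := fun k =>
    deg_orth (fun h => hK0 k (X.e_eq_one_iff.1 h)) _ (hV k)
  -- the residual Gram matrix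
  let c : IrrCharacter G → Vec := fun χ => (u 0 χ, u 1 χ, u 2 χ, u 3 χ)
  have hone : ∀ k, u k (one : IrrCharacter G) = 1 := by
    have h := fun k => hV k (one : IrrCharacter G)
    simp only [one_apply] at h
    have e : ∀ k, V k (one : IrrCharacter G) = 1 := fun k => by exact_mod_cast (h k).symm
    have e0 := e 0; have e1 := e 1; have e2 := e 2; have e3 := e 3
    simp only [V] at e0 e1 e2 e3
    intro k
    fin_cases k <;> simp only [Fin.isValue, Fin.reduceFinMk, Fin.zero_eta, Fin.mk_one] <;> omega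
  have hG : ∀ k l, ∑ χ, u k χ * u l χ = if k = l then 3 else 2 := by
    intro k l
    have h9 : 9 * ∑ χ, u k χ * u l χ =
        ∑ χ, (V 0 χ + V 1 χ + V 2 χ + V 3 χ - V k χ) * (V 0 χ + V 1 χ + V 2 χ + V 3 χ - V l χ) := by
      rw [Finset.mul_sum]
      exact Finset.sum_congr rfl fun χ _ => by simp only [V]; ring
    simp only [add_mul, mul_add, sub_mul, mul_sub, Finset.sum_add_distrib, Finset.sum_sub_distrib, hO] at h9
    revert h9
    generalize ∑ χ, u k χ * u l χ = t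
    intro h9
    fin_cases k <;> fin_cases l <;> simp only [Fin.isValue, Fin.reduceFinMk, Fin.zero_eta, Fin.mk_one,
      Fin.reduceEq, if_true, if_false] at h9 ⊢ <;> omega
  set s := (Finset.univ : Finset (IrrCharacter G)).erase one with hs
  have hgram : ∑ χ ∈ s, outer (c χ) = gramTwo := by
    have h := Finset.add_sum_erase (Finset.univ : Finset (IrrCharacter G)) (fun χ => outer (c χ))
      (Finset.mem_univ one)
    rw [← hs, sum_outer Finset.univ c] at h
    simp only [c, hG, hone, outer, Fin.isValue, Fin.reduceEq, if_true, if_false, mul_one] at h ⊢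
    rw [← eq_sub_iff_add_eq'] at h
    rw [h]
    rfl
  obtain ⟨hmem, hsum⟩ := rows s c gramTwo hgram (by simp [gramTwo, Tight])
  obtain ⟨li, hmap, hli, hF⟩ := named_rows s c confTwo (classify_two hmem hsum)
  simp only [confTwo, List.map_eq_cons_iff, List.map_eq_nil_iff] at hmap
  obtain ⟨i0, l0, rfl, t0, i4, l1, rfl, t4, i3, l2, rfl, t3, i2, l3, rfl, t2, i1, l4, rfl, t1, rfl⟩ := hmap
  have hzero : ∀ χ : IrrCharacter G, c χ = 0 → ∀ k, u k χ = 0 := by
    intro χ h k
    simp only [c, Prod.mk_eq_zero] at h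
    fin_cases k
    exacts [h.1, h.2.1, h.2.2.1, h.2.2.2]
  have hsplit : ∀ {M : Type} [AddCommMonoid M] (F : IrrCharacter G → M), (∀ χ, c χ = 0 → F χ = 0) →
      ∑ χ, F χ = F one + (F i0 + (F i4 + (F i3 + (F i2 + F i1)))) := by
    intro M _ F h
    rw [← Finset.add_sum_erase _ F (Finset.mem_univ one), ← hs, hF F fun i _ => h i]
    simp
  -- the values in the rows
  have row : ∀ (i : IrrCharacter G) (x y z w : ℤ), canOf (c i) = (x, y, z, w) →
      u 0 i = sgnOf (c i) * x ∧ u 1 i = sgnOf (c i) * y ∧ u 2 i = sgnOf (c i) * z ∧ u 3 i = sgnOf (c i) * w := by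
    intro i x y z w h
    have e := vec_eq h
    simp only [c, Prod.mk.injEq] at e
    exact e
  obtain ⟨a0, b0, c0, d0⟩ := row i0 _ _ _ _ t0
  obtain ⟨a4, b4', c4, d4⟩ := row i4 _ _ _ _ t4
  obtain ⟨a3, b3', c3, d3⟩ := row i3 _ _ _ _ t3
  obtain ⟨a2, b2', c2, d2⟩ := row i2 _ _ _ _ t2
  obtain ⟨a1, b1', c1, d1⟩ := row i1 _ _ _ _ t1
  set f := fun i : IrrCharacter G => sgnOf (c i) * (deg (i : G → ℂ) : ℤ) with hf
  have hDu : ∀ k, ∑ χ : IrrCharacter G, (deg (χ : G → ℂ) : ℤ) * u k χ = 0 := by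
    intro k
    have h : 3 * ∑ χ : IrrCharacter G, (deg (χ : G → ℂ) : ℤ) * u k χ =
        ∑ χ : IrrCharacter G, ((deg (χ : G → ℂ) : ℤ) * V 0 χ + (deg (χ : G → ℂ) : ℤ) * V 1 χ +
          (deg (χ : G → ℂ) : ℤ) * V 2 χ + (deg (χ : G → ℂ) : ℤ) * V 3 χ - (deg (χ : G → ℂ) : ℤ) * V k χ) := by
      rw [Finset.mul_sum]
      exact Finset.sum_congr rfl fun χ _ => by simp only [V]; ring
    simp only [Finset.sum_add_distrib, Finset.sum_sub_distrib, hD] at h
    omega
  have e0 := hDu 0; have e1 := hDu 1; have e2 := hDu 2; have e3 := hDu 3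
  rw [hsplit _ fun χ h => by rw [hzero χ h _, mul_zero], hone, deg_one] at e0 e1 e2 e3
  rw [a0, a4, a3, a2, a1] at e0
  rw [b0, b4', b3', b2', b1'] at e1
  rw [c0, c4, c3, c2, c1] at e2
  rw [d0, d4, d3, d2, d1] at e3
  have q1 : f i1 = -1 - f i0 := by simp only [hf]; linear_combination e0
  have q2 : f i2 = f i1 := by simp only [hf]; linear_combination e1 - e0
  have q3 : f i3 = f i1 := by simp only [hf]; linear_combination e2 - e0
  have q4 : f i4 = f i1 := by simp only [hf]; linear_combination e3 - e0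
  -- the two coefficients
  have hsolve : ∀ (z : Pl) (n : ℕ), z ≠ 0 →
      ¬ (IsConj (X.e (1, 0)) (X.e (0, 1)) ∧ IsConj (X.e (-((1 : ZMod 3), (0 : ZMod 3)))) (X.e z)) := by
    intro z n hz h
    have := (hconj _ _ (by decide)).1 h.1
    revert this
    decide
  have hc1 := X.coef_rat (p := (1, 0)) (q := (0, 1)) (z := (1, 1)) (by decide) (hsolve _ 0 (by decide))
    (fun v => (v = (1, 0) ∨ v = -(1, 0)) ∧ ((1, 1) - v = (0, 1) ∨ (1, 1) - v = -(0, 1)))
    (fun v => and_congr (hconj _ _ (by decide)).symm (hconj _ _ (by decide)).symm)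
    (hV 0) (hV 1) (hV 2)
  rw [hcard _ (by decide), hcard _ (by decide), hsplit _ fun χ h => by simp [V, hzero χ h]] at hc1
  have hc2 := X.coef_rat (p := (1, 0)) (q := (0, 1)) (z := (1, 0)) (by decide) (hsolve _ 0 (by decide))
    (fun v => (v = (1, 0) ∨ v = -(1, 0)) ∧ ((1, 0) - v = (0, 1) ∨ (1, 0) - v = -(0, 1)))
    (fun v => and_congr (hconj _ _ (by decide)).symm (hconj _ _ (by decide)).symm)
    (hV 0) (hV 1) (hV 0)
  rw [hcard _ (by decide), hcard _ (by decide), hsplit _ fun χ h => by simp [V, hzero χ h]] at hc2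
  have hv : ∀ i (x y z w : ℤ), u 0 i = sgnOf (c i) * x → u 1 i = sgnOf (c i) * y →
      u 2 i = sgnOf (c i) * z → u 3 i = sgnOf (c i) * w →
      V 0 i = sgnOf (c i) * (y + z + w - 2 * x) ∧ V 1 i = sgnOf (c i) * (x + z + w - 2 * y) ∧
        V 2 i = sgnOf (c i) * (x + y + w - 2 * z) := by
    intro i x y z w k0 k1 k2 k3
    simp only [V, k0, k1, k2, k3]
    exact ⟨by ring, by ring, by ring⟩
  obtain ⟨A0, B0, C0⟩ := hv i0 _ _ _ _ a0 b0 c0 d0
  obtain ⟨A4, B4, C4⟩ := hv i4 _ _ _ _ a4 b4' c4 d4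
  obtain ⟨A3, B3, C3⟩ := hv i3 _ _ _ _ a3 b3' c3 d3
  obtain ⟨A2, B2, C2⟩ := hv i2 _ _ _ _ a2 b2' c2 d2
  obtain ⟨A1, B1, C1⟩ := hv i1 _ _ _ _ a1 b1' c1 d1
  have hVone : ∀ k, V k (one : IrrCharacter G) = 1 := fun k => by simp [V, hone]
  simp only [A0, B0, C0, A4, B4, C4, A3, B3, C3, A2, B2, C2, A1, B1, C1, hVone, deg_one,
    term_div _ _ _ _ _ (sgnOf_cases _)] at hc1 hc2
  rw [show (Finset.univ.filter fun v : Pl => (v = (1, 0) ∨ v = -(1, 0)) ∧
    ((1, 1) - v = (0, 1) ∨ (1, 1) - v = -(0, 1))).card = 1 by decide] at hc1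
  rw [show (Finset.univ.filter fun v : Pl => (v = (1, 0) ∨ v = -(1, 0)) ∧
    ((1, 0) - v = (0, 1) ∨ (1, 0) - v = -(0, 1))).card = 0 by decide] at hc2
  have hfi : ∀ i, sgnOf (c i) * (deg (i : G → ℂ) : ℤ) = f i := fun i => rfl
  simp only [hfi, q2, q3, q4] at hc1 hc2
  have hdpos : ∀ i : IrrCharacter G, 0 < (deg (i : G → ℂ) : ℤ) := fun i => by exact_mod_cast deg_pos i.2
  have hfne : ∀ i, f i ≠ 0 := fun i => by
    simp only [hf]
    refine mul_ne_zero ?_ (hdpos i).ne'
    rcases sgnOf_cases (c i) with e | e <;> rw [e] <;> norm_num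
  set F := f i1 with hFdef
  push_cast at hc1 hc2
  have hG0 : (Nat.card G : ℚ) ≠ 0 := Nat.cast_ne_zero.2 Nat.card_pos.ne'
  have hF0 : (F : ℚ) ≠ 0 := by exact_mod_cast hfne i1
  have hkey : (Nat.card G : ℚ) = -9 * F := by
    have h2' := (mul_eq_zero.1 (hc2.trans (by norm_num))).resolve_left hG0
    have : (Nat.card G : ℚ) * (-9 / (F : ℚ)) = 81 := by
      linear_combination hc1 - (Nat.card G : ℚ) * h2'
    field_simp at this
    linarith
  have hkey' : (Nat.card G : ℤ) = -9 * F := by exact_mod_cast hkey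
  have hsq : 4 * F ^ 2 + 1 ≤ (Nat.card G : ℤ) := by
    rw [← sum_deg_sq]
    have hsub : ∑ i ∈ s, (deg (i : G → ℂ) : ℤ) * (deg (i : G → ℂ) : ℤ) ≥
        ∑ i ∈ s.filter (fun i => c i ≠ 0), (deg (i : G → ℂ) : ℤ) * (deg (i : G → ℂ) : ℤ) :=
      Finset.sum_le_sum_of_subset_of_nonneg (Finset.filter_subset _ _) fun i _ _ => mul_self_nonneg _
    have hrows : ∑ i ∈ s.filter (fun i => c i ≠ 0), (deg (i : G → ℂ) : ℤ) * (deg (i : G → ℂ) : ℤ) =
        f i0 ^ 2 + (f i4 ^ 2 + (f i3 ^ 2 + (f i2 ^ 2 + f i1 ^ 2))) := by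
      rw [Finset.sum_filter, hF _ fun i hi h => by rw [if_neg (fun hne => hne h)]]
      simp only [List.map_cons, List.map_nil, List.sum_cons, List.sum_nil, add_zero]
      have hh : ∀ i ∈ [i0, i4, i3, i2, i1], (if c i ≠ 0 then (deg (i : G → ℂ) : ℤ) * (deg (i : G → ℂ) : ℤ) else 0)
          = f i ^ 2 := fun i hi => by
        rw [if_pos (hli i hi).2, hf]
        show _ = (sgnOf (c i) * (deg (i : G → ℂ) : ℤ)) ^ 2
        rw [mul_pow, pow_two (sgnOf _), sgnOf_sq, one_mul, pow_two]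
      rw [hh i0 (by simp), hh i4 (by simp), hh i3 (by simp), hh i2 (by simp), hh i1 (by simp)]
    rw [hrows, q4, q3, q2] at hsub
    rw [← Finset.add_sum_erase _ _ (Finset.mem_univ one), ← hs, deg_one]
    nlinarith [sq_nonneg (f i0)]
  have hF2 : -2 ≤ F := by nlinarith
  have hle : Nat.card G ≤ 18 := by
    have : (Nat.card G : ℤ) ≤ 18 := by omega
    exact_mod_cast this
  have h9 := X.card_S
  have hmul := X.S.card_mul_index
  rw [h9] at hmul
  have hidx : X.S.index = 1 ∨ X.S.index = 2 := by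
    have := X.S.index_ne_zero_of_finite
    omega
  rcases hidx with e | e
  · rw [Subgroup.index_eq_one] at e
    exact hnn (e ▸ inferInstance)
  · exact hnn (Subgroup.normal_of_index_eq_two e)

set_option linter.unusedVariables false in
/-- Four classes of elements of order three are impossible. -/
theorem no_four_classes (hna : commutator G = ⊤) (X : Ctx G)
    (hsemi : ∀ v, v ≠ 0 → Subgroup.centralizer ({X.e v} : Set G) = X.S) (hnn : ¬ X.S.Normal)
    (hconj : ∀ v w, v ≠ 0 → (IsConj (X.e v) (X.e w) ↔ w = v ∨ w = -v)) : False :=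
  false_of_four_classes X hsemi hnn hconj

end Cfsg.Agent.Solv.ThreeLocal
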