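import Mathlib
import Cfsg.Agent.Lib.Solv.ThreeLocal.Dih
import Cfsg.Agent.Lib.Solv.ThreeLocal.SixA

/-!
# Adapted coordinates from a dihedral subgroup of the normaliser
-/

set_option autoImplicit false

namespace Cfsg.Agent.Solv.ThreeLocal

universe u

theorem lin_period : ∀ a b : Pl, (∀ v, v ≠ 0 → lin a b v ≠ 0) → ∀ v, (lin a b)^[24] v = v := by
  decide +kernel

/-- `p` gives a basis in which `L` is a quarter turn and `M` a reflection. -/
def adapted (L M : Pl → Pl) (p : Pl) : Bool :=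
  decide (∀ v, v ≠ 0 → lin p (L p) v ≠ 0) && decide (∀ v, M (lin p (L p) v) = lin p (L p) (flip v)) &&
    decide (∀ v, L (lin p (L p) v) = lin p (L p) (rot v))

/-- `L` and `M` satisfy the relations of the dihedral group of order eight, faithfully. -/
def dihPair (L M : Pl → Pl) : Bool :=
  decide (∀ v, M (M v) = v) && decide (∀ v, L^[4] v = v) && !decide (∀ v, L (L v) = v) &&
    decide (∀ v, M (L (M (L v))) = v) && !decide (∀ v, M v = v) && !decide (∀ v, M v = L (L v))

/-- Normal form of a dihedral pair of linear maps. -/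
theorem dihedral_basis_bool : ∀ a b c d : Pl, dihPair (lin a b) (lin c d) = true →
    ∃ p : Pl, adapted (lin a b) (lin c d) p = true := by
  decide +kernel

theorem dihedral_basis (a b c d : Pl)
    (h1 : ∀ v, lin c d (lin c d v) = v) (h2 : ∀ v, (lin a b)^[4] v = v)
    (h3 : ¬ (∀ v, lin a b (lin a b v) = v)) (h4 : ∀ v, lin c d (lin a b (lin c d (lin a b v))) = v)
    (h5 : ¬ (∀ v, lin c d v = v)) (h6 : ¬ (∀ v, lin c d v = lin a b (lin a b v))) :
    ∃ p : Pl, adapted (lin a b) (lin c d) p = true := by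
  refine dihedral_basis_bool a b c d ?_
  simp only [dihPair, Bool.and_eq_true, Bool.not_eq_true', decide_eq_true_eq, decide_eq_false_iff_not]
  exact ⟨⟨⟨⟨⟨h1, h2⟩, h3⟩, h4⟩, h5⟩, h6⟩

theorem adapted_iff {L M : Pl → Pl} {p : Pl} (h : adapted L M p = true) (v : Pl) :
    (v ≠ 0 → lin p (L p) v ≠ 0) ∧ M (lin p (L p) v) = lin p (L p) (flip v) ∧
      L (lin p (L p) v) = lin p (L p) (rot v) := by
  simp only [adapted, Bool.and_eq_true, decide_eq_true_eq] at h
  exact ⟨h.1.1 v, h.1.2 v, h.2 v⟩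

variable {G : Type u} [Group G] [Finite G]

/-- The order of the normaliser when its Sylow 2-subgroups have order eight. -/
theorem Ctx.card_normalizer_72 (X : Ctx G) (P : Sylow 3 G) (hP : (P : Subgroup G) = X.S)
    (hcent : Subgroup.centralizer (X.S : Set G) = X.S)
    (S2 : Sylow 2 (Subgroup.normalizer (X.S : Set G))) (h8 : Nat.card S2 = 8) :
    Nat.card (Subgroup.normalizer (X.S : Set G)) = 72 := by
  haveI : Fact (Nat.Prime 2) := ⟨Nat.prime_two⟩
  haveI : Fact (Nat.Prime 3) := ⟨Nat.prime_three⟩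
  have h9 : 9 ∣ Nat.card (Subgroup.normalizer (X.S : Set G)) := X.card_S ▸ Subgroup.card_dvd_of_le Subgroup.le_normalizer
  have h8' : 8 ∣ Nat.card (Subgroup.normalizer (X.S : Set G)) := h8 ▸ Subgroup.card_subgroup_dvd_card (S2 : Subgroup (Subgroup.normalizer (X.S : Set G)))
  obtain ⟨k, hk⟩ : 72 ∣ Nat.card (Subgroup.normalizer (X.S : Set G)) := by
    have := (show Nat.Coprime 8 9 by decide).mul_dvd_of_dvd_of_dvd h8' h9
    simpa using this
  suffices k = 1 by rw [hk, this]
  by_contra hk1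
  obtain ⟨q, hq, hqk⟩ := Nat.exists_prime_and_dvd hk1
  have h27 : ¬ 27 ∣ Nat.card G := fun h => by
    have h' := (Sylow.card_eq_multiplicity P).symm.trans (by rw [hP, X.card_S] : Nat.card (P : Subgroup G) = 9)
    have h2 : 3 ^ 3 ∣ Nat.card G := by simpa using h
    have h3 := (Nat.prime_three.pow_dvd_iff_le_factorization Nat.card_pos.ne').1 h2
    have : 3 ^ (Nat.card G).factorization 3 ≥ 3 ^ 3 := Nat.pow_le_pow_right (by norm_num) h3
    omega
  have h16 : ¬ 16 ∣ Nat.card (Subgroup.normalizer (X.S : Set G)) := fun h => by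
    have h' := (Sylow.card_eq_multiplicity S2).symm.trans h8
    have h2 : 2 ^ 4 ∣ Nat.card (Subgroup.normalizer (X.S : Set G)) := by simpa using h
    have h3 := (Nat.prime_two.pow_dvd_iff_le_factorization Nat.card_pos.ne').1 h2
    have : 2 ^ (Nat.card (Subgroup.normalizer (X.S : Set G))).factorization 2 ≥ 2 ^ 4 := Nat.pow_le_pow_right (by norm_num) h3
    omega
  rcases eq_or_ne q 2 with rfl | h2
  · exact h16 (by rw [hk]; obtain ⟨j, rfl⟩ := hqk; exact ⟨9 * j, by ring⟩)
  rcases eq_or_ne q 3 with rfl | h3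
  · exact h27 (dvd_trans (by rw [hk]; obtain ⟨j, rfl⟩ := hqk; exact ⟨8 * j, by ring⟩)
      (Subgroup.card_subgroup_dvd_card _))
  haveI : Fact q.Prime := ⟨hq⟩
  obtain ⟨g, hg⟩ := exists_prime_orderOf_dvd_card' (G := Subgroup.normalizer (X.S : Set G)) q (hk ▸ Dvd.dvd.mul_left hqk _)
  obtain ⟨L, hL⟩ := X.exists_act g.2
  set T := lin (L (1, 0)) (L (0, 1)) with hT
  have hpow : ∀ (n : ℕ) (v : Pl), (g : G) ^ n * X.e v * ((g : G) ^ n)⁻¹ = X.e (T^[n] v) := by
    intro n
    induction n with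
    | zero => intro v; simp
    | succ n ih =>
      intro v
      rw [Function.iterate_succ_apply', hT, ← eq_lin L, ← hL, ← hT, ← ih v, pow_succ']
      group
  have hfix : ∀ v, T v = v := by
    intro v
    have hq1 : Function.IsPeriodicPt T q v := X.inj (by
      rw [← hpow, ← Subgroup.coe_pow, ← hg, pow_orderOf_eq_one]; simp)
    have h24 : Function.IsPeriodicPt T 24 v := lin_period _ _ (fun w hw h => hw (L.injective
      ((eq_lin L w).trans (h.trans (map_zero L).symm)))) v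
    have h1 := hq1.gcd h24
    have hco : Nat.gcd q 24 = 1 := by
      refine (Nat.Prime.coprime_iff_not_dvd hq).2 fun hd => ?_
      have : q ∣ 2 ^ 3 * 3 := by simpa using hd
      rcases hq.dvd_mul.1 this with h | h
      · exact h2 ((Nat.prime_dvd_prime_iff_eq hq Nat.prime_two).1 (hq.dvd_of_dvd_pow h))
      · exact h3 ((Nat.prime_dvd_prime_iff_eq hq Nat.prime_three).1 h)
    rw [hco] at h1
    exact h1
  have hgS : (g : G) ∈ X.S := by
    refine hcent.le (Subgroup.mem_centralizer_iff.2 ?_)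
    intro s hs
    obtain ⟨v, rfl⟩ := (X.mem_iff s).1 hs
    have := hL v
    rw [eq_lin L, ← hT, hfix, mul_inv_eq_iff_eq_mul] at this
    exact this.symm
  have h31 : orderOf (g : G) ∣ 3 := orderOf_dvd_of_pow_eq_one (X.cube_of_mem hgS)
  rw [Subgroup.orderOf_coe, hg] at h31
  exact h3 ((Nat.prime_dvd_prime_iff_eq hq Nat.prime_three).1 h31)

/-- Adapted coordinates from an embedded dihedral group of order eight. -/
theorem exists_dih (X : Ctx G) (hcent : Subgroup.centralizer (X.S : Set G) = X.S)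
    (φ : DihedralGroup 4 →* G) (hφ : Function.Injective φ)
    (hφN : ∀ x, φ x ∈ Subgroup.normalizer (X.S : Set G))
    (h72 : Nat.card (Subgroup.normalizer (X.S : Set G)) = 72) :
    ∃ Y : Ctx G, Y.S = X.S ∧ ∃ D : Dih Y, D.r = φ (.sr 0) ∧ D.R = φ (.r 1) := by
  obtain ⟨L, hL⟩ := X.exists_act (hφN (.r 1))
  obtain ⟨M, hM⟩ := X.exists_act (hφN (.sr 0))
  set Tl := lin (L (1, 0)) (L (0, 1)) with hTl
  set Tm := lin (M (1, 0)) (M (0, 1)) with hTm
  have hL' : ∀ v, φ (.r 1) * X.e v * (φ (.r 1))⁻¹ = X.e (Tl v) := fun v => by rw [hL, eq_lin L]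
  have hM' : ∀ v, φ (.sr 0) * X.e v * (φ (.sr 0))⁻¹ = X.e (Tm v) := fun v => by rw [hM, eq_lin M]
  have hone : ∀ x : DihedralGroup 4, (∀ v, φ x * X.e v * (φ x)⁻¹ = X.e v) → x = 1 := by
    intro x hx
    have hmem : φ x ∈ X.S := by
      rw [← hcent, Subgroup.mem_centralizer_iff]
      intro s hs
      obtain ⟨v, rfl⟩ := (X.mem_iff s).1 hs
      exact (mul_inv_eq_iff_eq_mul.1 (hx v)).symm
    have h3 : x ^ 3 = 1 := hφ (by rw [map_pow, X.cube_of_mem hmem, map_one])
    exact (show ∀ x : DihedralGroup 4, x ^ 3 = 1 → x = 1 by decide +kernel) x h3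
  have hcomp : ∀ (x y : G) (S T : Pl → Pl), (∀ v, x * X.e v * x⁻¹ = X.e (S v)) →
      (∀ v, y * X.e v * y⁻¹ = X.e (T v)) → ∀ v, x * y * X.e v * (x * y)⁻¹ = X.e (S (T v)) := by
    intro x y S T hx hy v
    rw [← hx, ← hy]; group
  have hid : ∀ {x : DihedralGroup 4} {T : Pl → Pl}, (∀ v, φ x * X.e v * (φ x)⁻¹ = X.e (T v)) → x = 1 →
      ∀ v, T v = v := fun {x T} h hx v => X.inj (by rw [← h v, hx, map_one]; simp)
  have hLL : ∀ v, φ (.r 2) * X.e v * (φ (.r 2))⁻¹ = X.e (Tl (Tl v)) := fun v => by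
    rw [show (DihedralGroup.r 2 : DihedralGroup 4) = .r 1 * .r 1 by decide, map_mul]
    exact hcomp _ _ _ _ hL' hL' v
  have hLLLL : ∀ v, φ 1 * X.e v * (φ 1)⁻¹ = X.e (Tl (Tl (Tl (Tl v)))) := fun v => by
    rw [show (1 : DihedralGroup 4) = .r 2 * .r 2 by decide, map_mul]
    exact hcomp _ _ _ _ hLL hLL v
  have hMM : ∀ v, φ 1 * X.e v * (φ 1)⁻¹ = X.e (Tm (Tm v)) := fun v => by
    rw [show (1 : DihedralGroup 4) = .sr 0 * .sr 0 by decide, map_mul]
    exact hcomp _ _ _ _ hM' hM' v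
  have hML : ∀ v, φ (.sr 1) * X.e v * (φ (.sr 1))⁻¹ = X.e (Tm (Tl v)) := fun v => by
    rw [show (DihedralGroup.sr 1 : DihedralGroup 4) = .sr 0 * .r 1 by decide, map_mul]
    exact hcomp _ _ _ _ hM' hL' v
  have hMLML : ∀ v, φ 1 * X.e v * (φ 1)⁻¹ = X.e (Tm (Tl (Tm (Tl v)))) := fun v => by
    rw [show (1 : DihedralGroup 4) = .sr 1 * .sr 1 by decide, map_mul]
    exact hcomp _ _ _ _ hML hML v
  obtain ⟨p, hp'⟩ := dihedral_basis (L (1, 0)) (L (0, 1)) (M (1, 0)) (M (0, 1)) (hid hMM rfl)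
    (hid hLLLL rfl)
    (fun h => absurd (hone (.r 2) fun v => by rw [hLL]; exact congrArg X.e (h v)) (by decide))
    (hid hMLML rfl)
    (fun h => absurd (hone (.sr 0) fun v => by rw [hM']; exact congrArg X.e (h v)) (by decide))
    (fun h => absurd (hone (.r 2 * .sr 0) fun v => by
      rw [map_mul, hcomp _ _ _ _ hLL hM' v]
      exact congrArg X.e ((congrArg (fun t => Tl (Tl t)) (h v)).trans (hid hLLLL rfl v))) (by decide))
  have hp := adapted_iff hp'
  set B := lin p (lin (L (1, 0)) (L (0, 1)) p) with hB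
  have hBadd : ∀ v w, B (v + w) = B v + B w := fun v w => by
    simp only [hB, lin, Prod.fst_add, Prod.snd_add, add_smul]
    abel
  let Be : Pl ≃+ Pl := AddEquiv.ofBijective (AddMonoidHom.mk' B hBadd) (Finite.injective_iff_bijective.1
    ((injective_iff_map_eq_zero (AddMonoidHom.mk' B hBadd)).2 fun v h => by
      by_contra hv
      exact (hp v).1 hv h))
  have hrn : ∀ i : ZMod 4, φ (.r i) = φ (.r 1) ^ i.val := fun i => by
    rw [← map_pow]
    exact congrArg φ ((show ∀ i : ZMod 4, DihedralGroup.r i = (DihedralGroup.r 1) ^ i.val by decide) i)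
  refine ⟨X.rebase Be, rfl, {
    r := φ (.sr 0), R := φ (.r 1)
    r_sq := by rw [← map_mul, show (DihedralGroup.sr 0 * .sr 0 : DihedralGroup 4) = 1 by decide, map_one]
    R_four := by rw [← map_pow, show ((DihedralGroup.r 1) ^ 4 : DihedralGroup 4) = 1 by decide, map_one]
    rel := by rw [← map_mul, ← map_mul, ← map_inv]; exact congrArg φ (by decide)
    r_act := fun v => by
      show φ (.sr 0) * X.e (B v) * (φ (.sr 0))⁻¹ = X.e (B (flip v))
      rw [hM']
      exact congrArg X.e (hp v).2.1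
    R_act := fun v => by
      show φ (.r 1) * X.e (B v) * (φ (.r 1))⁻¹ = X.e (B (rot v))
      rw [hL']
      exact congrArg X.e (hp v).2.2
    cover := ?_ }, rfl, rfl⟩
  intro g hg
  let F : Pl × DihedralGroup 4 → G := fun x => X.e (B x.1) * φ x.2
  have hmemF : ∀ x, F x ∈ Subgroup.normalizer (X.S : Set G) := fun x =>
    Subgroup.mul_mem _ (Subgroup.le_normalizer (X.e_mem _)) (hφN _)
  have hinj : Function.Injective F := by
    rintro ⟨v, x⟩ ⟨w, y⟩ h
    simp only [F] at h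
    have hy : φ (x * y⁻¹) = X.e (-(B v) + B w) := by
      rw [map_mul, map_inv, X.e_add, X.e_neg, mul_inv_eq_iff_eq_mul, mul_assoc, ← h, inv_mul_cancel_left]
    have hxy : x = y := mul_inv_eq_one.1 (hone _ fun t => by rw [hy, X.e_comm, mul_inv_cancel_right])
    subst hxy
    rw [show v = w from Be.injective (X.inj (mul_right_cancel h))]
  have hbij : Function.Bijective (fun x => (⟨F x, hmemF x⟩ : Subgroup.normalizer (X.S : Set G))) := by
    rw [Nat.bijective_iff_injective_and_card]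
    exact ⟨fun a b h => hinj (congrArg Subtype.val h), by
      rw [h72, Nat.card_prod, DihedralGroup.nat_card]; simp [Pl, Nat.card_eq_fintype_card]⟩
  obtain ⟨⟨v, x⟩, hx⟩ := hbij.2 ⟨g, hg⟩
  have hgx : g = X.e (B v) * φ x := (congrArg Subtype.val hx).symm
  rcases x with i | i
  · refine ⟨v, i.val, ZMod.val_lt i, Or.inl ?_⟩
    rw [hgx, hrn]; rfl
  · refine ⟨v, (-i).val, ZMod.val_lt _, Or.inr ?_⟩
    rw [hgx, mul_assoc, ← hrn, ← map_mul,
      (show ∀ i : ZMod 4, DihedralGroup.sr i = DihedralGroup.r (-i) * DihedralGroup.sr 0 by decide) i]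
    rfl

end Cfsg.Agent.Solv.ThreeLocal
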