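import Mathlib
import Cfsg.Agent.Lib.Small.Order360
import Cfsg.Agent.Lib.Lead.CentTwoSFour

/-!
# An extension of the simple group of order 360 by a symmetry fixing an element of order three
-/

set_option autoImplicit false

namespace Cfsg.Agent.Solv.ThreeLocal

open Equiv

universe u

variable {G : Type u} [Group G] [Finite G]

theorem no_six : ∀ a : alternatingGroup (Fin 6), a ^ 6 = 1 → a ^ 2 = 1 ∨ a ^ 3 = 1 := by
  decide +kernel

/-- A group of order 360 has no commuting elements of orders two and three. -/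
theorem no_commuting_360 [IsSimpleGroup G] (h : Nat.card G = 360) {a b : G} (ha : a ^ 2 = 1) (ha1 : a ≠ 1)
    (hb : b ^ 3 = 1) (hb1 : b ≠ 1) (hab : a * b = b * a) : False := by
  haveI : IsSimpleGroup (alternatingGroup (Fin 6)) := alternatingGroup.isSimpleGroup (by simp)
  obtain ⟨ψ⟩ := Small.Order360.iso h (H := alternatingGroup (Fin 6))
    (by rw [nat_card_alternatingGroup]; simp [Nat.factorial])
  have hc : Commute a b := hab
  have h6 : (a * b) ^ 6 = 1 := by
    rw [hc.mul_pow, show a ^ 6 = (a ^ 2) ^ 3 from pow_mul a 2 3, show b ^ 6 = (b ^ 3) ^ 2 from pow_mul b 3 2,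
      ha, hb, one_pow, one_pow, one_mul]
  rcases no_six (ψ (a * b)) (by rw [← map_pow, h6, map_one]) with e | e <;>
    rw [← map_pow, MulEquiv.map_eq_one_iff, hc.mul_pow] at e
  · rw [ha, one_mul] at e
    refine hb1 ?_
    rw [← hb, pow_succ, e, one_mul]
  · rw [hb, mul_one] at e
    refine ha1 ?_
    rw [← e, pow_succ, ha, one_mul]

/-- An outer symmetry of order two fixing an element of order three gives the symmetric group. -/
theorem iso_sym_six {T : Subgroup G} [hTn : T.Normal] [IsSimpleGroup T] (hT : Nat.card T = 360)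
    (hG : Nat.card G = 720) (hCT : Subgroup.centralizer (T : Set G) = ⊥) {r : G} (hr : r * r = 1)
    (hrT : r ∉ T) {a : G} (haT : a ∈ T) (ha : orderOf a = 3) (hra : r * a = a * r) :
    Nonempty (G ≃* Perm (Fin 6)) := by
  haveI : IsSimpleGroup (alternatingGroup (Fin 6)) := alternatingGroup.isSimpleGroup (by simp)
  obtain ⟨ψ⟩ := Small.Order360.iso hT (H := alternatingGroup (Fin 6))
    (by rw [nat_card_alternatingGroup]; simp [Nat.factorial])
  let K := alternatingGroup (Fin 6)
  let c : G →* MulAut K :=
    { toFun := fun g => (ψ.symm.trans (MulAut.conjNormal g : MulAut T)).trans ψ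
      map_one' := by
        ext x
        simp [MulAut.one_apply]
      map_mul' := fun g h => by
        ext x
        simp [MulAut.mul_apply] }
  have hc : ∀ g x, c g x = ψ (MulAut.conjNormal g (ψ.symm x)) := fun g x => rfl
  have hinj : Function.Injective c := by
    rw [injective_iff_map_eq_one]
    intro g hg
    have hgc : g ∈ Subgroup.centralizer (T : Set G) := by
      rw [Subgroup.mem_centralizer_iff]
      intro t ht
      have h1 := DFunLike.congr_fun hg (ψ ⟨t, ht⟩)
      rw [hc, MulEquiv.symm_apply_apply, MulAut.one_apply, ψ.injective.eq_iff] at h1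
      have h2 := congrArg Subtype.val h1
      rw [MulAut.conjNormal_apply] at h2
      exact (mul_inv_eq_iff_eq_mul.1 h2).symm
    rw [hCT, Subgroup.mem_bot] at hgc
    exact hgc
  let d : Perm (Fin 6) →* MulAut K := MulAut.conjNormal
  have h2 : T.index = 2 := by
    have := T.card_mul_index
    rw [hT, hG] at this
    omega
  have hTd : ∀ t ∈ T, c t ∈ d.range := by
    intro t ht
    refine ⟨(ψ ⟨t, ht⟩ : Perm (Fin 6)), ?_⟩
    ext x : 1
    refine Subtype.ext ?_
    rw [hc, show MulAut.conjNormal t (ψ.symm x) = (⟨t, ht⟩ : T) * ψ.symm x * (⟨t, ht⟩ : T)⁻¹ from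
      Subtype.ext (by rw [MulAut.conjNormal_apply]; rfl), map_mul, map_mul, map_inv, MulEquiv.apply_symm_apply]
    show ((MulAut.conjNormal (ψ ⟨t, ht⟩ : Perm (Fin 6)) x : K) : Perm (Fin 6)) = _
    rw [MulAut.conjNormal_apply]
    rfl
  have hrd : c r ∈ d.range := by
    obtain ⟨π, hπ⟩ := Lead.CentTwoSFour.exists_perm_of_fixed (c r) (fun x => by
      rw [← MulAut.mul_apply, ← map_mul, hr, map_one, MulAut.one_apply]) (ψ ⟨a, haT⟩)
      (by rw [MulEquiv.orderOf_eq, Subgroup.orderOf_mk, ha]) (by
        rw [hc, MulEquiv.symm_apply_apply]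
        congr 1
        refine Subtype.ext ?_
        rw [MulAut.conjNormal_apply, hra, mul_inv_cancel_right])
    exact ⟨π, hπ.symm⟩
  have hle : c.range ≤ d.range := by
    rintro _ ⟨g, rfl⟩
    by_cases hg : g ∈ T
    · exact hTd g hg
    · have hrg : r * g ∈ T := (Subgroup.mul_mem_iff_of_index_two h2).2 (iff_of_false hrT hg)
      have := d.range.mul_mem hrd (hTd _ hrg)
      rwa [← map_mul, ← mul_assoc, hr, one_mul] at this
  have h720 : Nat.card (Perm (Fin 6)) = 720 := by simp [Fintype.card_perm, Nat.factorial]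
  have hcc : Nat.card c.range = 720 := by
    rw [← hG]
    exact (Nat.card_congr (MonoidHom.ofInjective hinj).toEquiv).symm
  have hdd : Nat.card d.range ≤ 720 :=
    h720 ▸ Nat.card_le_card_of_surjective d.rangeRestrict d.rangeRestrict_surjective
  have hge := Subgroup.card_le_of_le hle
  have heq : c.range = d.range := Subgroup.eq_of_le_of_card_ge hle (by omega)
  have hdb : Function.Bijective d.rangeRestrict :=
    (Nat.bijective_iff_surjective_and_card _).2 ⟨d.rangeRestrict_surjective, by omega⟩
  exact ⟨(MonoidHom.ofInjective hinj).trans ((MulEquiv.subgroupCongr heq).trans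
    (MulEquiv.ofBijective d.rangeRestrict hdb).symm)⟩

end Cfsg.Agent.Solv.ThreeLocal
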