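import Mathlib
import Cfsg.Agent.Lib.Solv.Generation
import Cfsg.Agent.Lib.Solv.ThreeLocal.Dih

/-!
# The minimal normal subgroup in the dihedral case
-/

set_option autoImplicit false

namespace Cfsg.Agent.Solv.ThreeLocal

universe u

theorem class_spans : ∀ v : Pl, v ≠ 0 → ∀ w : Pl, ∃ a b : Pl,
    (a = 0 ∨ a ≠ 0 ∧ axisB v = axisB a) ∧ (b = 0 ∨ b ≠ 0 ∧ axisB v = axisB b) ∧ w = a + b := by
  decide +kernel

theorem pair_spans : ∀ v w : Pl, v ≠ 0 → (∀ i : ZMod 3, w ≠ i • v) →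
    ∀ z : Pl, ∃ i j : ZMod 3, z = i • v + j • w := by
  decide +kernel

theorem line_meet : ∀ v : Pl, v ≠ 0 → ∀ i j : ZMod 3, rot (i • v) = j • v → i = 0 := by
  decide +kernel

variable {G : Type u} [Group G] [Finite G] {X : Ctx G}

/-- A subgroup of order prime to three normalised by the plane is trivial. -/
theorem core_trivial (hcent : Subgroup.centralizer (X.S : Set G) = X.S) {K : Subgroup G}
    (hSK : X.S ≤ Subgroup.normalizer (K : Set G)) (h3 : ¬ 3 ∣ Nat.card K) : K = ⊥ := by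
  have hA : IsMulCommutative X.S := ⟨⟨fun a b => Subtype.ext (by
    obtain ⟨v, hv⟩ := (X.mem_iff _).1 a.2
    obtain ⟨w, hw⟩ := (X.mem_iff _).1 b.2
    simp only [Subgroup.coe_mul, ← hv, ← hw]
    exact X.e_comm v w)⟩⟩
  have hco : (Nat.card X.S).Coprime (Nat.card K) := by
    rw [X.card_S, show (9 : ℕ) = 3 ^ 2 from rfl]
    exact ((Nat.Prime.coprime_iff_not_dvd Nat.prime_three).2 h3).pow_left 2
  have hint : ∀ y ∈ K, y ∈ X.S → y = 1 := by
    intro y hyK hyS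
    by_contra hy1
    have h1 : orderOf y ∣ 3 := orderOf_dvd_of_pow_eq_one (X.cube_of_mem hyS)
    have h2 := orderOf_dvd_natCard (⟨y, hyK⟩ : K)
    rw [Subgroup.orderOf_mk] at h2
    rcases (Nat.dvd_prime Nat.prime_three).1 h1 with e | e
    · exact hy1 (orderOf_eq_one_iff.1 e)
    · exact h3 (e ▸ h2)
  rw [← gen_eq X.S K hA hSK hco, eq_bot_iff]
  refine iSup₂_le fun B hB x hx => ?_
  obtain ⟨hBS, a, ha, hBa⟩ := hB
  obtain ⟨s, hs, hs1⟩ : ∃ s ∈ B, s ≠ 1 := by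
    by_contra h
    push Not at h
    rw [(Subgroup.eq_bot_iff_forall B).2 h, bot_sup_eq] at hBa
    have h9 := congrArg (fun H : Subgroup G => Nat.card H) hBa
    simp only [Nat.card_zpowers, X.card_S] at h9
    have := orderOf_dvd_of_pow_eq_one (X.cube_of_mem ha)
    rw [h9] at this
    norm_num at this
  obtain ⟨v, hv⟩ := (X.mem_iff s).1 (hBS hs)
  have hxs : x * X.e v = X.e v * x := by
    rw [hv]; exact (Subgroup.mem_centralizer_iff.1 hx.2 s hs).symm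
  have hxN := X.loc v (fun h => hs1 (by rw [← hv, h, X.e_zero])) x hxs
  have hxS : x ∈ X.S := by
    refine hcent.le (Subgroup.mem_centralizer_iff.2 fun t ht => ?_)
    have h1 : x * t * x⁻¹ * t⁻¹ ∈ X.S :=
      X.S.mul_mem ((Subgroup.mem_normalizer_iff.1 hxN t).1 ht) (X.S.inv_mem ht)
    have h2 : x * t * x⁻¹ * t⁻¹ ∈ K := by
      rw [show x * t * x⁻¹ * t⁻¹ = x * (t * x⁻¹ * t⁻¹) by group]
      exact K.mul_mem hx.1 ((Subgroup.mem_normalizer_iff.1 (hSK ht) _).1 (K.inv_mem hx.1))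
    have h4 := hint _ h2 h1
    rw [mul_inv_eq_one, mul_inv_eq_iff_eq_mul] at h4
    exact h4.symm
  exact Subgroup.mem_bot.2 (hint x hx.1 hxS)

/-- Inside a subgroup containing the Sylow subgroup, an element of cube one is conjugate into it. -/
theorem conj_into (P : Sylow 3 G) (hP : (P : Subgroup G) = X.S) {A : Subgroup G} (hA : X.S ≤ A)
    {x : G} (hx : x ∈ A) (hx3 : x ^ 3 = 1) : ∃ a ∈ A, a * x * a⁻¹ ∈ X.S := by
  haveI : Fact (Nat.Prime 3) := ⟨Nat.prime_three⟩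
  have hp : IsPGroup 3 (Subgroup.zpowers (⟨x, hx⟩ : A)) := by
    rintro ⟨y, hy⟩
    obtain ⟨k, rfl⟩ := Subgroup.mem_zpowers_iff.1 hy
    refine ⟨1, Subtype.ext ?_⟩
    show ((⟨x, hx⟩ : A) ^ k) ^ (3 ^ 1) = 1
    rw [pow_one, ← zpow_natCast, ← zpow_mul, mul_comm, zpow_mul, zpow_natCast,
      show (⟨x, hx⟩ : A) ^ 3 = 1 from Subtype.ext hx3, one_zpow]
  obtain ⟨Q, hQ⟩ := hp.exists_le_sylow
  obtain ⟨a, ha⟩ := MulAction.exists_smul_eq A Q (P.subtype (hP ▸ hA))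
  refine ⟨a, a.2, ?_⟩
  have h1 : a * (⟨x, hx⟩ : A) * a⁻¹ ∈ (P.subtype (hP ▸ hA) : Subgroup A) := by
    rw [← ha, Sylow.coe_subgroup_smul]
    exact ⟨⟨x, hx⟩, hQ (Subgroup.mem_zpowers _), rfl⟩
  rw [Sylow.coe_subtype, Subgroup.mem_subgroupOf, hP] at h1
  exact h1

/-- Elements of order three exist in every non-trivial subgroup normalised by the plane. -/
theorem exists_mem_plane (P : Sylow 3 G) (hP : (P : Subgroup G) = X.S)
    (hcent : Subgroup.centralizer (X.S : Set G) = X.S) {A K : Subgroup G} (hA : X.S ≤ A) (hKA : K ≤ A)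
    (hnorm : A ≤ Subgroup.normalizer (K : Set G)) (hK : K ≠ ⊥) : ∃ v : Pl, v ≠ 0 ∧ X.e v ∈ K := by
  haveI : Fact (Nat.Prime 3) := ⟨Nat.prime_three⟩
  have h3 : 3 ∣ Nat.card K := by
    by_contra h
    exact hK (core_trivial hcent (hA.trans hnorm) h)
  obtain ⟨x, hx⟩ := exists_prime_orderOf_dvd_card' (G := K) 3 h3
  have hx3 : (x : G) ^ 3 = 1 := by
    rw [← hx, ← Subgroup.orderOf_coe, pow_orderOf_eq_one]
  obtain ⟨a, ha, hax⟩ := conj_into P hP hA (hKA x.2) hx3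
  obtain ⟨v, hv⟩ := (X.mem_iff _).1 hax
  refine ⟨v, ?_, hv ▸ (Subgroup.mem_normalizer_iff.1 (hnorm ha) _).1 x.2⟩
  rintro rfl
  rw [X.e_zero, eq_comm, conj_eq_one_iff] at hv
  rw [← Subgroup.orderOf_coe, hv, orderOf_one] at hx
  norm_num at hx

/-- The minimal normal subgroup. -/
theorem exists_socle (D : Dih X) (P : Sylow 3 G) (hP : (P : Subgroup G) = X.S)
    (hcent : Subgroup.centralizer (X.S : Set G) = X.S) (hnn : ¬ X.S.Normal) :
    ∃ T : Subgroup G, T.Normal ∧ X.S ≤ T ∧ Subgroup.centralizer (T : Set G) = ⊥ ∧ IsSimpleGroup T ∧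
      ∀ g : G, ∃ t ∈ T, ∃ n ∈ Subgroup.normalizer (X.S : Set G), g = t * n := by
  set T := Subgroup.normalClosure (X.S : Set G) with hT
  haveI hTn : T.Normal := Subgroup.normalClosure_normal
  have hST : X.S ≤ T := Subgroup.le_normalClosure
  have hfact : ∀ g : G, ∃ t ∈ T, ∃ n ∈ Subgroup.normalizer (X.S : Set G), g = t * n := by
    intro g
    have hv : ((1, 0) : Pl) ≠ 0 := by decide
    obtain ⟨t, ht, htm⟩ := conj_into P hP hST (hTn.conj_mem _ (hST (X.e_mem (1, 0))) g)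
      (by rw [conj_pow, X.e_cube]; group)
    obtain ⟨w, hw⟩ := (X.mem_iff _).1 htm
    refine ⟨t⁻¹, T.inv_mem ht, t * g, X.fusion hv (w := w) ?_, by group⟩
    rw [hw]; group
  have hNn : ¬ T ≤ Subgroup.normalizer (X.S : Set G) := fun h => hnn (by
    rw [← Subgroup.normalizer_eq_top_iff, eq_top_iff]
    intro g _
    obtain ⟨t, ht, n, hn, rfl⟩ := hfact g
    exact Subgroup.mul_mem _ (h ht) hn)
  have hmin : ∀ K : Subgroup G, K.Normal → K ≠ ⊥ → X.S ≤ K := by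
    intro K hK hK1
    obtain ⟨v, hv, hvK⟩ := exists_mem_plane P hP hcent (A := ⊤) (K := K) le_top le_top
      (by rw [Subgroup.normalizer_eq_top]) hK1
    intro s hs
    obtain ⟨w, rfl⟩ := (X.mem_iff s).1 hs
    have hcls : ∀ a : Pl, (a = 0 ∨ a ≠ 0 ∧ axisB v = axisB a) → X.e a ∈ K := by
      rintro a (rfl | ⟨ha, hva⟩)
      · rw [X.e_zero]; exact K.one_mem
      · obtain ⟨k, hk⟩ := isConj_iff.1 ((D.isConj_iff_axis hv).2 ⟨ha, hva⟩)
        rw [← hk]
        exact hK.conj_mem _ hvK k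
    obtain ⟨a, b, ha, hb, rfl⟩ := class_spans v hv w
    rw [X.e_add]
    exact K.mul_mem (hcls a ha) (hcls b hb)
  refine ⟨T, hTn, hST, ?_, ?_, hfact⟩
  · by_contra hne
    have hSC := hmin _ inferInstance hne
    refine hNn fun t ht => X.loc (1, 0) (by decide) t ?_
    exact Subgroup.mem_centralizer_iff.1 (hSC (X.e_mem (1, 0))) t ht
  haveI : Nontrivial T := (Subgroup.nontrivial_iff_ne_bot T).2 fun h => hNn (h ▸ bot_le)
  refine IsSimpleGroup.mk fun A hA => ?_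
  by_contra hne
  push Not at hne
  obtain ⟨hA1, hAT⟩ := hne
  set B := A.map T.subtype with hB
  have hBT : B ≤ T := Subgroup.map_subtype_le A
  have hBnorm : ∀ t ∈ T, ∀ b ∈ B, t * b * t⁻¹ ∈ B := by
    rintro t ht b ⟨a, ha, rfl⟩
    exact ⟨_, hA.conj_mem a ha ⟨t, ht⟩, rfl⟩
  have hBn : T ≤ Subgroup.normalizer (B : Set G) := fun t ht => Subgroup.mem_normalizer_iff.2 fun b =>
    ⟨hBnorm t ht b, fun h => by
      have := hBnorm t⁻¹ (T.inv_mem ht) _ h
      rwa [show t⁻¹ * (t * b * t⁻¹) * t⁻¹⁻¹ = b by group] at this⟩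
  have hB1 : B ≠ ⊥ := fun h => hA1 (by
    rw [hB, Subgroup.map_eq_bot_iff_of_injective _ Subtype.val_injective] at h
    exact h)
  obtain ⟨v, hv, hvB⟩ := exists_mem_plane P hP hcent hST hBT hBn hB1
  have hsub : ∀ w, X.e w ∈ B → ∃ i : ZMod 3, w = i • v := by
    intro w hw
    by_contra hind
    push Not at hind
    have hSB : X.S ≤ B := by
      intro s hs
      obtain ⟨z, rfl⟩ := (X.mem_iff s).1 hs
      obtain ⟨i, j, rfl⟩ := pair_spans v w hv hind z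
      have hsm : ∀ (i : ZMod 3) {u : Pl}, X.e u ∈ B → X.e (i • u) ∈ B := fun i u hu => by
        obtain rfl | rfl | rfl : i = 0 ∨ i = 1 ∨ i = 2 := by revert i; decide
        · rw [zero_smul, X.e_zero]; exact B.one_mem
        · rwa [one_smul]
        · rw [two_smul, X.e_add]; exact B.mul_mem hu hu
      rw [X.e_add]
      exact B.mul_mem (hsm i hvB) (hsm j hw)
    have hTB : T ≤ B := by
      refine Subgroup.closure_le B |>.2 fun y hy => ?_
      obtain ⟨s, hs, hsy⟩ := Group.mem_conjugatesOfSet_iff.1 hy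
      obtain ⟨g, rfl⟩ := isConj_iff.1 hsy
      obtain ⟨t, ht, n, hn, rfl⟩ := hfact g
      rw [show t * n * s * (t * n)⁻¹ = t * (n * s * n⁻¹) * t⁻¹ by group]
      exact hBnorm t ht _ (hSB ((Subgroup.mem_normalizer_iff.1 hn s).1 hs))
    refine hAT (eq_top_iff.2 fun t _ => ?_)
    obtain ⟨a, ha, hat⟩ := hTB t.2
    rwa [← Subtype.ext (a1 := a) (a2 := t) hat]
  -- the conjugate by the quarter turn
  set C := B.map (MulAut.conj D.R).toMonoidHom with hC
  have hCmem : ∀ y, y ∈ C ↔ D.R⁻¹ * y * D.R ∈ B := by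
    intro y
    rw [hC, Subgroup.mem_map_equiv, MulAut.conj_symm_apply]
  have hCnorm : ∀ t ∈ T, ∀ c ∈ C, t * c * t⁻¹ ∈ C := by
    intro t ht c hc
    rw [hCmem] at hc ⊢
    have := hBnorm _ (hTn.conj_mem t ht D.R⁻¹) _ hc
    rwa [show D.R⁻¹ * t * D.R⁻¹⁻¹ * (D.R⁻¹ * c * D.R) * (D.R⁻¹ * t * D.R⁻¹⁻¹)⁻¹ =
      D.R⁻¹ * (t * c * t⁻¹) * D.R by group] at this
  have hCn : T ≤ Subgroup.normalizer (C : Set G) := fun t ht => Subgroup.mem_normalizer_iff.2 fun b =>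
    ⟨hCnorm t ht b, fun h => by
      have := hCnorm t⁻¹ (T.inv_mem ht) _ h
      rwa [show t⁻¹ * (t * b * t⁻¹) * t⁻¹⁻¹ = b by group] at this⟩
  have hdisj : B ⊓ C = ⊥ := by
    by_contra hne
    have hnorm : T ≤ Subgroup.normalizer ((B ⊓ C : Subgroup G) : Set G) := fun t ht =>
      Subgroup.mem_normalizer_iff.2 fun b =>
        ⟨fun h => ⟨(Subgroup.mem_normalizer_iff.1 (hBn ht) b).1 h.1,
            (Subgroup.mem_normalizer_iff.1 (hCn ht) b).1 h.2⟩,
          fun h => ⟨(Subgroup.mem_normalizer_iff.1 (hBn ht) b).2 h.1,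
            (Subgroup.mem_normalizer_iff.1 (hCn ht) b).2 h.2⟩⟩
    obtain ⟨w, hw, hwB, hwC⟩ := exists_mem_plane P hP hcent hST (inf_le_left.trans hBT) hnorm hne
    obtain ⟨j, hj⟩ := hsub w hwB
    replace hwC := (hCmem _).1 hwC
    obtain ⟨u, hu⟩ := (X.mem_iff _).1 (show D.R⁻¹ * X.e w * D.R ∈ X.S by
      have h3 : D.R⁻¹ * X.e w * D.R = X.e (rot (rot (rot w))) := by
        rw [← D.Rn_act 3 w |>.trans (show X.e (rot^[3] w) = X.e (rot (rot (rot w))) from rfl)]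
        rw [show D.R ^ 3 = D.R⁻¹ from eq_inv_of_mul_eq_one_left (by rw [← pow_succ]; exact D.R_four), inv_inv]
      rw [h3]; exact X.e_mem _)
    obtain ⟨i, hi⟩ := hsub u (hu ▸ hwC)
    have h4 : X.e (rot u) = X.e w := by
      rw [← D.R_act, hu]; group
    have hrw : rot (i • v) = j • v := by rw [← hi, ← hj]; exact X.inj h4
    have hi0 := line_meet v hv i j hrw
    rw [hi0, zero_smul] at hi
    refine hw (X.inj ?_)
    rw [← h4, hi]
    rfl
  have hcomm : ∀ c ∈ C, c * X.e v = X.e v * c := by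
    intro c hc
    have hcT : c ∈ T := by
      rw [hCmem] at hc
      have := hTn.conj_mem _ (hBT hc) D.R
      rwa [show D.R * (D.R⁻¹ * c * D.R) * D.R⁻¹ = c by group] at this
    have h1 : c * X.e v * c⁻¹ * (X.e v)⁻¹ ∈ B ⊓ C := by
      refine ⟨B.mul_mem (hBnorm c hcT _ hvB) (B.inv_mem hvB), ?_⟩
      rw [show c * X.e v * c⁻¹ * (X.e v)⁻¹ = c * (X.e v * c⁻¹ * (X.e v)⁻¹) by group]
      exact C.mul_mem hc (hCnorm _ (hST (X.e_mem v)) _ (C.inv_mem hc))
    rw [hdisj, Subgroup.mem_bot, mul_inv_eq_one, mul_inv_eq_iff_eq_mul] at h1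
    exact h1
  have hCN : ∀ c ∈ C, c ∈ Subgroup.normalizer (X.S : Set G) := fun c hc => X.loc v hv c (hcomm c hc)
  have hrv : X.e (rot v) ∈ C := by
    rw [hCmem, ← D.R_act]
    rw [show D.R⁻¹ * (D.R * X.e v * D.R⁻¹) * D.R = X.e v by group]
    exact hvB
  refine hNn fun t ht => ?_
  have h1 : t * X.e (rot v) * t⁻¹ ∈ C := hCnorm t ht _ hrv
  obtain ⟨w, hw⟩ := (X.mem_iff _).1 (X.three _ (hCN _ h1) (by rw [conj_pow, X.e_cube]; group))
  exact X.fusion ((show ∀ v : Pl, v ≠ 0 → rot v ≠ 0 by decide) v hv) hw.symm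

end Cfsg.Agent.Solv.ThreeLocal
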