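import Cfsg.Agent.Lib.Solv.ThreeLocal.DihSimple
import Cfsg.Agent.Lib.Solv.ThreeLocal.DihIndexTwo
import Cfsg.Agent.Lib.Solv.ThreeLocal.DihMake
import Cfsg.Agent.Lib.Solv.ThreeLocal.SixB
import Cfsg.Agent.Lib.Solv.ThreeLocal.Top
import Cfsg.Agent.Lib.Solv.ThreeLocal.SymSix

/-!
# A self-centralising Sylow subgroup of order nine with dihedral automiser
-/

set_option autoImplicit false

namespace Cfsg.Agent.Solv.ThreeLocal

universe u

/-- The automorphism of the dihedral group moving the reflection. -/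
noncomputable def dihShift : DihedralGroup 4 →* DihedralGroup 4 :=
  Char.dihHom (σ := DihedralGroup.r (1 : ZMod 4)) (τ := DihedralGroup.sr 3) (by decide) (by decide) (by decide)

theorem dihShift_r : dihShift (.r 1) = .r 1 := by
  show (DihedralGroup.r (1 : ZMod 4)) ^ (1 : ZMod 4).val = _
  decide

theorem dihShift_sr : dihShift (.sr 0) = .sr 3 := by
  show DihedralGroup.sr 3 * (DihedralGroup.r (1 : ZMod 4)) ^ (0 : ZMod 4).val = _
  decide

theorem dihShift_inj : Function.Injective dihShift := by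
  rw [injective_iff_map_eq_one]
  rintro (i | i) h
  · change (DihedralGroup.r (1 : ZMod 4)) ^ i.val = 1 at h
    revert h i; decide
  · change DihedralGroup.sr 3 * (DihedralGroup.r (1 : ZMod 4)) ^ i.val = 1 at h
    revert h i; decide

variable {G : Type u} [Group G] [Finite G]

/-- The case where the first reflection lies in the socle. -/
theorem false_of_reflection (X : Ctx G) (D : Dih X) (hnn : ¬ X.S.Normal) {T : Subgroup G} [T.Normal]
    [IsSimpleGroup T] (hST : X.S ≤ T)
    (hfact : ∀ g : G, ∃ t ∈ T, ∃ n ∈ Subgroup.normalizer (X.S : Set G), g = t * n) (hr : D.r ∈ T) :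
    False := by
  classical
  haveI := Fintype.ofFinite G
  have hna : ¬ IsMulCommutative T := fun hc => by
    have h := congrArg Subtype.val (hc.is_comm.comm ⟨D.r, hr⟩ ⟨X.e (0, 1), hST (X.e_mem _)⟩)
    have h1 := D.r_act (0, 1)
    simp only [Subgroup.coe_mul] at h
    rw [h, mul_inv_cancel_right] at h1
    exact absurd (X.inj h1) (by decide)
  have hTc : T ≤ commutator G := by
    have hperf : commutator T = ⊤ := by
      refine (IsSimpleGroup.eq_bot_or_eq_top_of_normal _ inferInstance).resolve_left fun h => hna ?_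
      refine ⟨⟨fun a b => ?_⟩⟩
      have hm := Subgroup.commutator_mem_commutator (Subgroup.mem_top a) (Subgroup.mem_top b)
      rw [← commutator_def, h, Subgroup.mem_bot] at hm
      exact commutatorElement_eq_one_iff_mul_comm.mp hm
    intro t ht
    have h1 : (⟨t, ht⟩ : T) ∈ commutator T := hperf ▸ Subgroup.mem_top _
    have h2 := Subgroup.mem_map_of_mem T.subtype h1
    rw [commutator_def, Subgroup.map_commutator] at h2
    exact Subgroup.commutator_mono le_top le_top h2
  have hR2 : D.R * D.R ∈ T := by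
    have h1 : D.R * D.r * D.R⁻¹ * D.r ∈ T := T.mul_mem (‹T.Normal›.conj_mem _ hr D.R) hr
    have e : D.r * D.R⁻¹ * D.r = D.R := by
      have := congrArg (·⁻¹) D.rel
      simpa [mul_assoc, D.r_inv] using this
    rwa [show D.R * D.r * D.R⁻¹ * D.r = D.R * (D.r * D.R⁻¹ * D.r) by group, e] at h1
  by_cases hR : D.R ∈ T
  · have htop : T = ⊤ := by
      rw [eq_top_iff]
      intro g _
      obtain ⟨t, ht, n, hn, rfl⟩ := hfact g
      obtain ⟨v, k, -, rfl | rfl⟩ := D.cover n hn
      · exact T.mul_mem ht (T.mul_mem (hST (X.e_mem v)) (T.pow_mem hR k))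
      · exact T.mul_mem ht (T.mul_mem (T.mul_mem (hST (X.e_mem v)) (T.pow_mem hR k)) hr)
    subst htop
    haveI : IsSimpleGroup G := (Subgroup.topEquiv (G := G)).symm.isSimpleGroup
    refine not_simple_of_dih (X := X) (fun hc => hna ?_) D
    exact ⟨⟨fun a b => Subtype.ext (hc.is_comm.comm _ _)⟩⟩
  have h2 : T.index = 2 := by
    refine Subgroup.index_eq_two_iff.2 ⟨D.R, fun b => ?_⟩
    obtain ⟨t, ht, n, hn, rfl⟩ := hfact b
    have hRk : ∀ k : ℕ, D.R ^ k ∈ T ↔ k % 2 = 0 := by
      intro k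
      rw [← Nat.mod_add_div k 2, pow_add, pow_mul, Subgroup.mul_mem_cancel_right _ (T.pow_mem (by rwa [pow_two]) _),
        Nat.mod_add_div]
      rcases Nat.mod_two_eq_zero_or_one k with e | e <;> rw [e]
      · simp
      · simp [hR]
    have hmem : ∀ (v : Pl) (k : ℕ) (n : G), n = X.e v * D.R ^ k ∨ n = X.e v * D.R ^ k * D.r →
        (t * n ∈ T ↔ k % 2 = 0) := by
      intro v k n h
      rw [Subgroup.mul_mem_cancel_left _ ht, ← hRk]
      rcases h with rfl | rfl
      · rw [Subgroup.mul_mem_cancel_left _ (hST (X.e_mem v))]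
      · rw [Subgroup.mul_mem_cancel_right _ hr, Subgroup.mul_mem_cancel_left _ (hST (X.e_mem v))]
    obtain ⟨v, k, -, hvk⟩ := D.cover n hn
    have hb := hmem v k n hvk
    rcases Nat.mod_two_eq_zero_or_one k with e | e
    · refine Or.inr ⟨hb.2 e, fun h => hR ?_⟩
      exact (Subgroup.mul_mem_cancel_left _ (hb.2 e)).1 h
    · refine Or.inl ⟨?_, fun h => by have := hb.1 h; omega⟩
      rcases hvk with rfl | rfl
      · rw [show t * (X.e v * D.R ^ k) * D.R = t * (X.e v * D.R ^ (k + 1)) by rw [pow_succ]; group]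
        rw [Subgroup.mul_mem_cancel_left _ ht, Subgroup.mul_mem_cancel_left _ (hST (X.e_mem v)), hRk]
        omega
      · have hrR : D.r * D.R = D.R⁻¹ * D.r := by rw [← D.rel, mul_assoc (D.r * D.R), D.r_sq, mul_one]
        rw [show t * (X.e v * D.R ^ k * D.r) * D.R = t * (X.e v * (D.R ^ k * (D.r * D.R))) by group, hrR,
          ← mul_assoc (D.R ^ k), Subgroup.mul_mem_cancel_left _ ht,
          Subgroup.mul_mem_cancel_left _ (hST (X.e_mem v)), Subgroup.mul_mem_cancel_right _ hr]
        have hk : D.R ^ k * D.R⁻¹ = D.R ^ (k - 1) := by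
          rw [mul_inv_eq_iff_eq_mul, ← pow_succ, Nat.sub_add_cancel (by omega)]
        rw [hk, hRk]
        omega
  have hle := card_le_of_index_two D T h2 hTc hST hr hR
  obtain ⟨k, hk⟩ := X.exists_card_eq
  rw [D.card_normalizer] at hk
  have hk1 : k ≤ 1 := by omega
  obtain rfl | rfl : k = 0 ∨ k = 1 := by omega
  · refine hnn ?_
    rw [← Subgroup.normalizer_eq_top_iff]
    exact Subgroup.eq_top_of_card_eq _ (by rw [D.card_normalizer, hk])
  · have hT : Nat.card T = 360 := by
      have := T.card_mul_index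
      rw [h2, hk] at this
      omega
    refine no_commuting_360 hT (a := ⟨D.r, hr⟩) (b := ⟨X.e (1, 0), hST (X.e_mem _)⟩)
      (Subtype.ext (by rw [Subgroup.coe_pow, pow_two]; exact D.r_sq)) (fun h => ?_)
      (Subtype.ext (by rw [Subgroup.coe_pow]; exact X.e_cube _))
      (fun h => absurd (X.e_eq_one_iff.1 (congrArg Subtype.val h)) (by decide))
      (Subtype.ext ?_)
    · have h1 := D.r_act (0, 1)
      rw [show D.r = 1 from congrArg Subtype.val h] at h1
      simp only [one_mul, inv_one, mul_one] at h1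
      exact absurd (X.inj h1) (by decide)
    · have h1 := D.r_act (1, 0)
      rw [show flip ((1, 0) : Pl) = (1, 0) by decide, mul_inv_eq_iff_eq_mul] at h1
      exact h1

theorem main (X : Ctx G) (P : Sylow 3 G) (hP : (P : Subgroup G) = X.S)
    (hcent : Subgroup.centralizer (X.S : Set G) = X.S) (φ : DihedralGroup 4 →* G) (hφ : Function.Injective φ)
    (hφN : ∀ x, φ x ∈ Subgroup.normalizer (X.S : Set G))
    (h72 : Nat.card (Subgroup.normalizer (X.S : Set G)) = 72) (hnn : ¬ X.S.Normal) :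
    Nonempty (G ≃* Equiv.Perm (Fin 6)) := by
  classical
  haveI := Fintype.ofFinite G
  obtain ⟨Y, hY, D, hDr, hDR⟩ := exists_dih X hcent φ hφ hφN h72
  obtain ⟨T, hTn, hST, hCT, hTs, hfact⟩ := exists_socle D P (by rw [hY, hP]) (by rw [hY]; exact hcent)
    (by rw [hY]; exact hnn)
  by_cases hr : D.r ∈ T
  · exact (false_of_reflection Y D (by rw [hY]; exact hnn) hST hfact hr).elim
  by_cases hr2 : D.r2 ∈ T
  · obtain ⟨Z, hZ, E, hEr, -⟩ := exists_dih X hcent (φ.comp dihShift) (hφ.comp dihShift_inj)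
      (fun x => hφN _) h72
    refine (false_of_reflection (T := T) Z E (by rw [hZ]; exact hnn) (by rw [hZ, ← hY]; exact hST)
      (by rw [hZ, ← hY]; exact hfact) ?_).elim
    rw [hEr]
    show φ (dihShift (.sr 0)) ∈ T
    rw [dihShift_sr, show (DihedralGroup.sr 3 : DihedralGroup 4) = .r 1 * .sr 0 by decide, map_mul, ← hDr,
      ← hDR]
    exact hr2
  -- the elements of order three of `T` are self-centralising
  have hsemi : ∀ v, v ≠ 0 → ∀ g ∈ T, g * Y.e v = Y.e v * g → g ∈ Y.S := by
    intro v hv g hg hgv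
    obtain ⟨w, k, hk, hc⟩ := D.cover g (Y.loc v hv g hgv)
    have h1 : g * Y.e v * g⁻¹ = Y.e v := by rw [hgv, mul_inv_cancel_right]
    rcases hc with hc | hc
    · have hk0 : k = 0 := (show ∀ k < 4, ∀ v : Pl, v ≠ 0 → rot^[k] v = v → k = 0 by decide +kernel) k hk v hv
        (Y.inj ((D.act_of_cover hc v).symm.trans h1))
      rw [hc, hk0, pow_zero, mul_one]
      exact Y.e_mem w
    · exfalso
      have hm : D.R ^ k * D.r ∈ T := by
        rw [hc, mul_assoc] at hg
        exact (Subgroup.mul_mem_cancel_left _ (hST (Y.e_mem w))).1 hg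
      have hconjR : ∀ m : G, D.R * m ∈ T → m * D.R ∈ T := fun m h => by
        have := hTn.conj_mem _ h D.R⁻¹
        rwa [inv_inv, ← mul_assoc, inv_mul_cancel, one_mul] at this
      have hrR : D.r * D.R = D.R⁻¹ * D.r := by rw [← D.rel, mul_assoc (D.r * D.R), D.r_sq, mul_one]
      interval_cases k
      · rw [pow_zero, one_mul] at hm; exact hr hm
      · rw [pow_one] at hm; exact hr2 hm
      · have h' := hconjR (D.R * D.r) (by rwa [← mul_assoc, ← pow_two])
        rw [mul_assoc, hrR, ← mul_assoc, mul_inv_cancel, one_mul] at h'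
        exact hr h'
      · have h' := hconjR (D.R ^ 2 * D.r) (by rwa [← mul_assoc, ← pow_succ'])
        rw [mul_assoc, hrR, ← mul_assoc, pow_two, mul_assoc D.R D.R, mul_inv_cancel, mul_one] at h'
        exact hr2 h'
  -- the plane inside `T`
  let XT : Ctx T :=
    { e := fun v => ⟨Y.e v, hST (Y.e_mem v)⟩
      e_add := fun v w => Subtype.ext (Y.e_add v w)
      inj := fun v w h => Y.inj (congrArg Subtype.val h)
      S := Y.S.subgroupOf T
      mem_iff := fun g => by
        rw [Subgroup.mem_subgroupOf, Y.mem_iff]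
        exact ⟨fun ⟨v, hv⟩ => ⟨v, Subtype.ext hv⟩, fun ⟨v, hv⟩ => ⟨v, congrArg Subtype.val hv⟩⟩
      loc := fun v hv g hg => Subgroup.le_normalizer
        (Subgroup.mem_subgroupOf.2 (hsemi v hv g g.2 (congrArg Subtype.val hg)))
      three := fun g hg hg3 => by
        rw [Subgroup.mem_subgroupOf]
        have hm := (Subgroup.mem_normalizer_iff.1 hg ⟨Y.e (1, 0), hST (Y.e_mem _)⟩).1
          (Subgroup.mem_subgroupOf.2 (Y.e_mem _))
        obtain ⟨w, hw⟩ := (Y.mem_iff _).1 (Subgroup.mem_subgroupOf.1 hm)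
        exact Y.three g (Y.fusion (v := (1, 0)) (by decide) hw.symm) (congrArg Subtype.val hg3) }
  have hPT : (P : Subgroup G) ≤ T := by rw [hP, ← hY]; exact hST
  haveI := Fintype.ofFinite T
  have hPX : ((P.subtype hPT : Sylow 3 T) : Subgroup T) = XT.S := by
    rw [Sylow.coe_subtype, hP, ← hY]
  have hT360 : Nat.card T = 360 := by
    refine card_eq_360 XT (P.subtype hPT) hPX
      (fun v hv => le_antisymm (fun g hg => ?_) (fun g hg => ?_)) ⟨(1, 0), (1, 1), by decide, by decide, ?_⟩
    · rw [Subgroup.mem_centralizer_singleton_iff] at hg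
      exact Subgroup.mem_subgroupOf.2 (hsemi v hv g g.2 (congrArg Subtype.val hg))
    · rw [Subgroup.mem_centralizer_singleton_iff]
      obtain ⟨w, rfl⟩ := (XT.mem_iff g).1 hg
      exact XT.e_comm w v
    · intro h
      obtain ⟨c, hc⟩ := isConj_iff.1 h
      exact absurd ((D.isConj_iff_axis (v := (1, 0)) (w := (1, 1)) (by decide)).1
        (isConj_iff.2 ⟨(c : G), congrArg Subtype.val hc⟩)).2 (by decide)
  have h36 : Nat.card (Subgroup.normalizer (XT.S : Set T)) = 36 := by
    rw [← hPX]; exact Small.Order360.card_N3 hT360 _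
  have hNT : Nat.card ((T ⊓ Subgroup.normalizer (Y.S : Set G) : Subgroup G)) = 36 := by
    rw [← h36]
    refine Nat.card_congr
      { toFun := fun g => ⟨⟨g.1, g.2.1⟩, ?_⟩
        invFun := fun g => ⟨g.1.1, g.1.2, ?_⟩
        left_inv := fun g => rfl
        right_inv := fun g => rfl }
    · rw [Subgroup.mem_normalizer_iff]
      intro s
      exact Subgroup.mem_normalizer_iff.1 g.2.2 (s : G)
    · have hm := (Subgroup.mem_normalizer_iff.1 g.2 ⟨Y.e (1, 0), hST (Y.e_mem _)⟩).1
        (Subgroup.mem_subgroupOf.2 (Y.e_mem _))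
      obtain ⟨w, hw⟩ := (Y.mem_iff _).1 (Subgroup.mem_subgroupOf.1 hm)
      exact Y.fusion (v := (1, 0)) (by decide) hw.symm
  have hsup : T ⊔ Subgroup.normalizer (Y.S : Set G) = ⊤ := eq_top_iff.2 fun g _ => by
    obtain ⟨t, ht, n, hn, rfl⟩ := hfact g
    exact Subgroup.mul_mem _ (Subgroup.mem_sup_left ht) (Subgroup.mem_sup_right hn)
  have hG : Nat.card G = 720 := by
    have h := Cfsg.Agent.Solv.card_sup_mul_card_inf' T (Subgroup.normalizer (Y.S : Set G))
      (fun g _ => Subgroup.mem_normalizer_iff.2 fun x => ⟨fun hx => hTn.conj_mem x hx g, fun hx => by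
        have := hTn.conj_mem _ hx g⁻¹
        rwa [show g⁻¹ * (g * x * g⁻¹) * g⁻¹⁻¹ = x by group] at this⟩)
    rw [hsup, Subgroup.card_top, hNT, hT360, D.card_normalizer] at h
    omega
  have hne : Y.e (1, 0) ≠ 1 := fun h => absurd (Y.e_eq_one_iff.1 h) (by decide)
  have h1 := D.r_act (1, 0)
  rw [show flip ((1, 0) : Pl) = (1, 0) by decide, mul_inv_eq_iff_eq_mul] at h1
  haveI : Fact (Nat.Prime 3) := ⟨Nat.prime_three⟩
  exact iso_sym_six hT360 hG hCT D.r_sq hr (a := Y.e (1, 0)) (hST (Y.e_mem _))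
    (orderOf_eq_prime (Y.e_cube _) hne) h1

end Cfsg.Agent.Solv.ThreeLocal
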