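import Cfsg.Agent.Lib.Solv.ThreeLocal.DihRows
import Cfsg.Agent.Lib.Solv.ThreeLocal.SixA
import Cfsg.Agent.Lib.Small.OrderSieve

/-!
# No simple group has a dihedral automiser of order eight on a self-centralising plane
-/

set_option autoImplicit false
set_option linter.unusedSimpArgs false

namespace Cfsg.Agent.Solv.ThreeLocal

open Cfsg Cfsg.Agent.Char

universe u

theorem v1Of_smul (σ a b c d : ℤ) : v1Of (σ * a, σ * b, σ * c, σ * d) = σ * v1Of (a, b, c, d) := by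
  simp only [v1Of]; ring

theorem v2Of_smul (σ a b c d : ℤ) : v2Of (σ * a, σ * b, σ * c, σ * d) = σ * v2Of (a, b, c, d) := by
  simp only [v2Of]; ring

variable {G : Type u} [Group G] [Finite G] [Fintype G] {X : Ctx G}

/-- The term of a row in a coefficient, through the canonical vector and the signed degree. -/
theorem row_terms {D : Dih X} (Q : DihData D) (i : IrrCharacter G) {t : Vec} (h : canOf (Q.c i) = t) :
    ((v2Of (Q.c i) * v1Of (Q.c i) * v1Of (Q.c i) : ℤ) : ℚ) / ((deg (i : G → ℂ) : ℤ) : ℚ) =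
        ((v2Of t * v1Of t * v1Of t : ℤ) : ℚ) * (1 / ((sgnOf (Q.c i) * (deg (i : G → ℂ) : ℤ) : ℤ) : ℚ)) ∧
      ((v1Of (Q.c i) * v2Of (Q.c i) * v2Of (Q.c i) : ℤ) : ℚ) / ((deg (i : G → ℂ) : ℤ) : ℚ) =
        ((v1Of t * v2Of t * v2Of t : ℤ) : ℚ) * (1 / ((sgnOf (Q.c i) * (deg (i : G → ℂ) : ℤ) : ℤ) : ℚ)) ∧
      (deg (i : G → ℂ) : ℤ) * (Q.c i).1 = sgnOf (Q.c i) * (deg (i : G → ℂ) : ℤ) * t.1 ∧
      (deg (i : G → ℂ) : ℤ) * (Q.c i).2.1 = sgnOf (Q.c i) * (deg (i : G → ℂ) : ℤ) * t.2.1 ∧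
      (deg (i : G → ℂ) : ℤ) * (Q.c i).2.2.1 = sgnOf (Q.c i) * (deg (i : G → ℂ) : ℤ) * t.2.2.1 ∧
      (deg (i : G → ℂ) : ℤ) * (Q.c i).2.2.2 = sgnOf (Q.c i) * (deg (i : G → ℂ) : ℤ) * t.2.2.2 := by
  have hv := vec_eq h
  have hσ := sgnOf_cases (Q.c i)
  generalize sgnOf (Q.c i) = σ at hv hσ
  rw [hv]
  refine ⟨?_, ?_, by ring, by ring, by ring, by ring⟩ <;>
  · rw [v1Of_smul, v2Of_smul, term_div _ _ _ _ _ hσ, div_eq_mul_one_div]

theorem row_ok {D : Dih X} (Q : DihData D) (h1 : D.r ∈ commutator G) (h2 : D.r2 ∈ commutator G)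
    (i : IrrCharacter G) (hd : 2 ≤ (deg (i : G → ℂ) : ℤ)) {t : Vec} (h : canOf (Q.c i) = t) :
    RowOK t.1 t.2.1 t.2.2.1 t.2.2.2 (sgnOf (Q.c i) * (deg (i : G → ℂ) : ℤ)) := by
  obtain ⟨ap, am, bp, bm, k0, k1, ka, kp⟩ := Q.ok1 i
  obtain ⟨ap', am', bp', bm', k0', k1', ka', kp'⟩ := Q.ok2 i
  have hres := Q.res i
  have hv := vec_eq h
  have hσ := sgnOf_cases (Q.c i)
  generalize sgnOf (Q.c i) = σ at hv hσ ⊢
  rw [hv] at hres k0 k1 k0' k1'
  exact ⟨σ, (deg (i : G → ℂ) : ℤ), Q.a i, hσ, rfl, hd, by rw [hres]; ring,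
    ⟨ap, am, bp, bm, k0, k1, ka, kp h1⟩, ⟨ap', am', bp', bm', k0', k1', ka', kp' h2⟩⟩

set_option maxHeartbeats 2000000 in
/-- The order bound. -/
theorem card_le_of_dih (hperf : commutator G = ⊤) (D : Dih X) : Nat.card G ≤ 6400 := by
  classical
  obtain ⟨Q⟩ := D.data
  have h1 : D.r ∈ commutator G := hperf ▸ Subgroup.mem_top _
  have h2 : D.r2 ∈ commutator G := hperf ▸ Subgroup.mem_top _
  have hone : Q.c (one : IrrCharacter G) = (1, 0, 1, 0) := by
    have k1 := Q.val1 (one : IrrCharacter G)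
    have k2 := Q.val2 (one : IrrCharacter G)
    have k3 := Q.valh1 (one : IrrCharacter G)
    have k4 := Q.valh2 (one : IrrCharacter G)
    rw [one_apply] at k1 k2 k3 k4
    have n1 : v1Of (Q.c (one : IrrCharacter G)) = 1 := by exact_mod_cast k1.symm
    have n2 : v2Of (Q.c (one : IrrCharacter G)) = 1 := by exact_mod_cast k2.symm
    have n3 : (Q.c (one : IrrCharacter G)).1 - (Q.c (one : IrrCharacter G)).2.1 = 1 := by
      exact_mod_cast k3.symm
    have n4 : (Q.c (one : IrrCharacter G)).2.2.1 - (Q.c (one : IrrCharacter G)).2.2.2 = 1 := by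
      exact_mod_cast k4.symm
    generalize Q.c (one : IrrCharacter G) = v at n1 n2 n3 n4
    obtain ⟨x, y, z, w⟩ := v
    simp only [v1Of, v2Of] at n1 n2 n3 n4
    simp only [Prod.mk.injEq]
    omega
  set s := (Finset.univ : Finset (IrrCharacter G)).erase one with hs
  have hgram : ∑ χ ∈ s, outer (Q.c χ) = gramDih := by
    have h := Finset.add_sum_erase (Finset.univ : Finset (IrrCharacter G)) (fun χ => outer (Q.c χ))
      (Finset.mem_univ one)
    rw [← hs, Q.gram] at h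
    simp only [hone] at h
    rw [← eq_sub_iff_add_eq'] at h
    rw [h]
    rfl
  obtain ⟨hmem, hsum⟩ := rows s Q.c gramDih hgram (by simp [gramDih, Tight])
  obtain ⟨l, hl, hM⟩ := classify_dih hmem hsum
  obtain ⟨li, hmap, hli, hF⟩ := named_rows s Q.c l hM
  have hsplit : ∀ {M : Type} [AddCommMonoid M] (F : IrrCharacter G → M), (∀ χ, Q.c χ = 0 → F χ = 0) →
      ∑ χ, F χ = F one + (li.map F).sum := by
    intro M _ F h
    rw [← Finset.add_sum_erase _ F (Finset.mem_univ one), ← hs, hF F fun i _ => h i]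
  have E1 := Q.coef112
  have E2 := Q.coef221
  rw [hsplit _ fun χ h => by simp [h, v1Of, v2Of], hone, deg_one] at E1 E2
  have d0 := Q.deg0; have d1 := Q.deg1; have d2 := Q.deg2; have d3 := Q.deg3
  rw [hsplit _ fun χ h => by simp [h], hone, deg_one] at d0 d1 d2 d3
  have hd : ∀ i ∈ li, 2 ≤ (deg (i : G → ℂ) : ℤ) := fun i hi => by
    exact_mod_cast two_le_deg hperf (Finset.ne_of_mem_erase (hli i hi).1)
  have key : ∀ i ∈ li, ∀ {t : Vec}, canOf (Q.c i) = t → _ := fun i hi {t} ht =>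
    And.intro (row_ok Q h1 h2 i (hd i hi) ht) (row_terms Q i ht)
  have hn : (0 : ℚ) ≤ (Nat.card G : ℚ) := Nat.cast_nonneg _
  suffices hgoal : (Nat.card G : ℚ) ≤ 6400 by exact_mod_cast hgoal
  have hn0 : (Nat.card G : ℚ) ≠ 0 := Nat.cast_ne_zero.2 Nat.card_pos.ne'
  simp only [confDih, List.mem_cons, List.not_mem_nil, or_false] at hl
  rcases hl with rfl | rfl | rfl | rfl | rfl | rfl
  · simp only [List.map_eq_cons_iff, List.map_eq_nil_iff] at hmap
    obtain ⟨i1, _, rfl, t1, i2, _, rfl, t2, i3, _, rfl, t3, i4, _, rfl, t4, i5, _, rfl, t5, i6, _, rfl, t6,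
      i7, _, rfl, t7, rfl⟩ := hmap
    obtain ⟨r1, a1, b1, -⟩ := key i1 (by simp) t1
    obtain ⟨-, a2, b2, -⟩ := key i2 (by simp) t2
    obtain ⟨r3, a3, b3, -⟩ := key i3 (by simp) t3
    obtain ⟨-, a4, b4, -⟩ := key i4 (by simp) t4
    obtain ⟨-, a5, b5, -⟩ := key i5 (by simp) t5
    obtain ⟨-, a6, b6, -⟩ := key i6 (by simp) t6
    obtain ⟨-, a7, b7, -⟩ := key i7 (by simp) t7
    simp only [List.map_cons, List.map_nil, List.sum_cons, List.sum_nil, a1, a2, a3, a4, a5, a6, a7] at E1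
    simp only [List.map_cons, List.map_nil, List.sum_cons, List.sum_nil, b1, b2, b3, b4, b5, b6, b7] at E2
    simp [v1Of, v2Of, -Nat.card_eq_fintype_card, -Fintype.card_eq_nat_card] at E1 E2
    have k1 := (inv_bounds (by norm_num : (0 : ℤ) < 11) (by norm_num : (0 : ℤ) < 16) (dom_full r1)).1
    have k3 := (inv_bounds (by norm_num : (0 : ℤ) < 10) (by norm_num : (0 : ℤ) < 17)
      (dom_pair r3 (by norm_num))).1
    push_cast at k1 k3
    simp only [one_div] at k1 k3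
    set x := ((sgnOf (Q.c i1) : ℚ) * (deg (i1 : G → ℂ) : ℚ))⁻¹ with hx
    set y := ((sgnOf (Q.c i3) : ℚ) * (deg (i3 : G → ℂ) : ℚ))⁻¹ with hy
    refine bound_small (x0 := 8 * x + y) (x1 := 8 * x) (x2 := 0) (x3 := 0) (x4 := y) hn ?_ (by ring)
      (by linarith) (by norm_num) (by norm_num) (by linarith) (Or.inr (by norm_num))
    linear_combination (1 / 3 : ℚ) * E1 + (2 / 3 : ℚ) * E2
  · simp only [List.map_eq_cons_iff, List.map_eq_nil_iff] at hmap
    obtain ⟨i1, _, rfl, t1, i2, _, rfl, t2, i3, _, rfl, t3, i4, _, rfl, t4, i5, _, rfl, t5, i6, _, rfl, t6,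
      i7, _, rfl, t7, rfl⟩ := hmap
    obtain ⟨r1, a1, b1, -⟩ := key i1 (by simp) t1
    obtain ⟨-, a2, b2, -⟩ := key i2 (by simp) t2
    obtain ⟨-, a3, b3, -⟩ := key i3 (by simp) t3
    obtain ⟨r4, a4, b4, -⟩ := key i4 (by simp) t4
    obtain ⟨-, a5, b5, -⟩ := key i5 (by simp) t5
    obtain ⟨-, a6, b6, -⟩ := key i6 (by simp) t6
    obtain ⟨-, a7, b7, -⟩ := key i7 (by simp) t7
    simp only [List.map_cons, List.map_nil, List.sum_cons, List.sum_nil, a1, a2, a3, a4, a5, a6, a7] at E1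
    simp only [List.map_cons, List.map_nil, List.sum_cons, List.sum_nil, b1, b2, b3, b4, b5, b6, b7] at E2
    simp [v1Of, v2Of, -Nat.card_eq_fintype_card, -Fintype.card_eq_nat_card] at E1 E2
    have k1 := (inv_bounds (by norm_num : (0 : ℤ) < 11) (by norm_num : (0 : ℤ) < 16) (dom_full r1)).1
    have k4 := (inv_bounds (by norm_num : (0 : ℤ) < 10) (by norm_num : (0 : ℤ) < 17)
      (dom_pair r4 (by norm_num))).1
    push_cast at k1 k4
    simp only [one_div] at k1 k4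
    set x := ((sgnOf (Q.c i1) : ℚ) * (deg (i1 : G → ℂ) : ℚ))⁻¹ with hx
    set y := ((sgnOf (Q.c i4) : ℚ) * (deg (i4 : G → ℂ) : ℚ))⁻¹ with hy
    refine bound_small (x0 := 8 * x + y) (x1 := 8 * x) (x2 := 0) (x3 := 0) (x4 := y) hn ?_ (by ring)
      (by linarith) (by norm_num) (by norm_num) (by linarith) (Or.inr (by norm_num))
    linear_combination (2 / 3 : ℚ) * E1 + (1 / 3 : ℚ) * E2
  iterate 3
    · simp only [List.map_eq_cons_iff, List.map_eq_nil_iff] at hmap
      obtain ⟨i1, _, rfl, t1, i2, _, rfl, t2, i3, _, rfl, t3, i4, _, rfl, t4, i5, _, rfl, t5, i6, _, rfl, t6,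
        i7, _, rfl, t7, rfl⟩ := hmap
      obtain ⟨-, a1, b1, -⟩ := key i1 (by simp) t1
      obtain ⟨-, a2, b2, -⟩ := key i2 (by simp) t2
      obtain ⟨r3, a3, b3, -⟩ := key i3 (by simp) t3
      obtain ⟨r4, a4, b4, -⟩ := key i4 (by simp) t4
      obtain ⟨r5, a5, b5, -⟩ := key i5 (by simp) t5
      obtain ⟨r6, a6, b6, -⟩ := key i6 (by simp) t6
      obtain ⟨r7, a7, b7, -⟩ := key i7 (by simp) t7
      simp only [List.map_cons, List.map_nil, List.sum_cons, List.sum_nil, a1, a2, a3, a4, a5, a6, a7] at E1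
      simp only [List.map_cons, List.map_nil, List.sum_cons, List.sum_nil, b1, b2, b3, b4, b5, b6, b7] at E2
      simp [v1Of, v2Of, -Nat.card_eq_fintype_card, -Fintype.card_eq_nat_card] at E1 E2
      have k3 := (inv_bounds (by norm_num : (0 : ℤ) < 10) (by norm_num : (0 : ℤ) < 17)
        (dom_pair r3 (by norm_num))).1
      have k4 := (inv_bounds (by norm_num : (0 : ℤ) < 10) (by norm_num : (0 : ℤ) < 17)
        (dom_pair r4 (by norm_num))).1
      have k5 := (inv_bounds (by norm_num : (0 : ℤ) < 10) (by norm_num : (0 : ℤ) < 17)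
        (dom_pair r5 (by norm_num))).1
      have k6 := (inv_bounds (by norm_num : (0 : ℤ) < 5) (by norm_num : (0 : ℤ) < 13)
        (dom_unit r6 (by norm_num))).2
      have k7 := (inv_bounds (by norm_num : (0 : ℤ) < 5) (by norm_num : (0 : ℤ) < 13)
        (dom_unit r7 (by norm_num))).2
      push_cast at k3 k4 k5 k6 k7
      simp only [one_div] at k3 k4 k5 k6 k7
      set x3 := ((sgnOf (Q.c i3) : ℚ) * (deg (i3 : G → ℂ) : ℚ))⁻¹ with hx3
      set x4 := ((sgnOf (Q.c i4) : ℚ) * (deg (i4 : G → ℂ) : ℚ))⁻¹ with hx4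
      set x5 := ((sgnOf (Q.c i5) : ℚ) * (deg (i5 : G → ℂ) : ℚ))⁻¹ with hx5
      set x6 := ((sgnOf (Q.c i6) : ℚ) * (deg (i6 : G → ℂ) : ℚ))⁻¹ with hx6
      set x7 := ((sgnOf (Q.c i7) : ℚ) * (deg (i7 : G → ℂ) : ℚ))⁻¹ with hx7
      refine bound_small (x0 := -x6 + -x7 + (x3 + x4 + x5)) (x1 := 0) (x2 := -x6) (x3 := -x7)
        (x4 := x3 + x4 + x5) hn ?_ (by ring) (by norm_num) (by linarith) (by linarith) (by linarith)
        (Or.inl rfl)
      linear_combination (1 / 2 : ℚ) * E1 + (1 / 2 : ℚ) * E2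
  · simp only [List.map_eq_cons_iff, List.map_eq_nil_iff] at hmap
    obtain ⟨i1, _, rfl, t1, i2, _, rfl, t2, i3, _, rfl, t3, i4, _, rfl, t4, i5, _, rfl, t5, i6, _, rfl, t6,
      i7, _, rfl, t7, i8, _, rfl, t8, rfl⟩ := hmap
    obtain ⟨r1, a1, b1, p1, q1, u1, w1⟩ := key i1 (by simp) t1
    obtain ⟨r2, a2, b2, p2, q2, u2, w2⟩ := key i2 (by simp) t2
    obtain ⟨r3, a3, b3, p3, q3, u3, w3⟩ := key i3 (by simp) t3
    obtain ⟨r4, a4, b4, p4, q4, u4, w4⟩ := key i4 (by simp) t4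
    obtain ⟨r5, a5, b5, p5, q5, u5, w5⟩ := key i5 (by simp) t5
    obtain ⟨r6, a6, b6, p6, q6, u6, w6⟩ := key i6 (by simp) t6
    obtain ⟨r7, a7, b7, p7, q7, u7, w7⟩ := key i7 (by simp) t7
    obtain ⟨r8, a8, b8, p8, q8, u8, w8⟩ := key i8 (by simp) t8
    simp only [List.map_cons, List.map_nil, List.sum_cons, List.sum_nil, a1, a2, a3, a4, a5, a6, a7, a8] at E1
    simp only [List.map_cons, List.map_nil, List.sum_cons, List.sum_nil, b1, b2, b3, b4, b5, b6, b7, b8] at E2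
    simp only [List.map_cons, List.map_nil, List.sum_cons, List.sum_nil, p1, p2, p3, p4, p5, p6, p7, p8,
      mul_one, mul_zero, add_zero, zero_add] at d0
    simp only [List.map_cons, List.map_nil, List.sum_cons, List.sum_nil, q1, q2, q3, q4, q5, q6, q7, q8,
      mul_one, mul_zero, add_zero, zero_add] at d1
    simp only [List.map_cons, List.map_nil, List.sum_cons, List.sum_nil, u1, u2, u3, u4, u5, u6, u7, u8,
      mul_one, mul_zero, add_zero, zero_add] at d2
    simp only [List.map_cons, List.map_nil, List.sum_cons, List.sum_nil, w1, w2, w3, w4, w5, w6, w7, w8,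
      mul_one, mul_zero, add_zero, zero_add] at d3
    generalize sgnOf (Q.c i1) * (deg (i1 : G → ℂ) : ℤ) = F at *
    generalize sgnOf (Q.c i2) * (deg (i2 : G → ℂ) : ℤ) = C at *
    generalize sgnOf (Q.c i3) * (deg (i3 : G → ℂ) : ℤ) = C' at *
    generalize sgnOf (Q.c i4) * (deg (i4 : G → ℂ) : ℤ) = E at *
    generalize sgnOf (Q.c i5) * (deg (i5 : G → ℂ) : ℤ) = A at *
    generalize sgnOf (Q.c i6) * (deg (i6 : G → ℂ) : ℤ) = A' at *
    generalize sgnOf (Q.c i7) * (deg (i7 : G → ℂ) : ℤ) = B at *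
    generalize sgnOf (Q.c i8) * (deg (i8 : G → ℂ) : ℤ) = B' at *
    simp [v1Of, v2Of, -Nat.card_eq_fintype_card, -Fintype.card_eq_nat_card] at E1 E2
    refine bound_six (F := F) (C := C) (C' := C') (E := E) (A := A) (A' := A') (B := B) (B' := B') hn
      r1 r2 r3 r4 r5 r6 r7 r8 (by linarith) (by linarith) (by linarith) (by linarith) ?_ ?_
    · simp only [one_div]
      refine mul_left_cancel₀ hn0 ?_
      linear_combination (1 / 6 : ℚ) * E2 - (1 / 6 : ℚ) * E1
    · simp only [one_div]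
      linear_combination (2 / 3 : ℚ) * E1 + (1 / 3 : ℚ) * E2

/-- No nonabelian simple group has such a plane. -/
theorem not_simple_of_dih [IsSimpleGroup G] (hna : ¬ IsMulCommutative G) (D : Dih X) : False := by
  have hperf : commutator G = ⊤ := by
    refine (IsSimpleGroup.eq_bot_or_eq_top_of_normal _ inferInstance).resolve_left fun h => hna ?_
    refine ⟨⟨fun a b => ?_⟩⟩
    have hm := Subgroup.commutator_mem_commutator (Subgroup.mem_top a) (Subgroup.mem_top b)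
    rw [← commutator_def, h, Subgroup.mem_bot] at hm
    exact commutatorElement_eq_one_iff_mul_comm.mp hm
  have hle := card_le_of_dih hperf D
  obtain ⟨k, hk⟩ := X.exists_card_eq
  rw [D.card_normalizer] at hk
  have hkill : ∀ k < 10, Small.OrderSieve.kill (72 * (9 * k + 1)) = true := by decide +kernel
  have h := Small.OrderSieve.kill_eq_false hna (show Nat.card G < 6400 by omega)
  rw [hk, hkill k (by omega)] at h
  exact Bool.noConfusion h

end Cfsg.Agent.Solv.ThreeLocal
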