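import Mathlib

/-!
# The arithmetic of the six configurations in the dihedral case

A row is given by a canonical vector and its signed degree `f`.
-/

set_option autoImplicit false

namespace Cfsg.Agent.Solv.ThreeLocal

/-- The local conditions along one axis. -/
def AxisOK (c0 c1 a : ℤ) : Prop :=
  ∃ ap am bp bm : ℕ, c0 = (ap : ℤ) - bp ∧ c1 = (am : ℤ) - bm ∧ a = (ap : ℤ) + am ∧ (am + bp + bm) % 2 = 0

/-- The conditions on a row of a perfect group. -/
def RowOK (t0 t1 t2 t3 f : ℤ) : Prop :=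
  ∃ σ d a : ℤ, (σ = 1 ∨ σ = -1) ∧ f = σ * d ∧ 2 ≤ d ∧ d = 9 * a - 4 * (σ * (t0 + t1 + t2 + t3)) ∧
    AxisOK (σ * t0) (σ * t1) a ∧ AxisOK (σ * t2) (σ * t3) a

theorem dom_full {f : ℤ} (h : RowOK 1 1 1 1 f) : 11 ≤ f ∨ f ≤ -16 := by
  obtain ⟨σ, d, a, hσ, rfl, hd, he, ⟨ap, am, bp, bm, h1⟩, ⟨ap', am', bp', bm', h2⟩⟩ := h
  rcases hσ with rfl | rfl <;> omega

theorem dom_pair {t0 t1 t2 t3 f : ℤ} (h : RowOK t0 t1 t2 t3 f)
    (ht : t0 + t1 = 1 ∧ t2 + t3 = 1) : 10 ≤ f ∨ f ≤ -17 := by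
  obtain ⟨σ, d, a, hσ, rfl, hd, he, ⟨ap, am, bp, bm, h1⟩, ⟨ap', am', bp', bm', h2⟩⟩ := h
  rcases hσ with rfl | rfl <;> omega

theorem dom_unit {t0 t1 t2 t3 f : ℤ} (h : RowOK t0 t1 t2 t3 f)
    (ht : t0 + t1 + t2 + t3 = 1 ∧ (t0 + t1 = 0 ∨ t2 + t3 = 0)) : 5 ≤ f ∨ f ≤ -13 := by
  obtain ⟨σ, d, a, hσ, rfl, hd, he, ⟨ap, am, bp, bm, h1⟩, ⟨ap', am', bp', bm', h2⟩⟩ := h
  rcases hσ with rfl | rfl <;> omega

theorem dom_unit_strict {f : ℤ} (h : RowOK 0 0 0 1 f ∨ RowOK 0 1 0 0 f) : 14 ≤ f ∨ f ≤ -13 := by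
  rcases h with h | h <;>
  · obtain ⟨σ, d, a, hσ, rfl, hd, he, ⟨ap, am, bp, bm, h1⟩, ⟨ap', am', bp', bm', h2⟩⟩ := h
    rcases hσ with rfl | rfl <;> omega

theorem res_mod {t0 t1 t2 t3 f : ℤ} (h : RowOK t0 t1 t2 t3 f) :
    (f + 4 * (t0 + t1 + t2 + t3)) % 9 = 0 := by
  obtain ⟨σ, d, a, hσ, rfl, hd, he, -, -⟩ := h
  rcases hσ with rfl | rfl <;> omega

theorem inv_bounds {f a b : ℤ} (ha : 0 < a) (hb : 0 < b) (h : a ≤ f ∨ f ≤ -b) :
    -(1 : ℚ) / b ≤ 1 / (f : ℚ) ∧ 1 / (f : ℚ) ≤ 1 / (a : ℚ) := by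
  have ha' : (0 : ℚ) < a := by exact_mod_cast ha
  have hb' : (0 : ℚ) < b := by exact_mod_cast hb
  rcases h with h | h
  · have hf : (a : ℚ) ≤ f := by exact_mod_cast h
    refine ⟨?_, one_div_le_one_div_of_le ha' hf⟩
    have h1 : 0 ≤ 1 / (f : ℚ) := by have := ha'.trans_le hf; positivity
    have h2 : -(1 : ℚ) / b ≤ 0 := by rw [neg_div]; exact neg_nonpos.2 (by positivity)
    linarith
  · have hf : (f : ℚ) ≤ -b := by exact_mod_cast h
    have h1 : 1 / (b : ℚ) ≥ 1 / (-(f : ℚ)) := one_div_le_one_div_of_le hb' (by linarith)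
    rw [one_div (-(f : ℚ)), inv_neg, ← one_div] at h1
    refine ⟨by rw [neg_div]; linarith, ?_⟩
    have h2 : 1 / (f : ℚ) ≤ 0 := div_nonpos_of_nonneg_of_nonpos zero_le_one (by linarith)
    have h3 : (0 : ℚ) ≤ 1 / a := by positivity
    linarith

theorem bound_of_lower {n K : ℚ} (hn : 0 ≤ n) (h : n * K = 648) (hK : 81 / 800 ≤ K) : n ≤ 6400 := by
  nlinarith

/-- The first five configurations. -/
theorem bound_small {n x0 x1 x2 x3 x4 : ℚ} (hn : 0 ≤ n) (h : n * (1 + x0) = 648)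
    (hx : x0 = x1 + x2 + x3 + x4) (h1 : -(1 / 2 : ℚ) ≤ x1) (h2 : -(1 / 5 : ℚ) ≤ x2) (h3 : -(1 / 5 : ℚ) ≤ x3)
    (h4 : -(3 / 17 : ℚ) ≤ x4) (h5 : x1 = 0 ∨ x2 + x3 = 0) : n ≤ 6400 := by
  rcases h5 with h5 | h5 <;> refine bound_of_lower hn h ?_ <;> linarith

/-- The sixth configuration. -/
theorem bound_six {n : ℚ} {F C C' E A A' B B' : ℤ} (hn : 0 ≤ n)
    (hF : RowOK 1 1 1 1 F) (hC : RowOK 0 1 0 1 C) (hC' : RowOK 0 1 1 0 C') (hE : RowOK 1 0 0 1 E)
    (hA : RowOK 0 0 0 1 A) (hA' : RowOK 0 0 1 0 A') (hB : RowOK 0 1 0 0 B) (hB' : RowOK 1 0 0 0 B')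
    (e0 : B' + F + E + 1 = 0) (e1 : B + F + C + C' = 0) (e2 : A' + F + C' + 1 = 0) (e3 : A + F + C + E = 0)
    (heq : 1 / (A : ℚ) + 1 / (A' : ℚ) = 1 / (B : ℚ) + 1 / (B' : ℚ))
    (hK : n * (1 + 8 * (1 / (F : ℚ)) + (1 / (C : ℚ) + 1 / (C' : ℚ) + 1 / (E : ℚ)) -
      2 * (1 / (A : ℚ) + 1 / (A' : ℚ))) = 648) :
    n ≤ 6400 := by
  refine bound_of_lower hn hK ?_
  have dF := dom_full hF
  have dA := dom_unit_strict (Or.inl hA)
  have dB := dom_unit_strict (Or.inr hB)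
  have dA' := dom_unit hA' (by norm_num)
  have dB' := dom_unit hB' (by norm_num)
  have dC := dom_pair hC (by norm_num)
  have dC' := dom_pair hC' (by norm_num)
  have dE := dom_pair hE (by norm_num)
  have mF := res_mod hF
  have mA' := res_mod hA'
  have mA := res_mod hA
  have mB' := res_mod hB'
  have mB := res_mod hB
  obtain ⟨lA, uA⟩ := inv_bounds (a := 14) (b := 13) (by norm_num) (by norm_num) dA
  obtain ⟨lB, uB⟩ := inv_bounds (a := 14) (b := 13) (by norm_num) (by norm_num) dB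
  obtain ⟨lA', uA'⟩ := inv_bounds (a := 5) (b := 13) (by norm_num) (by norm_num) dA'
  obtain ⟨lB', uB'⟩ := inv_bounds (a := 5) (b := 13) (by norm_num) (by norm_num) dB'
  obtain ⟨lC, uC⟩ := inv_bounds (a := 10) (b := 17) (by norm_num) (by norm_num) dC
  obtain ⟨lC', uC'⟩ := inv_bounds (a := 10) (b := 17) (by norm_num) (by norm_num) dC'
  obtain ⟨lE, uE⟩ := inv_bounds (a := 10) (b := 17) (by norm_num) (by norm_num) dE
  obtain ⟨lF, uF⟩ := inv_bounds (a := 11) (b := 16) (by norm_num) (by norm_num) dF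
  push_cast at lA uA lB uB lA' uA' lB' uB' lC uC lC' uC' lE uE lF uF
  rcases dF with hFp | hFn
  · have hpos : (0 : ℚ) ≤ 1 / (F : ℚ) := by
      have : (0 : ℚ) < F := by exact_mod_cast (show 0 < F by omega)
      positivity
    linarith
  have hF' : F = -16 ∨ F ≤ -25 := by omega
  by_cases hA5 : A' = 5
  · have h1 : (1 / (A' : ℚ)) = 1 / 5 := by rw [hA5]; norm_num
    have hB5 : B' = 5 := by
      by_contra hne
      have dB'2 : 14 ≤ B' ∨ B' ≤ -13 := by omega
      have uB2 : 1 / (B' : ℚ) ≤ 1 / ((14 : ℤ) : ℚ) := (inv_bounds (by norm_num) (b := 13) (by norm_num) dB'2).2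
      push_cast at uB2
      by_cases hb : B = 14 ∧ B' = 14
      · obtain ⟨rfl, rfl⟩ := hb
        rw [h1] at heq
        push_cast at heq
        have hA0 : (A : ℚ) ≠ 0 := by exact_mod_cast (show A ≠ 0 by omega)
        field_simp at heq
        have hzi : (70 : ℚ) * 1 = -4 * (A : ℚ) := by linarith
        have : (70 : ℤ) * 1 = -4 * A := by exact_mod_cast hzi
        omega
      · rcases (show (23 ≤ B ∨ B ≤ -13) ∨ (23 ≤ B' ∨ B' ≤ -13) by omega) with h | h
        · have := (inv_bounds (by norm_num) (b := 13) (by norm_num) h).2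
          push_cast at this
          linarith
        · have := (inv_bounds (by norm_num) (b := 13) (by norm_num) h).2
          push_cast at this
          linarith
    have hC'e : C' = -F - 6 := by omega
    have hEe : E = -F - 6 := by omega
    rcases hF' with hF6 | hF6
    · subst hF6
      have h10 : (1 / (C' : ℚ)) = 1 / 10 := by rw [hC'e]; norm_num
      have h10' : (1 / (E : ℚ)) = 1 / 10 := by rw [hEe]; norm_num
      push_cast
      rcases dC with hc | hc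
      · have : (0 : ℚ) ≤ 1 / (C : ℚ) := by
          have : (0 : ℚ) < C := by exact_mod_cast (show 0 < C by omega)
          positivity
        linarith
      · have hA23 : 23 ≤ A ∨ A ≤ -13 := Or.inl (by omega)
        have := (inv_bounds (by norm_num) (b := 13) (by norm_num) hA23).2
        push_cast at this
        linarith
    · have hFq : (F : ℚ) ≤ -25 := by exact_mod_cast hF6
      have hce : 1 / (C' : ℚ) ≥ -(1 / (F : ℚ)) := by
        rw [hC'e, ge_iff_le, ← one_div_neg_eq_neg_one_div]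
        push_cast
        exact one_div_le_one_div_of_le (by linarith) (by linarith)
      have hee : 1 / (E : ℚ) ≥ -(1 / (F : ℚ)) := by
        rw [hEe, ge_iff_le, ← one_div_neg_eq_neg_one_div]
        push_cast
        exact one_div_le_one_div_of_le (by linarith) (by linarith)
      have h25 := (inv_bounds (f := F) (a := 11) (b := 25) (by norm_num) (by norm_num) (Or.inr hF6)).1
      push_cast at h25
      linarith
  · have dA'2 : 14 ≤ A' ∨ A' ≤ -13 := by omega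
    have uA2 := (inv_bounds (by norm_num) (b := 13) (by norm_num) dA'2).2
    push_cast at uA2
    rcases hF' with hF6 | hF6
    · have hA32 : 32 ≤ A' ∨ A' ≤ -1 := by omega
      have := (inv_bounds (by norm_num) (b := 1) (by norm_num) hA32).2
      push_cast at this
      have h16 : 1 / (F : ℚ) = -1 / 16 := by rw [hF6]; norm_num
      linarith
    · have h25 := (inv_bounds (f := F) (a := 11) (b := 25) (by norm_num) (by norm_num) (Or.inr hF6)).1
      push_cast at h25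
      linarith

end Cfsg.Agent.Solv.ThreeLocal
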