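import Mathlib
import Cfsg.Agent.Lib.Solv.ThreeLocal.Dih
import Cfsg.Agent.Lib.Solv.ThreeLocal.Data
import Cfsg.Agent.Lib.Solv.ThreeLocal.Rows
import Cfsg.Agent.Lib.Solv.ThreeLocal.DihArith

/-!
# The columns of the dihedral case
-/

set_option autoImplicit false
set_option linter.unusedSimpArgs false

namespace Cfsg.Agent.Solv.ThreeLocal

open Cfsg Cfsg.Agent.Char
open scoped ComplexConjugate

universe u

theorem pow_four_of_comm {G : Type u} [Group G] {a t : G} (h : t * a = a * t) (ha : a ^ 3 = 1)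
    (ht : t * t = 1) : (a * t) ^ 4 = a ∧ (a * t) ^ 3 = t := by
  have hc : Commute a t := h.symm
  have h3 : (a * t) ^ 3 = t := by rw [hc.mul_pow, ha, one_mul, pow_succ, pow_two, ht, one_mul]
  exact ⟨by rw [pow_succ, h3, ← mul_assoc, h, mul_assoc, ht, mul_one], h3⟩

variable {G : Type u} [Group G] [Finite G] {X : Ctx G}

theorem Dih.commute_axis (D : Dih X) : D.r * X.e (1, 0) = X.e (1, 0) * D.r := by
  have := D.r_act (1, 0)
  rwa [show flip ((1, 0) : Pl) = (1, 0) by decide, mul_inv_eq_iff_eq_mul] at this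

theorem Dih.commute_diag (D : Dih X) : D.r2 * X.e (1, 1) = X.e (1, 1) * D.r2 := by
  have := D.r2_act (1, 1)
  rwa [mul_inv_eq_iff_eq_mul] at this

/-- The axis along the first coordinate. -/
def Dih.axis1 (D : Dih X) : Axis X where
  u := (1, 0)
  w := (0, 1)
  r := D.r
  r_sq := D.r_sq
  ru := D.commute_axis
  rw' := D.r_act (0, 1)
  cu i hi := (D.isConj_iff_axis (by decide)).2
    ((show ∀ i : ZMod 3, i ≠ 0 → i • ((1, 0) : Pl) ≠ 0 ∧ axisB (1, 0) = axisB (i • ((1, 0) : Pl)) by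
      decide +kernel) i hi)
  cw j hj := (D.isConj_iff_axis (by decide)).2
    ((show ∀ i : ZMod 3, i ≠ 0 → i • ((0, 1) : Pl) ≠ 0 ∧ axisB (1, 0) = axisB (i • ((0, 1) : Pl)) by
      decide +kernel) j hj)
  cd i j hi hj := (D.isConj_iff_axis (by decide)).2
    ((show ∀ i j : ZMod 3, i ≠ 0 → j ≠ 0 → i • ((1, 0) : Pl) + j • ((0, 1) : Pl) ≠ 0 ∧
      axisB (((1, 0) : Pl) + (0, 1)) = axisB (i • ((1, 0) : Pl) + j • ((0, 1) : Pl)) by decide +kernel) i j hi hj)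
  cz := isConj_iff.2 ⟨D.R ^ 2, by
    calc D.R ^ 2 * (X.e (1, 0) * D.r) * (D.R ^ 2)⁻¹
        = (D.R ^ 2 * X.e (1, 0) * (D.R ^ 2)⁻¹) * ((D.R ^ 2 * D.r) * (D.R ^ 2)⁻¹) := by group
      _ = _ := by rw [D.R_sq_act, D.R_sq_comm, mul_inv_cancel_right]⟩

/-- The axis along the diagonal. -/
def Dih.axis2 (D : Dih X) : Axis X where
  u := (1, 1)
  w := (1, 2)
  r := D.r2
  r_sq := D.r2_sq
  ru := D.commute_diag
  rw' := by rw [D.r2_act]; rfl
  cu i hi := (D.isConj_iff_axis (by decide)).2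
    ((show ∀ i : ZMod 3, i ≠ 0 → i • ((1, 1) : Pl) ≠ 0 ∧ axisB (1, 1) = axisB (i • ((1, 1) : Pl)) by
      decide +kernel) i hi)
  cw j hj := (D.isConj_iff_axis (by decide)).2
    ((show ∀ i : ZMod 3, i ≠ 0 → i • ((1, 2) : Pl) ≠ 0 ∧ axisB (1, 1) = axisB (i • ((1, 2) : Pl)) by
      decide +kernel) j hj)
  cd i j hi hj := (D.isConj_iff_axis (by decide)).2
    ((show ∀ i j : ZMod 3, i ≠ 0 → j ≠ 0 → i • ((1, 1) : Pl) + j • ((1, 2) : Pl) ≠ 0 ∧
      axisB (((1, 1) : Pl) + (1, 2)) = axisB (i • ((1, 1) : Pl) + j • ((1, 2) : Pl)) by decide +kernel) i j hi hj)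
  cz := isConj_iff.2 ⟨D.R ^ 2, by
    have h2 : D.R ^ 2 * D.r2 = D.r2 * D.R ^ 2 := by
      rw [Dih.r2, ← mul_assoc, ← pow_succ, pow_succ', mul_assoc, D.R_sq_comm, mul_assoc]
    calc D.R ^ 2 * (X.e (1, 1) * D.r2) * (D.R ^ 2)⁻¹
        = (D.R ^ 2 * X.e (1, 1) * (D.R ^ 2)⁻¹) * ((D.R ^ 2 * D.r2) * (D.R ^ 2)⁻¹) := by group
      _ = _ := by rw [D.R_sq_act, h2, mul_inv_cancel_right]⟩

/-- The full Gram matrix of the four columns. -/
def gramFull : Gram := (4, 4, 4, 4, 1, 2, 2, 2, 2, 1)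

/-- The first class column. -/
def v1Of (v : Vec) : ℤ := 2 * (v.2.2.1 + v.2.2.2) - (v.1 + v.2.1)

/-- The second class column. -/
def v2Of (v : Vec) : ℤ := 2 * (v.1 + v.2.1) - (v.2.2.1 + v.2.2.2)

variable [Fintype G]

/-- The integral data of the dihedral case. -/
structure DihData (D : Dih X) where
  c : IrrCharacter G → Vec
  a : IrrCharacter G → ℤ
  val1 : ∀ χ : IrrCharacter G, (χ : G → ℂ) (X.e (1, 0)) = (v1Of (c χ) : ℂ)
  val2 : ∀ χ : IrrCharacter G, (χ : G → ℂ) (X.e (1, 1)) = (v2Of (c χ) : ℂ)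
  valh1 : ∀ χ : IrrCharacter G, (χ : G → ℂ) (X.e (1, 0) * D.r) = (((c χ).1 - (c χ).2.1 : ℤ) : ℂ)
  valh2 : ∀ χ : IrrCharacter G,
    (χ : G → ℂ) (X.e (1, 1) * D.r2) = (((c χ).2.2.1 - (c χ).2.2.2 : ℤ) : ℂ)
  res : ∀ χ : IrrCharacter G, (deg (χ : G → ℂ) : ℤ) =
    9 * a χ - 4 * ((c χ).1 + (c χ).2.1 + (c χ).2.2.1 + (c χ).2.2.2)
  ok1 : ∀ χ : IrrCharacter G, ∃ ap am bp bm : ℕ, (c χ).1 = (ap : ℤ) - bp ∧ (c χ).2.1 = (am : ℤ) - bm ∧
    a χ = (ap : ℤ) + am ∧ (D.r ∈ commutator G → (am + bp + bm) % 2 = 0)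
  ok2 : ∀ χ : IrrCharacter G, ∃ ap am bp bm : ℕ, (c χ).2.2.1 = (ap : ℤ) - bp ∧
    (c χ).2.2.2 = (am : ℤ) - bm ∧ a χ = (ap : ℤ) + am ∧ (D.r2 ∈ commutator G → (am + bp + bm) % 2 = 0)
  gram : ∑ χ, outer (c χ) = gramFull
  deg0 : ∑ χ : IrrCharacter G, (deg (χ : G → ℂ) : ℤ) * (c χ).1 = 0
  deg1 : ∑ χ : IrrCharacter G, (deg (χ : G → ℂ) : ℤ) * (c χ).2.1 = 0
  deg2 : ∑ χ : IrrCharacter G, (deg (χ : G → ℂ) : ℤ) * (c χ).2.2.1 = 0
  deg3 : ∑ χ : IrrCharacter G, (deg (χ : G → ℂ) : ℤ) * (c χ).2.2.2 = 0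
  coef112 : (Nat.card G : ℚ) * ∑ χ : IrrCharacter G,
    ((v2Of (c χ) * v1Of (c χ) * v1Of (c χ) : ℤ) : ℚ) / ((deg (χ : G → ℂ) : ℤ) : ℚ) = 648
  coef221 : (Nat.card G : ℚ) * ∑ χ : IrrCharacter G,
    ((v1Of (c χ) * v2Of (c χ) * v2Of (c χ) : ℤ) : ℚ) / ((deg (χ : G → ℂ) : ℤ) : ℚ) = 648

set_option maxHeartbeats 1000000 in
theorem Dih.data (D : Dih X) : Nonempty (DihData D) := by
  classical
  choose ap am bp bm hap ham hbp hbm hpar using fun χ : IrrCharacter G =>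
    D.axis1.data (irr_isCharacter χ.2)
  choose ap' am' bp' bm' hap' ham' hbp' hbm' hpar' using fun χ : IrrCharacter G =>
    D.axis2.data (irr_isCharacter χ.2)
  simp only [Dih.axis1, Dih.axis2] at hap ham hbp hbm hap' ham' hbp' hbm' hpar hpar'
  have hu : ∀ χ : IrrCharacter G, (χ : G → ℂ) (X.e (((1, 1) : Pl) + (1, 2))) = (χ : G → ℂ) (X.e (1, 0)) := by
    intro χ
    obtain ⟨k, hk⟩ := isConj_iff.1 ((D.isConj_iff_axis (v := ((1, 1) : Pl) + (1, 2)) (w := (1, 0))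
      (by decide)).2 (by decide))
    rw [← hk]
    exact (isClassFunction_character (irr_isCharacter χ.2) _ k).symm
  have hu' : ∀ χ : IrrCharacter G, (χ : G → ℂ) (X.e (((1, 0) : Pl) + (0, 1))) = (χ : G → ℂ) (X.e (1, 1)) :=
    fun χ => rfl
  simp only [hu, hu'] at hap ham hbp hbm hap' ham' hbp' hbm'
  let c : IrrCharacter G → Vec := fun χ =>
    ((ap χ : ℤ) - bp χ, (am χ : ℤ) - bm χ, (ap' χ : ℤ) - bp' χ, (am' χ : ℤ) - bm' χ)
  let a : IrrCharacter G → ℤ := fun χ => (ap χ : ℤ) + am χ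
  have val1 : ∀ χ : IrrCharacter G, (χ : G → ℂ) (X.e (1, 0)) = (v1Of (c χ) : ℂ) := by
    intro χ
    simp only [c, v1Of]; push_cast
    linear_combination (1 / 9 : ℂ) * (hap' χ - hbp' χ + ham' χ - hbm' χ) -
      (1 / 18 : ℂ) * (hap χ - hbp χ + ham χ - hbm χ)
  have val2 : ∀ χ : IrrCharacter G, (χ : G → ℂ) (X.e (1, 1)) = (v2Of (c χ) : ℂ) := by
    intro χ
    simp only [c, v2Of]; push_cast
    linear_combination (1 / 9 : ℂ) * (hap χ - hbp χ + ham χ - hbm χ) -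
      (1 / 18 : ℂ) * (hap' χ - hbp' χ + ham' χ - hbm' χ)
  have valh1 : ∀ χ : IrrCharacter G,
      (χ : G → ℂ) (X.e (1, 0) * D.r) = (((c χ).1 - (c χ).2.1 : ℤ) : ℂ) := by
    intro χ
    simp only [c]; push_cast
    linear_combination (1 / 18 : ℂ) * (hap χ - hbp χ - ham χ + hbm χ)
  have valh2 : ∀ χ : IrrCharacter G,
      (χ : G → ℂ) (X.e (1, 1) * D.r2) = (((c χ).2.2.1 - (c χ).2.2.2 : ℤ) : ℂ) := by
    intro χ
    simp only [c]; push_cast
    linear_combination (1 / 18 : ℂ) * (hap' χ - hbp' χ - ham' χ + hbm' χ)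
  have ha' : ∀ χ, (ap χ : ℤ) + am χ = ap' χ + am' χ := by
    intro χ
    have h : ((((ap χ : ℤ) + am χ : ℤ)) : ℂ) = ((((ap' χ : ℤ) + am' χ : ℤ)) : ℂ) := by
      push_cast
      linear_combination (1 / 18 : ℂ) * (hap' χ + ham' χ - hap χ - ham χ)
    exact_mod_cast h
  have res : ∀ χ : IrrCharacter G, (deg (χ : G → ℂ) : ℤ) =
      9 * a χ - 4 * ((c χ).1 + (c χ).2.1 + (c χ).2.2.1 + (c χ).2.2.2) := by
    intro χ
    have h := hap χ
    have h' := ham χ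
    rw [val1, val2, value_one] at h h'
    have e : ((((deg (χ : G → ℂ) : ℤ) + 4 * v1Of (c χ) + 4 * v2Of (c χ) : ℤ)) : ℂ) =
        ((9 * a χ : ℤ) : ℂ) := by
      simp only [a]; push_cast at h h' ⊢
      linear_combination (1 / 2 : ℂ) * (h + h')
    have e' : (deg (χ : G → ℂ) : ℤ) + 4 * v1Of (c χ) + 4 * v2Of (c χ) = 9 * a χ := by exact_mod_cast e
    simp only [v1Of, v2Of] at e'
    omega
  let U : Fin 4 → IrrCharacter G → ℤ := ![fun χ => v1Of (c χ), fun χ => v2Of (c χ),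
    fun χ => (c χ).1 - (c χ).2.1, fun χ => (c χ).2.2.1 - (c χ).2.2.2]
  let g : Fin 4 → G := ![X.e (1, 0), X.e (1, 1), X.e (1, 0) * D.r, X.e (1, 1) * D.r2]
  have hg : ∀ k (χ : IrrCharacter G), (χ : G → ℂ) (g k) = (U k χ : ℂ) := by
    intro k χ
    fin_cases k
    exacts [val1 χ, val2 χ, valh1 χ, valh2 χ]
  let cd : Fin 4 → ℕ := ![18, 18, 6, 6]
  have hcd : ∀ k, Nat.card (Subgroup.centralizer ({g k} : Set G)) = cd k := by
    intro k
    fin_cases k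
    exacts [D.cards_axis.1, D.cards_diag.1, D.cards_axis.2, D.cards_diag.2]
  obtain ⟨p4, p3⟩ := pow_four_of_comm D.commute_axis (X.e_cube _) D.r_sq
  obtain ⟨q4, q3⟩ := pow_four_of_comm D.commute_diag (X.e_cube _) D.r2_sq
  have hne12 : ¬ IsConj (X.e (1, 0)) (X.e (1, 1)) := fun h =>
    absurd ((D.isConj_iff_axis (by decide)).1 h).2 (by decide)
  have hpow : ∀ {x y : G} (n : ℕ), IsConj x y → IsConj (x ^ n) (y ^ n) := fun {x y} n h => by
    obtain ⟨k, hk⟩ := isConj_iff.1 h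
    exact isConj_iff.2 ⟨k, by rw [← hk, conj_pow]⟩
  have hr1 : D.r ≠ 1 := fun h => by
    have h1 := D.r_act (0, 1)
    rw [h] at h1
    simp only [one_mul, inv_one, mul_one] at h1
    exact absurd (X.inj h1) (by decide)
  have hr2 : D.r2 ≠ 1 := fun h => by
    have h1 := D.r2_act (0, 1)
    rw [h] at h1
    simp only [one_mul, inv_one, mul_one] at h1
    exact absurd (X.inj h1) (by decide)
  have hsep : ∀ (p : Pl) (x t : G), x ^ 3 = t → t ≠ 1 → ¬ IsConj (X.e p) x := fun p x t hx ht h => by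
    have := hpow 3 h
    rw [X.e_cube, hx] at this
    exact ht (isConj_one_right.1 this)
  have hne34 : ¬ IsConj (X.e (1, 0) * D.r) (X.e (1, 1) * D.r2) := fun h => by
    have h' := hpow 4 h
    rw [p4, q4] at h'
    exact hne12 h'
  have hIs : ∀ k l, IsConj (g k) (g l) ↔ k = l := by
    intro k l
    refine ⟨fun h => ?_, fun h => h ▸ IsConj.refl _⟩
    fin_cases k <;> fin_cases l <;> first
      | rfl
      | exact (hne12 h).elim
      | exact (hne12 h.symm).elim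
      | exact (hsep _ _ _ p3 hr1 h).elim
      | exact (hsep _ _ _ q3 hr2 h).elim
      | exact (hsep _ _ _ p3 hr1 h.symm).elim
      | exact (hsep _ _ _ q3 hr2 h.symm).elim
      | exact (hne34 h).elim
      | exact (hne34 h.symm).elim
  have hO : ∀ k l, ∑ χ, U k χ * U l χ = if k = l then (cd l : ℤ) else 0 := by
    intro k l
    rw [int_orth (g k) (g l) (U k) (U l) (hg k) (hg l), hcd]
    simp only [hIs]
  have hg1 : ∀ k, g k ≠ 1 := by
    intro k h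
    fin_cases k
    · exact absurd (X.e_eq_one_iff.1 h) (by decide)
    · exact absurd (X.e_eq_one_iff.1 h) (by decide)
    · exact hr1 (by rw [← p3, show X.e (1, 0) * D.r = 1 from h, one_pow])
    · exact hr2 (by rw [← q3, show X.e (1, 1) * D.r2 = 1 from h, one_pow])
  have hD : ∀ k, ∑ χ : IrrCharacter G, (deg (χ : G → ℂ) : ℤ) * U k χ = 0 := fun k =>
    deg_orth (hg1 k) _ (hg k)
  let E : Fin 4 → Fin 4 → ℤ := ![![1, 2, 3, 0], ![1, 2, -3, 0], ![2, 1, 0, 3], ![2, 1, 0, -3]]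
  let C : Fin 4 → IrrCharacter G → ℤ := ![fun χ => (c χ).1, fun χ => (c χ).2.1, fun χ => (c χ).2.2.1,
    fun χ => (c χ).2.2.2]
  have hC : ∀ j χ, 6 * C j χ = E j 0 * U 0 χ + E j 1 * U 1 χ + E j 2 * U 2 χ + E j 3 * U 3 χ := by
    intro j χ
    fin_cases j <;> simp [C, E, U, v1Of, v2Of] <;> ring
  have hCC : ∀ i j, 36 * ∑ χ, C i χ * C j χ = 18 * (E i 0 * E j 0) + 18 * (E i 1 * E j 1) +
      6 * (E i 2 * E j 2) + 6 * (E i 3 * E j 3) := by
    intro i j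
    have : 36 * ∑ χ, C i χ * C j χ = ∑ χ, (E i 0 * U 0 χ + E i 1 * U 1 χ + E i 2 * U 2 χ + E i 3 * U 3 χ) *
        (E j 0 * U 0 χ + E j 1 * U 1 χ + E j 2 * U 2 χ + E j 3 * U 3 χ) := by
      rw [Finset.mul_sum]
      exact Finset.sum_congr rfl fun χ _ => by rw [← hC, ← hC]; ring
    rw [this]
    have hmul : ∀ (x y : ℤ) k l, ∑ χ, x * U k χ * (y * U l χ) = x * y * if k = l then (cd l : ℤ) else 0 := by
      intro x y k l
      rw [← hO, Finset.mul_sum]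
      exact Finset.sum_congr rfl fun χ _ => by ring
    simp only [add_mul, mul_add, Finset.sum_add_distrib, hmul, cd]
    simp
    ring
  have hDC : ∀ j, ∑ χ : IrrCharacter G, (deg (χ : G → ℂ) : ℤ) * C j χ = 0 := by
    intro j
    have : 6 * ∑ χ : IrrCharacter G, (deg (χ : G → ℂ) : ℤ) * C j χ =
        ∑ χ : IrrCharacter G, (E j 0 * ((deg (χ : G → ℂ) : ℤ) * U 0 χ) +
          E j 1 * ((deg (χ : G → ℂ) : ℤ) * U 1 χ) +
          E j 2 * ((deg (χ : G → ℂ) : ℤ) * U 2 χ) + E j 3 * ((deg (χ : G → ℂ) : ℤ) * U 3 χ)) := by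
      rw [Finset.mul_sum]
      refine Finset.sum_congr rfl fun χ _ => ?_
      linear_combination (deg (χ : G → ℂ) : ℤ) * hC j χ
    simp only [Finset.sum_add_distrib, ← Finset.mul_sum, hD] at this
    omega
  have gram : ∑ χ, outer (c χ) = gramFull := by
    have h00 := hCC 0 0; have h11 := hCC 1 1; have h22 := hCC 2 2; have h33 := hCC 3 3
    have h01 := hCC 0 1; have h02 := hCC 0 2; have h03 := hCC 0 3
    have h12 := hCC 1 2; have h13 := hCC 1 3; have h23 := hCC 2 3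
    simp [C, E] at h00 h11 h22 h33 h01 h02 h03 h12 h13 h23
    rw [sum_outer, gramFull]
    simp only [Prod.mk.injEq]
    refine ⟨?_, ?_, ?_, ?_, ?_, ?_, ?_, ?_, ?_, ?_⟩ <;> omega
  have hne : ∀ p q : Pl, axisB p ≠ axisB q → p ≠ 0 → ∀ r : Pl, r ≠ 0 → axisB r = axisB p →
      ¬ (IsConj (X.e r) (X.e r) ∧ IsConj (X.e (-r)) (X.e q)) := by
    intro p q hpq hp r hr hrp h
    have h1 := ((D.isConj_iff_axis (neg_ne_zero.2 hr)).1 h.2).2
    rw [(show ∀ v : Pl, axisB (-v) = axisB v by decide) r, hrp] at h1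
    exact hpq h1
  have e1 := X.coef_rat (p := (1, 0)) (q := (1, 0)) (z := (1, 1)) (by decide)
    (hne (1, 0) (1, 1) (by decide) (by decide) _ (by decide) rfl)
    (fun v => (v ≠ 0 ∧ axisB (1, 0) = axisB v) ∧ ((1, 1) - v ≠ 0 ∧ axisB (1, 0) = axisB ((1, 1) - v)))
    (fun v => and_congr (D.isConj_iff_axis (by decide)).symm (D.isConj_iff_axis (by decide)).symm)
    val1 val1 val2
  rw [D.cards_axis.1, show (Finset.univ.filter fun v : Pl => (v ≠ 0 ∧ axisB (1, 0) = axisB v) ∧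
    ((1, 1) - v ≠ 0 ∧ axisB (1, 0) = axisB ((1, 1) - v))).card = 2 by decide] at e1
  have e2 := X.coef_rat (p := (1, 1)) (q := (1, 1)) (z := (1, 0)) (by decide)
    (hne (1, 1) (1, 0) (by decide) (by decide) _ (by decide) rfl)
    (fun v => (v ≠ 0 ∧ axisB (1, 1) = axisB v) ∧ ((1, 0) - v ≠ 0 ∧ axisB (1, 1) = axisB ((1, 0) - v)))
    (fun v => and_congr (D.isConj_iff_axis (by decide)).symm (D.isConj_iff_axis (by decide)).symm)
    val2 val2 val1
  rw [D.cards_diag.1, show (Finset.univ.filter fun v : Pl => (v ≠ 0 ∧ axisB (1, 1) = axisB v) ∧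
    ((1, 0) - v ≠ 0 ∧ axisB (1, 1) = axisB ((1, 0) - v))).card = 2 by decide] at e2
  refine ⟨{
    c := c, a := a, val1 := val1, val2 := val2, valh1 := valh1, valh2 := valh2, res := res,
    ok1 := fun χ => ⟨ap χ, am χ, bp χ, bm χ, rfl, rfl, rfl, fun h => Nat.even_iff.1 (hpar χ h)⟩,
    ok2 := fun χ => ⟨ap' χ, am' χ, bp' χ, bm' χ, rfl, rfl, ha' χ, fun h => Nat.even_iff.1 (hpar' χ h)⟩,
    gram := gram, deg0 := hDC 0, deg1 := hDC 1, deg2 := hDC 2, deg3 := hDC 3,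
    coef112 := ?_, coef221 := ?_ }⟩
  · rw [e1]; norm_num
  · rw [e2]; norm_num

end Cfsg.Agent.Solv.ThreeLocal
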