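import Mathlib
import Cfsg.Agent.Lib.Solv.ThreeLocal.DihMake

/-!
# A plane whose automiser is a four-group
-/

set_option autoImplicit false

namespace Cfsg.Agent.Solv.ThreeLocal

universe u

/-- The reflection fixing the second axis. -/
def flop (v : Pl) : Pl := (-v.1, v.2)

/-- The pattern of zero coordinates. -/
def pat (v : Pl) : Bool × Bool := (decide (v.1 = 0), decide (v.2 = 0))

/-- Coordinates adapted to an automiser which is a four-group. -/
structure Kl {G : Type u} [Group G] (X : Ctx G) where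
  r1 : G
  r2 : G
  r1_sq : r1 * r1 = 1
  r2_sq : r2 * r2 = 1
  comm : r1 * r2 = r2 * r1
  r1_act : ∀ v, r1 * X.e v * r1⁻¹ = X.e (flip v)
  r2_act : ∀ v, r2 * X.e v * r2⁻¹ = X.e (flop v)
  cover : ∀ g ∈ Subgroup.normalizer (X.S : Set G), ∃ w : Pl,
    g = X.e w ∨ g = X.e w * r1 ∨ g = X.e w * r2 ∨ g = X.e w * (r1 * r2)

/-- Exchange of the two coordinates. -/
def swapPl : Pl ≃+ Pl := AddEquiv.prodComm

theorem swapPl_apply (v : Pl) : swapPl v = (v.2, v.1) := rfl

namespace Kl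

variable {G : Type u} [Group G] {X : Ctx G} (K : Kl X)
include K

theorem r12_act (v : Pl) : K.r1 * K.r2 * X.e v * (K.r1 * K.r2)⁻¹ = X.e (-v) := by
  rw [show K.r1 * K.r2 * X.e v * (K.r1 * K.r2)⁻¹ = K.r1 * (K.r2 * X.e v * K.r2⁻¹) * K.r1⁻¹ by group,
    K.r2_act, K.r1_act]
  rfl

/-- The four symmetries. -/
theorem act_of_mem {g : G} (hg : g ∈ Subgroup.normalizer (X.S : Set G)) :
    ∃ w : Pl, ((g = X.e w ∧ ∀ v, g * X.e v * g⁻¹ = X.e v) ∨
      (g = X.e w * K.r1 ∧ ∀ v, g * X.e v * g⁻¹ = X.e (flip v)) ∨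
      (g = X.e w * K.r2 ∧ ∀ v, g * X.e v * g⁻¹ = X.e (flop v)) ∨
      (g = X.e w * (K.r1 * K.r2) ∧ ∀ v, g * X.e v * g⁻¹ = X.e (-v))) := by
  have h : ∀ (w : Pl) (t : G) (T : Pl → Pl), (∀ v, t * X.e v * t⁻¹ = X.e (T v)) →
      ∀ v, X.e w * t * X.e v * (X.e w * t)⁻¹ = X.e (T v) := fun w t T ht v => by
    rw [show X.e w * t * X.e v * (X.e w * t)⁻¹ = X.e w * (t * X.e v * t⁻¹) * (X.e w)⁻¹ by group, ht,
      X.e_comm, mul_inv_cancel_right]
  obtain ⟨w, rfl | rfl | rfl | rfl⟩ := K.cover g hg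
  · exact ⟨w, Or.inl ⟨rfl, fun v => by rw [X.e_comm, mul_inv_cancel_right]⟩⟩
  · exact ⟨w, Or.inr (Or.inl ⟨rfl, h w _ _ K.r1_act⟩)⟩
  · exact ⟨w, Or.inr (Or.inr (Or.inl ⟨rfl, h w _ _ K.r2_act⟩))⟩
  · exact ⟨w, Or.inr (Or.inr (Or.inr ⟨rfl, h w _ _ K.r12_act⟩))⟩

theorem isConj_iff_pat [Finite G] {v w : Pl} (hv : v ≠ 0) :
    IsConj (X.e v) (X.e w) ↔ w ≠ 0 ∧ pat v = pat w := by
  constructor
  · intro h
    obtain ⟨g, hg, hgv⟩ := X.exists_of_isConj hv h
    have key : ∀ v : Pl, v ≠ 0 → (v ≠ 0 ∧ pat v = pat v) ∧ (flip v ≠ 0 ∧ pat v = pat (flip v)) ∧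
        (flop v ≠ 0 ∧ pat v = pat (flop v)) ∧ (-v ≠ 0 ∧ pat v = pat (-v)) := by decide +kernel
    obtain ⟨t, ⟨-, ha⟩ | ⟨-, ha⟩ | ⟨-, ha⟩ | ⟨-, ha⟩⟩ := K.act_of_mem hg <;>
      have e := X.inj ((ha v).symm.trans hgv) <;> subst e
    · exact (key v hv).1
    · exact (key v hv).2.1
    · exact (key v hv).2.2.1
    · exact (key v hv).2.2.2
  · rintro ⟨hw, h⟩
    have key : ∀ v w : Pl, v ≠ 0 → w ≠ 0 → pat v = pat w →
        w = v ∨ w = flip v ∨ w = flop v ∨ w = -v := by decide +kernel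
    rcases key v w hv hw h with rfl | rfl | rfl | rfl
    · exact IsConj.refl _
    · exact isConj_iff.2 ⟨_, K.r1_act v⟩
    · exact isConj_iff.2 ⟨_, K.r2_act v⟩
    · exact isConj_iff.2 ⟨_, K.r12_act v⟩

/-- The same configuration with the coordinates exchanged. -/
def swap : Kl (X.rebase swapPl) where
  r1 := K.r2
  r2 := K.r1
  r1_sq := K.r2_sq
  r2_sq := K.r1_sq
  comm := K.comm.symm
  r1_act v := K.r2_act (swapPl v)
  r2_act v := K.r1_act (swapPl v)
  cover g hg := by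
    obtain ⟨w, hc⟩ := K.cover g hg
    refine ⟨(w.2, w.1), ?_⟩
    show g = X.e w ∨ g = X.e w * K.r2 ∨ g = X.e w * K.r1 ∨ g = X.e w * (K.r2 * K.r1)
    rw [← K.comm]
    tauto

theorem r1_ne : K.r1 ≠ 1 := fun h => by
  have h1 := K.r1_act (0, 1)
  rw [h, one_mul, inv_one, mul_one] at h1
  exact absurd (X.inj h1) (by decide)

theorem commute_axis : K.r1 * X.e (1, 0) = X.e (1, 0) * K.r1 :=
  mul_inv_eq_iff_eq_mul.1 (K.r1_act (1, 0))

theorem mem_cent_axis (g : G) :
    g * X.e (1, 0) = X.e (1, 0) * g ↔ ∃ w, g = X.e w ∨ g = X.e w * K.r1 := by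
  constructor
  · intro h
    have h1 : g * X.e (1, 0) * g⁻¹ = X.e (1, 0) := by rw [h, mul_inv_cancel_right]
    obtain ⟨w, ⟨e, -⟩ | ⟨e, -⟩ | ⟨-, ha⟩ | ⟨-, ha⟩⟩ := K.act_of_mem (X.loc (1, 0) (by decide) g h)
    · exact ⟨w, Or.inl e⟩
    · exact ⟨w, Or.inr e⟩
    · exact absurd (X.inj ((ha _).symm.trans h1)) (by decide)
    · exact absurd (X.inj ((ha _).symm.trans h1)) (by decide)
  · rintro ⟨w, rfl | rfl⟩
    · exact X.e_comm _ _
    · rw [mul_assoc, K.commute_axis, ← mul_assoc, X.e_comm, mul_assoc]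

theorem card_cent_diag [Finite G] : Nat.card (Subgroup.centralizer ({X.e (1, 1)} : Set G)) = 9 := by
  rw [show Subgroup.centralizer ({X.e (1, 1)} : Set G) = X.S from ?_, X.card_S]
  ext g
  rw [Subgroup.mem_centralizer_singleton_iff]
  constructor
  · intro h
    have h1 : g * X.e (1, 1) * g⁻¹ = X.e (1, 1) := by rw [h, mul_inv_cancel_right]
    obtain ⟨w, ⟨e, -⟩ | ⟨-, ha⟩ | ⟨-, ha⟩ | ⟨-, ha⟩⟩ := K.act_of_mem (X.loc (1, 1) (by decide) g h)
    · exact e ▸ X.e_mem w
    all_goals exact absurd (X.inj ((ha _).symm.trans h1)) (by decide)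
  · intro hg
    obtain ⟨w, rfl⟩ := (X.mem_iff g).1 hg
    exact X.e_comm _ _

theorem cards_axis [Finite G] :
    Nat.card (Subgroup.centralizer ({X.e (1, 0)} : Set G)) = 18 ∧
      Nat.card (Subgroup.centralizer ({X.e (1, 0) * K.r1} : Set G)) = 6 := by
  have htS : ∀ v, X.e v ≠ K.r1 := by
    intro v hv
    have h1 := K.r1_act (0, 1)
    rw [← hv, X.e_comm, mul_inv_cancel_right] at h1
    exact absurd (X.inj h1) (by decide)
  let F : Pl × Bool → G := fun x => if x.2 then X.e x.1 * K.r1 else X.e x.1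
  have hFinj : Function.Injective F := by
    rintro ⟨v, b⟩ ⟨w, c⟩ h
    cases b <;> cases c <;> simp only [F, Bool.false_eq_true, if_false, if_true] at h
    · rw [X.inj h]
    · exact absurd (by rw [X.e_add, h, ← mul_assoc, ← X.e_add, neg_add_cancel, X.e_zero, one_mul]) (htS (-w + v))
    · exact absurd (by rw [X.e_add, ← h, ← mul_assoc, ← X.e_add, neg_add_cancel, X.e_zero, one_mul]) (htS (-v + w))
    · rw [X.inj (mul_right_cancel h)]
  have hmem := K.mem_cent_axis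
  constructor
  · have : Nat.card (Pl × Bool) = 18 := by simp [Pl, Nat.card_eq_fintype_card]
    rw [← this]
    refine (Nat.card_congr (Equiv.ofBijective
      (fun x => (⟨F x, ?_⟩ : Subgroup.centralizer ({X.e (1, 0)} : Set G)))
      ⟨fun a b h => hFinj (congrArg Subtype.val h), ?_⟩)).symm
    · rw [Subgroup.mem_centralizer_singleton_iff, hmem]
      rcases x with ⟨v, b⟩
      cases b
      · exact ⟨v, Or.inl rfl⟩
      · exact ⟨v, Or.inr rfl⟩
    · rintro ⟨g, hg⟩
      rw [Subgroup.mem_centralizer_singleton_iff, hmem] at hg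
      obtain ⟨v, rfl | rfl⟩ := hg
      · exact ⟨(v, false), Subtype.ext rfl⟩
      · exact ⟨(v, true), Subtype.ext rfl⟩
  · have hcomm : Commute (X.e (1, 0)) K.r1 := K.commute_axis.symm
    have hp3 : (X.e (1, 0) * K.r1) ^ 3 = K.r1 := by
      rw [hcomm.mul_pow, X.e_cube, one_mul, pow_succ, pow_two, K.r1_sq, one_mul]
    have hp4 : (X.e (1, 0) * K.r1) ^ 4 = X.e (1, 0) := by
      rw [pow_succ, hp3, ← mul_assoc, K.commute_axis, mul_assoc, K.r1_sq, mul_one]
    have hfl : ∀ v : Pl, flip v = v ↔ ∃ i : ZMod 3, v = i • ((1, 0) : Pl) := by decide +kernel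
    have hmem2 : ∀ g : G, g * (X.e (1, 0) * K.r1) = X.e (1, 0) * K.r1 * g ↔
        ∃ (i : ZMod 3) (b : Bool), g = F (i • ((1, 0) : Pl), b) := by
      intro g
      constructor
      · intro h
        have hc : Commute g (X.e (1, 0) * K.r1) := h
        have h1 : g * X.e (1, 0) = X.e (1, 0) * g := by
          have := hc.pow_right 4; rwa [hp4] at this
        have h2 : g * K.r1 = K.r1 * g := by
          have := hc.pow_right 3; rwa [hp3] at this
        obtain ⟨v, rfl | rfl⟩ := (hmem g).1 h1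
        · obtain ⟨i, rfl⟩ := (hfl v).1 (X.inj (by rw [← K.r1_act, ← h2, mul_inv_cancel_right]))
          exact ⟨i, false, rfl⟩
        · have h3 : X.e v * K.r1 = K.r1 * X.e v :=
            mul_right_cancel (h2.trans (mul_assoc K.r1 (X.e v) K.r1).symm)
          obtain ⟨i, rfl⟩ := (hfl v).1 (X.inj (by rw [← K.r1_act, ← h3, mul_inv_cancel_right]))
          exact ⟨i, true, rfl⟩
      · rintro ⟨i, b, rfl⟩
        have hTi : flip (i • ((1, 0) : Pl)) = i • ((1, 0) : Pl) := (hfl _).2 ⟨i, rfl⟩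
        have hct : Commute (X.e (i • ((1, 0) : Pl))) K.r1 := by
          have := K.r1_act (i • ((1, 0) : Pl))
          rw [hTi, mul_inv_eq_iff_eq_mul] at this
          exact this.symm
        have hce : Commute (X.e (i • ((1, 0) : Pl))) (X.e (1, 0)) := X.e_comm _ _
        cases b
        · exact (hce.mul_right hct).eq
        · exact ((hce.mul_right hct).mul_left (hcomm.symm.mul_right (Commute.refl K.r1))).eq
    have h6 : Nat.card (ZMod 3 × Bool) = 6 := by simp [Nat.card_eq_fintype_card]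
    rw [← h6]
    refine (Nat.card_congr (Equiv.ofBijective
      (fun x => (⟨F (x.1 • ((1, 0) : Pl), x.2), ?_⟩ : Subgroup.centralizer ({X.e (1, 0) * K.r1} : Set G)))
      ⟨fun a b h => ?_, ?_⟩)).symm
    · rw [Subgroup.mem_centralizer_singleton_iff, hmem2]
      exact ⟨x.1, x.2, rfl⟩
    · have h' := hFinj (congrArg Subtype.val h)
      simp only [Prod.mk.injEq] at h'
      exact Prod.ext ((show ∀ i j : ZMod 3, i • ((1, 0) : Pl) = j • ((1, 0) : Pl) → i = j by decide) _ _ h'.1) h'.2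
    · rintro ⟨g, hg⟩
      rw [Subgroup.mem_centralizer_singleton_iff, hmem2] at hg
      obtain ⟨i, b, rfl⟩ := hg
      exact ⟨(i, b), rfl⟩

end Kl

theorem klein_basis : ∀ a b : Pl, (∀ v, lin a b (lin a b v) = v) → ¬ (∀ v, lin a b v = v) →
    ¬ (∀ v, lin a b v = -v) → ∃ p q : Pl, (∀ v, v ≠ 0 → lin p q v ≠ 0) ∧
      ∀ v, lin a b (lin p q v) = lin p q (flip v) := by
  decide +kernel

theorem commuting_flip : ∀ a b : Pl, (∀ v, lin a b (lin a b v) = v) →
    (∀ v, lin a b (flip v) = flip (lin a b v)) → ¬ (∀ v, lin a b v = v) →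
    ¬ (∀ v, lin a b v = flip v) → (∀ v, lin a b v = flop v) ∨ (∀ v, lin a b v = -v) := by
  have key : ∀ a b : Pl, (decide (∀ v, lin a b (lin a b v) = v) &&
      decide (∀ v, lin a b (flip v) = flip (lin a b v)) && !decide (∀ v, lin a b v = v) &&
      !decide (∀ v, lin a b v = flip v)) = true →
      (decide (∀ v, lin a b v = flop v) || decide (∀ v, lin a b v = -v)) = true := by
    decide +kernel
  intro a b h1 h2 h3 h4
  simpa only [Bool.or_eq_true, decide_eq_true_eq] using key a b (by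
    simp only [Bool.and_eq_true, Bool.not_eq_true', decide_eq_true_eq, decide_eq_false_iff_not]
    exact ⟨⟨⟨h1, h2⟩, h3⟩, h4⟩)

variable {G : Type u} [Group G] [Finite G]

/-- Adapted coordinates from four elements covering the normaliser. -/
theorem exists_kl (X : Ctx G) {a b : G} (ha : a * a = 1) (hb : b * b = 1) (hab : a * b = b * a)
    (haN : a ∈ Subgroup.normalizer (X.S : Set G)) (hbN : b ∈ Subgroup.normalizer (X.S : Set G))
    (hane : ¬ ∀ v, a * X.e v * a⁻¹ = X.e v) (hbne : ¬ ∀ v, b * X.e v * b⁻¹ = X.e v)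
    (habne : ¬ ∀ v, a * X.e v * a⁻¹ = b * X.e v * b⁻¹) (haneg : ¬ ∀ v, a * X.e v * a⁻¹ = X.e (-v))
    (hcov : ∀ g ∈ Subgroup.normalizer (X.S : Set G), ∃ w, g = X.e w ∨ g = X.e w * a ∨ g = X.e w * b ∨
      g = X.e w * (a * b)) :
    ∃ Y : Ctx G, Y.S = X.S ∧ Nonempty (Kl Y) := by
  obtain ⟨L, hL⟩ := X.exists_act haN
  have hL' : ∀ v, a * X.e v * a⁻¹ = X.e (lin (L (1, 0)) (L (0, 1)) v) := fun v => by rw [hL, eq_lin L]
  have hai : a⁻¹ = a := inv_eq_of_mul_eq_one_right ha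
  obtain ⟨p, q, hpq, hflip⟩ := klein_basis (L (1, 0)) (L (0, 1))
    (fun v => X.inj (by
      rw [← hL', ← hL', show a * (a * X.e v * a⁻¹) * a⁻¹ = (a * a) * X.e v * (a⁻¹ * a⁻¹) by group, hai, ha,
        one_mul, mul_one]))
    (fun h => hane fun v => by rw [hL', h])
    (fun h => haneg fun v => by rw [hL', h])
  set B := lin p q with hB
  have hBadd : ∀ v w, B (v + w) = B v + B w := fun v w => by
    simp only [hB, lin, Prod.fst_add, Prod.snd_add, add_smul]
    abel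
  let Be : Pl ≃+ Pl := AddEquiv.ofBijective (AddMonoidHom.mk' B hBadd) (Finite.injective_iff_bijective.1
    ((injective_iff_map_eq_zero (AddMonoidHom.mk' B hBadd)).2 fun v h => by
      by_contra hv
      exact hpq v hv h))
  have hBe : ∀ v, (X.rebase Be).e v = X.e (B v) := fun v => rfl
  have hY : ∀ v, ∃ w, X.e v = (X.rebase Be).e w := fun v => ⟨Be.symm v, by
    show X.e v = X.e (Be (Be.symm v)); rw [AddEquiv.apply_symm_apply]⟩
  have hr1 : ∀ v, a * (X.rebase Be).e v * a⁻¹ = (X.rebase Be).e (flip v) := fun v => by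
    rw [hBe, hBe, hL', hflip]
  obtain ⟨M, hM⟩ := (X.rebase Be).exists_act hbN
  have hM' : ∀ v, b * (X.rebase Be).e v * b⁻¹ = (X.rebase Be).e (lin (M (1, 0)) (M (0, 1)) v) :=
    fun v => by rw [hM, eq_lin M]
  have hbi : b⁻¹ = b := inv_eq_of_mul_eq_one_right hb
  have hall : ∀ (c : G) (T : Pl → Pl), (∀ v, c * (X.rebase Be).e v * c⁻¹ = (X.rebase Be).e (T v)) →
      ∀ (c' : G) (T' : Pl → Pl), (∀ v, c' * (X.rebase Be).e v * c'⁻¹ = (X.rebase Be).e (T' v)) →
      (∀ v, T v = T' v) → ∀ v, c * X.e v * c⁻¹ = c' * X.e v * c'⁻¹ := by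
    intro c T hc c' T' hc' h v
    obtain ⟨w, hw⟩ := hY v
    rw [hw, hc, hc', h]
  rcases commuting_flip (M (1, 0)) (M (0, 1))
    (fun v => (X.rebase Be).inj (by
      rw [← hM', ← hM', show ∀ x : G, b * (b * x * b⁻¹) * b⁻¹ = (b * b) * x * (b⁻¹ * b⁻¹) from
        fun x => by group, hbi, hb, one_mul, mul_one]))
    (fun v => (X.rebase Be).inj (by
      rw [← hM', ← hr1, ← hr1, ← hM',
        show ∀ x : G, b * (a * x * a⁻¹) * b⁻¹ = (b * a) * x * (b * a)⁻¹ from fun x => by group, ← hab]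
      group))
    (fun h => hbne fun v => by
      have := hall b _ hM' 1 id (fun v => by simp) h v
      simpa using this)
    (fun h => habne fun v => (hall b _ hM' a flip hr1 h v).symm) with hflop | hneg
  · refine ⟨X.rebase Be, rfl, ⟨{
      r1 := a, r2 := b, r1_sq := ha, r2_sq := hb, comm := hab, r1_act := hr1
      r2_act := fun v => by rw [hM', hflop]
      cover := fun g hg => ?_ }⟩⟩
    obtain ⟨w, hw⟩ := hcov g hg
    obtain ⟨w', hw'⟩ := hY w
    exact ⟨w', hw' ▸ hw⟩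
  · have hab2 : a * (a * b) = b := by rw [← mul_assoc, ha, one_mul]
    refine ⟨X.rebase Be, rfl, ⟨{
      r1 := a, r2 := a * b, r1_sq := ha
      r2_sq := by rw [show a * b * (a * b) = a * (b * a) * b by group, ← hab,
        show a * (a * b) * b = (a * a) * (b * b) by group, ha, hb, one_mul]
      comm := by rw [hab2, show a * b * a = a * (b * a) by group, ← hab, hab2]
      r1_act := hr1
      r2_act := fun v => by
        rw [show a * b * (X.rebase Be).e v * (a * b)⁻¹ = a * (b * (X.rebase Be).e v * b⁻¹) * a⁻¹ by group,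
          hM', hneg, hr1]
        congr 1
        simp [flip, flop]
      cover := fun g hg => ?_ }⟩⟩
    obtain ⟨w, hw⟩ := hcov g hg
    obtain ⟨w', hw'⟩ := hY w
    refine ⟨w', ?_⟩
    rw [hab2, ← hw']
    tauto

end Cfsg.Agent.Solv.ThreeLocal
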