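import Mathlib
import Cfsg.Agent.Lib.Solv.ThreeLocal.Klein
import Cfsg.Agent.Lib.Solv.ThreeLocal.Data
import Cfsg.Agent.Lib.Solv.ThreeLocal.Plane

/-!
# Multiplicities along an axis whose two lines are not fused
-/

set_option autoImplicit false

namespace Cfsg.Agent.Solv.ThreeLocal

open Cfsg Cfsg.Agent.Char
open scoped ComplexConjugate

universe u

variable {G : Type u} [Group G] [Finite G]

/-- An axis: a reflection `r` fixing `u` and inverting `w`, the fusion respecting the two lines. -/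
structure AxisV (X : Ctx G) where
  u : Pl
  w : Pl
  r : G
  r_sq : r * r = 1
  ru : r * X.e u = X.e u * r
  rw' : r * X.e w * r⁻¹ = X.e (-w)
  cu : ∀ i : ZMod 3, i ≠ 0 → IsConj (X.e u) (X.e (i • u))
  cw : ∀ j : ZMod 3, j ≠ 0 → IsConj (X.e w) (X.e (j • w))
  cd : ∀ i j : ZMod 3, i ≠ 0 → j ≠ 0 → IsConj (X.e (u + w)) (X.e (i • u + j • w))
  cz : IsConj (X.e u * r) (X.e (-u) * r)

set_option maxHeartbeats 1000000 in
/-- The multiplicities along an axis. -/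
theorem AxisV.data {X : Ctx G} (A : AxisV X) {χ : G → ℂ} (hχ : IsCharacter G χ) :
    ∃ ap am bp bm : ℕ,
      χ 1 + 2 * χ (X.e A.u) + 2 * χ (X.e A.w) + 4 * χ (X.e (A.u + A.w)) + (3 * χ A.r + 6 * χ (X.e A.u * A.r))
        = 18 * (ap : ℂ) ∧
      χ 1 + 2 * χ (X.e A.u) + 2 * χ (X.e A.w) + 4 * χ (X.e (A.u + A.w)) - (3 * χ A.r + 6 * χ (X.e A.u * A.r))
        = 18 * (am : ℂ) ∧
      χ 1 - χ (X.e A.u) + 2 * χ (X.e A.w) - 2 * χ (X.e (A.u + A.w)) + (3 * χ A.r - 3 * χ (X.e A.u * A.r))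
        = 18 * (bp : ℂ) ∧
      χ 1 - χ (X.e A.u) + 2 * χ (X.e A.w) - 2 * χ (X.e (A.u + A.w)) - (3 * χ A.r - 3 * χ (X.e A.u * A.r))
        = 18 * (bm : ℂ) := by
  classical
  obtain ⟨u, w, r, r_sq, ru, rw', cu, cw, cd, cz⟩ := A
  dsimp only
  have hclass : ∀ {a b : G}, IsConj a b → χ b = χ a := fun {a b} h => by
    obtain ⟨k, rfl⟩ := isConj_iff.1 h
    exact isClassFunction_character hχ a k
  have hrel : r * X.e w * r⁻¹ = (X.e w)⁻¹ := by rw [rw', X.e_neg]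
  have hcomm : ∀ (i : C3) (x : DihedralGroup 3), Commute (threeHom (X.e_cube u) i)
      (dihHom (X.e_cube w) r_sq hrel x) := by
    intro i x
    show Commute (X.e u ^ i.toAdd.val) _
    refine Commute.pow_left ?_ _
    have hw : Commute (X.e u) (X.e w) := X.e_comm u w
    have hr : Commute (X.e u) r := ru.symm
    rcases x with j | j
    · exact hw.pow_right _
    · exact hr.mul_right (hw.pow_right _)
  let f : C3 × DihedralGroup 3 →* G :=
    MonoidHom.noncommCoprod (threeHom (X.e_cube u)) (dihHom (X.e_cube w) r_sq hrel) hcomm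
  have hfr : ∀ i j : ZMod 3, f (Multiplicative.ofAdd i, .r j) = X.e (i • u + j • w) := fun i j => by
    rw [X.e_add, X.e_smul, X.e_smul]; rfl
  have hfs : ∀ i j : ZMod 3, χ (f (Multiplicative.ofAdd i, .sr j)) = χ (X.e (i • u) * r) := fun i j => by
    refine hclass (isConj_iff.2 ⟨X.e (j • w), ?_⟩)
    have e1 : X.e (j • w) * r = r * X.e (-(j • w)) := by
      have h1 : r * X.e (j • w) * r⁻¹ = X.e (-(j • w)) := by
        rw [X.e_smul, ← conj_pow, hrel, X.e_neg, X.e_smul, inv_pow]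
      rw [← h1, inv_eq_of_mul_eq_one_right r_sq, ← mul_assoc, ← mul_assoc, r_sq, one_mul]
    show X.e (j • w) * (X.e (i • u) * r) * (X.e (j • w))⁻¹ = X.e u ^ i.val * (r * X.e w ^ j.val)
    rw [← X.e_smul i u, ← X.e_smul j w, ← X.e_neg, ← mul_assoc, X.e_comm, mul_assoc (X.e (i • u)),
      e1, mul_assoc, mul_assoc, ← X.e_add]
    congr 3
    exact pl_neg_neg _
  have v01 : χ (X.e ((0 : ZMod 3) • u + (1 : ZMod 3) • w)) = χ (X.e w) := by simp
  have v02 : χ (X.e ((0 : ZMod 3) • u + (2 : ZMod 3) • w)) = χ (X.e w) :=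
    hclass (by simpa using cw 2 (by decide))
  have v10 : χ (X.e ((1 : ZMod 3) • u + (0 : ZMod 3) • w)) = χ (X.e u) := by simp
  have v20 : χ (X.e ((2 : ZMod 3) • u + (0 : ZMod 3) • w)) = χ (X.e u) :=
    hclass (by simpa using cu 2 (by decide))
  have v00 : χ (X.e ((0 : ZMod 3) • u + (0 : ZMod 3) • w)) = χ 1 := by simp [X.e_zero]
  have v11 := hclass (cd 1 1 (by decide) (by decide))
  have v12 := hclass (cd 1 2 (by decide) (by decide))
  have v21 := hclass (cd 2 1 (by decide) (by decide))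
  have v22 := hclass (cd 2 2 (by decide) (by decide))
  have s0 : χ (X.e ((0 : ZMod 3) • u) * r) = χ r := by rw [zero_smul, X.e_zero, one_mul]
  have s1 : χ (X.e ((1 : ZMod 3) • u) * r) = χ (X.e u * r) := by rw [one_smul]
  have s2 : χ (X.e ((2 : ZMod 3) • u) * r) = χ (X.e u * r) := by
    rw [pl_two u]
    exact hclass cz
  obtain ⟨ω, hω3, hω⟩ := exists_omega
  have hneg : ((-1 : ℂˣ)) * -1 = 1 := by simp
  let sgn : DihedralGroup 3 →* ℂˣ := dihHom (σ := (1 : ℂˣ)) (τ := -1) (one_pow 3) hneg (by simp)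
  let lam : C3 →* ℂˣ := threeHom hω3
  have hom : ∀ l : C3 × DihedralGroup 3 →* ℂˣ, ∃ m : ℕ,
      ∑ i : C3, ((χ (f (i, .r 0)) * (l (i, .r 0) : ℂ) + χ (f (i, .r 1)) * (l (i, .r 1) : ℂ) +
          χ (f (i, .r 2)) * (l (i, .r 2) : ℂ)) +
        (χ (f (i, .sr 0)) * (l (i, .sr 0) : ℂ) + χ (f (i, .sr 1)) * (l (i, .sr 1) : ℂ) +
          χ (f (i, .sr 2)) * (l (i, .sr 2) : ℂ))) = 18 * (m : ℂ) := fun l => by
    obtain ⟨m, hm⟩ := multiplicity hχ f l
    refine ⟨m, ?_⟩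
    rw [Fintype.sum_prod_type, show Nat.card (C3 × DihedralGroup 3) = 18 by
      rw [Nat.card_prod, DihedralGroup.nat_card]; simp [C3]] at hm
    rw [← show ((18 : ℕ) : ℂ) = 18 by norm_num, ← hm]
    exact Finset.sum_congr rfl fun i _ => (sum_dihedralThree fun y => χ (f (i, y)) * (l (i, y) : ℂ)).symm
  obtain ⟨ap, hap⟩ := hom 1
  obtain ⟨am, ham⟩ := hom (sgn.comp (MonoidHom.snd _ _))
  obtain ⟨bp, hbp⟩ := hom (lam.comp (MonoidHom.fst _ _))
  obtain ⟨bm, hbm⟩ := hom ((lam.comp (MonoidHom.fst _ _)) * (sgn.comp (MonoidHom.snd _ _)))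
  simp only [sum_threeCyclic, hfs, hfr, v00, v01, v02, v10, v20, v11, v12, v21, v22, s0, s1, s2,
    MonoidHom.one_apply, MonoidHom.mul_apply, MonoidHom.comp_apply, MonoidHom.coe_snd, MonoidHom.coe_fst,
    Units.val_one, Units.val_mul, sgn, lam, threeHom, dihHom, MonoidHom.coe_mk, OneHom.coe_mk,
    toAdd_ofAdd, ZMod.val_zero, show (1 : ZMod 3).val = 1 from rfl, show (2 : ZMod 3).val = 2 from rfl,
    pow_zero, pow_one, one_pow, mul_one, one_mul, Units.val_neg, Units.val_pow_eq_pow_val] at hap ham hbp hbm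
  have eap : χ 1 + 2 * χ (X.e u) + 2 * χ (X.e w) + 4 * χ (X.e (u + w)) + (3 * χ r + 6 * χ (X.e u * r))
      = 18 * (ap : ℂ) := by linear_combination hap
  have eam : χ 1 + 2 * χ (X.e u) + 2 * χ (X.e w) + 4 * χ (X.e (u + w)) - (3 * χ r + 6 * χ (X.e u * r))
      = 18 * (am : ℂ) := by linear_combination ham
  have ebp : χ 1 - χ (X.e u) + 2 * χ (X.e w) - 2 * χ (X.e (u + w)) + (3 * χ r - 3 * χ (X.e u * r))
      = 18 * (bp : ℂ) := by
    linear_combination hbp - (χ (X.e u) + 2 * χ (X.e (u + w)) + 3 * χ (X.e u * r)) * hω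
  have ebm : χ 1 - χ (X.e u) + 2 * χ (X.e w) - 2 * χ (X.e (u + w)) - (3 * χ r - 3 * χ (X.e u * r))
      = 18 * (bm : ℂ) := by
    linear_combination hbm - (χ (X.e u) + 2 * χ (X.e (u + w)) - 3 * χ (X.e u * r)) * hω
  exact ⟨ap, am, bp, bm, eap, eam, ebp, ebm⟩

/-- The axis of the first coordinate. -/
def Kl.axis {X : Ctx G} (K : Kl X) : AxisV X where
  u := (1, 0)
  w := (0, 1)
  r := K.r1
  r_sq := K.r1_sq
  ru := K.commute_axis
  rw' := K.r1_act (0, 1)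
  cu i hi := (K.isConj_iff_pat (by decide)).2
    ((show ∀ i : ZMod 3, i ≠ 0 → i • ((1, 0) : Pl) ≠ 0 ∧ pat (1, 0) = pat (i • ((1, 0) : Pl)) by
      decide +kernel) i hi)
  cw j hj := (K.isConj_iff_pat (by decide)).2
    ((show ∀ i : ZMod 3, i ≠ 0 → i • ((0, 1) : Pl) ≠ 0 ∧ pat (0, 1) = pat (i • ((0, 1) : Pl)) by
      decide +kernel) j hj)
  cd i j hi hj := (K.isConj_iff_pat (by decide)).2
    ((show ∀ i j : ZMod 3, i ≠ 0 → j ≠ 0 → i • ((1, 0) : Pl) + j • ((0, 1) : Pl) ≠ 0 ∧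
      pat (((1, 0) : Pl) + (0, 1)) = pat (i • ((1, 0) : Pl) + j • ((0, 1) : Pl)) by decide +kernel) i j hi hj)
  cz := isConj_iff.2 ⟨K.r1 * K.r2, by
    have h : K.r1 * K.r2 * K.r1 = K.r1 * (K.r1 * K.r2) := by rw [mul_assoc K.r1 K.r2, ← K.comm]
    calc K.r1 * K.r2 * (X.e (1, 0) * K.r1) * (K.r1 * K.r2)⁻¹
        = (K.r1 * K.r2 * X.e (1, 0) * (K.r1 * K.r2)⁻¹) * ((K.r1 * K.r2 * K.r1) * (K.r1 * K.r2)⁻¹) := by group
      _ = _ := by rw [K.r12_act, h, mul_inv_cancel_right]⟩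

end Cfsg.Agent.Solv.ThreeLocal
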