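import Mathlib
import Cfsg.Agent.Lib.Solv.ThreeLocal.KleinAxis
import Cfsg.Agent.Lib.Solv.ThreeLocal.Rows
import Cfsg.Agent.Lib.Solv.ThreeLocal.DihRows

/-!
# The rows of the characters on the classes met by a four-group automiser
-/

set_option autoImplicit false

namespace Cfsg.Agent.Solv.ThreeLocal

open Cfsg Cfsg.Agent.Char
open scoped ComplexConjugate

universe u

/-- The value on the first axis. -/
def vA (c : Vec) (d : ℤ) : ℤ := 3 * (c.1 + c.2.1) - 2 * d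

/-- The value on the second axis. -/
def vB (c : Vec) (d : ℤ) : ℤ := 3 * (c.2.2.1 + c.2.2.2) - 2 * d

/-- The Gram matrix of the four coordinates. -/
def gramKlein : Gram := (3, 3, 3, 3, 0, 1, 1, 1, 1, 0)

variable {G : Type u} [Group G] [Fintype G]

/-- The data of the characters. -/
structure KlData {X : Ctx G} (K : Kl X) where
  c : IrrCharacter G → Vec
  D : IrrCharacter G → ℤ
  valA : ∀ χ : IrrCharacter G, (χ : G → ℂ) (X.e (1, 0)) = (vA (c χ) (D χ) : ℂ)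
  valB : ∀ χ : IrrCharacter G, (χ : G → ℂ) (X.e (0, 1)) = (vB (c χ) (D χ) : ℂ)
  valD : ∀ χ : IrrCharacter G, (χ : G → ℂ) (X.e (1, 1)) = (D χ : ℂ)
  valh1 : ∀ χ : IrrCharacter G, (χ : G → ℂ) (X.e (1, 0) * K.r1) = (((c χ).1 - (c χ).2.1 : ℤ) : ℂ)
  valh2 : ∀ χ : IrrCharacter G,
    (χ : G → ℂ) (X.e (0, 1) * K.r2) = (((c χ).2.2.1 - (c χ).2.2.2 : ℤ) : ℂ)
  gram : ∑ χ, outer (c χ) = gramKlein
  cD0 : ∑ χ, D χ * (c χ).1 = 3
  cD1 : ∑ χ, D χ * (c χ).2.1 = 3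
  cD2 : ∑ χ, D χ * (c χ).2.2.1 = 3
  cD3 : ∑ χ, D χ * (c χ).2.2.2 = 3
  DD : ∑ χ, D χ * D χ = 9
  deg0 : ∑ χ : IrrCharacter G, (deg (χ : G → ℂ) : ℤ) * (c χ).1 = 0
  deg1 : ∑ χ : IrrCharacter G, (deg (χ : G → ℂ) : ℤ) * (c χ).2.1 = 0
  deg2 : ∑ χ : IrrCharacter G, (deg (χ : G → ℂ) : ℤ) * (c χ).2.2.1 = 0
  deg3 : ∑ χ : IrrCharacter G, (deg (χ : G → ℂ) : ℤ) * (c χ).2.2.2 = 0
  degD : ∑ χ : IrrCharacter G, (deg (χ : G → ℂ) : ℤ) * D χ = 0
  coefAAB : (Nat.card G : ℚ) * ∑ χ : IrrCharacter G,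
    ((vB (c χ) (D χ) * vA (c χ) (D χ) * vA (c χ) (D χ) : ℤ) : ℚ) / ((deg (χ : G → ℂ) : ℤ) : ℚ) = 0
  coefBBA : (Nat.card G : ℚ) * ∑ χ : IrrCharacter G,
    ((vA (c χ) (D χ) * vB (c χ) (D χ) * vB (c χ) (D χ) : ℤ) : ℚ) / ((deg (χ : G → ℂ) : ℤ) : ℚ) = 0
  coefAAD : (Nat.card G : ℚ) * ∑ χ : IrrCharacter G,
    ((D χ * vA (c χ) (D χ) * vA (c χ) (D χ) : ℤ) : ℚ) / ((deg (χ : G → ℂ) : ℤ) : ℚ) = 0
  coefBBD : (Nat.card G : ℚ) * ∑ χ : IrrCharacter G,
    ((D χ * vB (c χ) (D χ) * vB (c χ) (D χ) : ℤ) : ℚ) / ((deg (χ : G → ℂ) : ℤ) : ℚ) = 0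
  coefABD : (Nat.card G : ℚ) * ∑ χ : IrrCharacter G,
    ((D χ * vA (c χ) (D χ) * vB (c χ) (D χ) : ℤ) : ℚ) / ((deg (χ : G → ℂ) : ℤ) : ℚ) = 324
  coefDDA : (Nat.card G : ℚ) * ∑ χ : IrrCharacter G,
    ((vA (c χ) (D χ) * D χ * D χ : ℤ) : ℚ) / ((deg (χ : G → ℂ) : ℤ) : ℚ) = 162
  coefDDB : (Nat.card G : ℚ) * ∑ χ : IrrCharacter G,
    ((vB (c χ) (D χ) * D χ * D χ : ℤ) : ℚ) / ((deg (χ : G → ℂ) : ℤ) : ℚ) = 162

set_option maxHeartbeats 4000000 in
theorem Kl.data {X : Ctx G} (K : Kl X) : Nonempty (KlData K) := by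
  classical
  choose ap am bp bm hap ham hbp hbm using fun χ : IrrCharacter G => K.axis.data (irr_isCharacter χ.2)
  choose ap' am' bp' bm' hap' ham' hbp' hbm' using fun χ : IrrCharacter G =>
    K.swap.axis.data (irr_isCharacter χ.2)
  simp only [Kl.axis, Kl.swap, Ctx.rebase, swapPl_apply, Prod.mk_add_mk, add_zero, zero_add]
    at hap ham hbp hbm hap' ham' hbp' hbm'
  have hclass : ∀ (χ : IrrCharacter G) {v w : Pl}, v ≠ 0 → w ≠ 0 → pat v = pat w →
      (χ : G → ℂ) (X.e w) = (χ : G → ℂ) (X.e v) := by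
    intro χ v w hv hw h
    obtain ⟨k, hk⟩ := isConj_iff.1 ((K.isConj_iff_pat hv).2 ⟨hw, h⟩)
    rw [← hk]
    exact isClassFunction_character (irr_isCharacter χ.2) _ k
  have hreal : ∀ (χ : IrrCharacter G) (v : Pl), (χ : G → ℂ) (X.e (-v)) = (χ : G → ℂ) (X.e v) := by
    intro χ v
    rcases eq_or_ne v 0 with rfl | hv
    · rw [neg_zero]
    · exact hclass χ hv (neg_ne_zero.2 hv) ((show ∀ v : Pl, pat v = pat (-v) by decide +kernel) v)
  choose m0 b1 b2 b3 b4 hm0 h1 h2 h3 h4 using fun χ : IrrCharacter G =>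
    X.plane_data (irr_isCharacter χ.2) (hreal χ)
  have e12 : ∀ χ : IrrCharacter G, (χ : G → ℂ) (X.e (1, 2)) = (χ : G → ℂ) (X.e (1, 1)) := fun χ =>
    hclass χ (by decide) (by decide) (by decide)
  let c : IrrCharacter G → Vec := fun χ =>
    ((ap χ : ℤ) - bp χ, (am χ : ℤ) - bm χ, (ap' χ : ℤ) - bp' χ, (am' χ : ℤ) - bm' χ)
  let D : IrrCharacter G → ℤ := fun χ =>
    ((c χ).1 + (c χ).2.1 + (c χ).2.2.1 + (c χ).2.2.2) - ((m0 χ : ℤ) - b3 χ)
  have valD : ∀ χ : IrrCharacter G, (χ : G → ℂ) (X.e (1, 1)) = (D χ : ℂ) := by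
    intro χ
    have A := hm0 χ; have B := h3 χ
    rw [e12] at A B
    simp only [D, c]; push_cast
    linear_combination (1 / 18 : ℂ) * (hap χ - hbp χ + ham χ - hbm χ) +
      (1 / 18 : ℂ) * (hap' χ - hbp' χ + ham' χ - hbm' χ) - (1 / 9 : ℂ) * (A - B)
  have valA : ∀ χ : IrrCharacter G, (χ : G → ℂ) (X.e (1, 0)) = (vA (c χ) (D χ) : ℂ) := by
    intro χ
    simp only [vA]
    rw [Int.cast_sub, Int.cast_mul 2 (D χ), ← valD]
    simp only [c]; push_cast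
    linear_combination (1 / 6 : ℂ) * (hap χ - hbp χ + ham χ - hbm χ)
  have valB : ∀ χ : IrrCharacter G, (χ : G → ℂ) (X.e (0, 1)) = (vB (c χ) (D χ) : ℂ) := by
    intro χ
    simp only [vB]
    rw [Int.cast_sub, Int.cast_mul 2 (D χ), ← valD]
    simp only [c]; push_cast
    linear_combination (1 / 6 : ℂ) * (hap' χ - hbp' χ + ham' χ - hbm' χ)
  have valh1 : ∀ χ : IrrCharacter G,
      (χ : G → ℂ) (X.e (1, 0) * K.r1) = (((c χ).1 - (c χ).2.1 : ℤ) : ℂ) := by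
    intro χ
    simp only [c]; push_cast
    linear_combination (1 / 18 : ℂ) * (hap χ - hbp χ - ham χ + hbm χ)
  have valh2 : ∀ χ : IrrCharacter G,
      (χ : G → ℂ) (X.e (0, 1) * K.r2) = (((c χ).2.2.1 - (c χ).2.2.2 : ℤ) : ℂ) := by
    intro χ
    simp only [c]; push_cast
    linear_combination (1 / 18 : ℂ) * (hap' χ - hbp' χ - ham' χ + hbm' χ)
  let U : Fin 5 → IrrCharacter G → ℤ := ![fun χ => vA (c χ) (D χ), fun χ => vB (c χ) (D χ), D,
    fun χ => (c χ).1 - (c χ).2.1, fun χ => (c χ).2.2.1 - (c χ).2.2.2]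
  let g : Fin 5 → G := ![X.e (1, 0), X.e (0, 1), X.e (1, 1), X.e (1, 0) * K.r1, X.e (0, 1) * K.r2]
  have hg : ∀ k (χ : IrrCharacter G), (χ : G → ℂ) (g k) = (U k χ : ℂ) := by
    intro k χ
    fin_cases k
    exacts [valA χ, valB χ, valD χ, valh1 χ, valh2 χ]
  let cd : Fin 5 → ℕ := ![18, 18, 9, 6, 6]
  have hcB : Nat.card (Subgroup.centralizer ({X.e (0, 1)} : Set G)) = 18 ∧
      Nat.card (Subgroup.centralizer ({X.e (0, 1) * K.r2} : Set G)) = 6 := K.swap.cards_axis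
  have hcd : ∀ k, Nat.card (Subgroup.centralizer ({g k} : Set G)) = cd k := by
    intro k
    fin_cases k
    exacts [K.cards_axis.1, hcB.1, K.card_cent_diag, K.cards_axis.2, hcB.2]
  obtain ⟨p4, p3⟩ := pow_four_of_comm K.commute_axis (X.e_cube _) K.r1_sq
  obtain ⟨q4, q3⟩ := pow_four_of_comm (a := X.e (0, 1)) (t := K.r2) K.swap.commute_axis (X.e_cube _) K.r2_sq
  have hpat : ∀ {v w : Pl}, v ≠ 0 → pat v ≠ pat w → ¬ IsConj (X.e v) (X.e w) := fun hv h h' =>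
    h ((K.isConj_iff_pat hv).1 h').2
  have hpow : ∀ {x y : G} (n : ℕ), IsConj x y → IsConj (x ^ n) (y ^ n) := fun {x y} n h => by
    obtain ⟨k, hk⟩ := isConj_iff.1 h
    exact isConj_iff.2 ⟨k, by rw [← hk, conj_pow]⟩
  have hr1 : K.r1 ≠ 1 := K.r1_ne
  have hr2 : K.r2 ≠ 1 := K.swap.r1_ne
  have hsep : ∀ (p : Pl) (x t : G), x ^ 3 = t → t ≠ 1 → ¬ IsConj (X.e p) x := fun p x t hx ht h => by
    have := hpow 3 h
    rw [X.e_cube, hx] at this
    exact ht (isConj_one_right.1 this)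
  have hne34 : ¬ IsConj (X.e (1, 0) * K.r1) (X.e (0, 1) * K.r2) := fun h => by
    have h' := hpow 4 h
    rw [p4, q4] at h'
    exact hpat (by decide) (by decide) h'
  have hIs : ∀ k l, IsConj (g k) (g l) ↔ k = l := by
    intro k l
    refine ⟨fun h => ?_, fun h => h ▸ IsConj.refl _⟩
    fin_cases k <;> fin_cases l <;> first
      | rfl
      | exact (hpat (v := (1, 0)) (w := (0, 1)) (by decide) (by decide) h).elim
      | exact (hpat (v := (1, 0)) (w := (1, 1)) (by decide) (by decide) h).elim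
      | exact (hpat (v := (0, 1)) (w := (1, 1)) (by decide) (by decide) h).elim
      | exact (hpat (v := (1, 0)) (w := (0, 1)) (by decide) (by decide) h.symm).elim
      | exact (hpat (v := (1, 0)) (w := (1, 1)) (by decide) (by decide) h.symm).elim
      | exact (hpat (v := (0, 1)) (w := (1, 1)) (by decide) (by decide) h.symm).elim
      | exact (hsep _ _ _ p3 hr1 h).elim
      | exact (hsep _ _ _ q3 hr2 h).elim
      | exact (hsep _ _ _ p3 hr1 h.symm).elim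
      | exact (hsep _ _ _ q3 hr2 h.symm).elim
      | exact (hne34 h).elim
      | exact (hne34 h.symm).elim
  have hO : ∀ k l, ∑ χ, U k χ * U l χ = if k = l then (cd l : ℤ) else 0 := by
    intro k l
    rw [int_orth (g k) (g l) (U k) (U l) (hg k) (hg l), hcd]
    simp only [hIs]
  have hg1 : ∀ k, g k ≠ 1 := by
    intro k h
    fin_cases k
    · exact absurd (X.e_eq_one_iff.1 h) (by decide)
    · exact absurd (X.e_eq_one_iff.1 h) (by decide)
    · exact absurd (X.e_eq_one_iff.1 h) (by decide)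
    · exact hr1 (by rw [← p3, show X.e (1, 0) * K.r1 = 1 from h, one_pow])
    · exact hr2 (by rw [← q3, show X.e (0, 1) * K.r2 = 1 from h, one_pow])
  have hD : ∀ k, ∑ χ : IrrCharacter G, (deg (χ : G → ℂ) : ℤ) * U k χ = 0 := fun k =>
    deg_orth (hg1 k) _ (hg k)
  let C : Fin 5 → IrrCharacter G → ℤ := ![fun χ => (c χ).1, fun χ => (c χ).2.1, fun χ => (c χ).2.2.1,
    fun χ => (c χ).2.2.2, D]
  let E : Fin 5 → Fin 5 → ℤ :=
    ![![1, 0, 2, 3, 0], ![1, 0, 2, -3, 0], ![0, 1, 2, 0, 3], ![0, 1, 2, 0, -3], ![0, 0, 6, 0, 0]]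
  have hC : ∀ j (χ : IrrCharacter G), 6 * C j χ =
      E j 0 * U 0 χ + E j 1 * U 1 χ + E j 2 * U 2 χ + E j 3 * U 3 χ + E j 4 * U 4 χ := by
    intro j χ
    fin_cases j <;> simp [C, E, U, vA, vB] <;> ring
  have hCC : ∀ i j, 36 * ∑ χ, C i χ * C j χ =
      18 * (E i 0 * E j 0) + 18 * (E i 1 * E j 1) + 9 * (E i 2 * E j 2) + 6 * (E i 3 * E j 3) +
        6 * (E i 4 * E j 4) := by
    intro i j
    have : 36 * ∑ χ, C i χ * C j χ = ∑ χ,
        (E i 0 * U 0 χ + E i 1 * U 1 χ + E i 2 * U 2 χ + E i 3 * U 3 χ + E i 4 * U 4 χ) *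
        (E j 0 * U 0 χ + E j 1 * U 1 χ + E j 2 * U 2 χ + E j 3 * U 3 χ + E j 4 * U 4 χ) := by
      rw [Finset.mul_sum]
      exact Finset.sum_congr rfl fun χ _ => by rw [← hC, ← hC]; ring
    rw [this]
    have hmul : ∀ (x y : ℤ) k l, ∑ χ, x * U k χ * (y * U l χ) = x * y * if k = l then (cd l : ℤ) else 0 := by
      intro x y k l
      rw [← hO, Finset.mul_sum]
      exact Finset.sum_congr rfl fun χ _ => by ring
    simp only [add_mul, mul_add, Finset.sum_add_distrib, hmul, cd]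
    simp
    ring
  have hDC : ∀ j, ∑ χ : IrrCharacter G, (deg (χ : G → ℂ) : ℤ) * C j χ = 0 := by
    intro j
    have : 6 * ∑ χ : IrrCharacter G, (deg (χ : G → ℂ) : ℤ) * C j χ =
        ∑ χ : IrrCharacter G, (E j 0 * ((deg (χ : G → ℂ) : ℤ) * U 0 χ) +
          E j 1 * ((deg (χ : G → ℂ) : ℤ) * U 1 χ) +
          E j 2 * ((deg (χ : G → ℂ) : ℤ) * U 2 χ) + E j 3 * ((deg (χ : G → ℂ) : ℤ) * U 3 χ) +
          E j 4 * ((deg (χ : G → ℂ) : ℤ) * U 4 χ)) := by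
      rw [Finset.mul_sum]
      refine Finset.sum_congr rfl fun χ _ => ?_
      linear_combination (deg (χ : G → ℂ) : ℤ) * hC j χ
    simp only [Finset.sum_add_distrib, ← Finset.mul_sum, hD] at this
    omega
  have gram : ∑ χ, outer (c χ) = gramKlein := by
    have h00 := hCC 0 0; have h11 := hCC 1 1; have h22 := hCC 2 2; have h33 := hCC 3 3
    have h01 := hCC 0 1; have h02 := hCC 0 2; have h03 := hCC 0 3
    have h12 := hCC 1 2; have h13 := hCC 1 3; have h23 := hCC 2 3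
    simp [C, E] at h00 h11 h22 h33 h01 h02 h03 h12 h13 h23
    rw [sum_outer, gramKlein]
    simp only [Prod.mk.injEq]
    refine ⟨?_, ?_, ?_, ?_, ?_, ?_, ?_, ?_, ?_, ?_⟩ <;> omega
  have k0 := hCC 4 0; have k1 := hCC 4 1; have k2 := hCC 4 2; have k3 := hCC 4 3; have k4 := hCC 4 4
  simp [C, E] at k0 k1 k2 k3 k4
  have hcoef : ∀ (p q z : Pl) {a b d : IrrCharacter G → ℤ} (n : ℕ), z ≠ 0 → p ≠ 0 → q ≠ 0 →
      pat p ≠ pat q ∨ pat (-p) ≠ pat z →
      (Finset.univ.filter fun v : Pl =>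
        (v ≠ 0 ∧ pat p = pat v) ∧ (z - v ≠ 0 ∧ pat q = pat (z - v))).card = n →
      (∀ χ : IrrCharacter G, (χ : G → ℂ) (X.e p) = (a χ : ℂ)) →
      (∀ χ : IrrCharacter G, (χ : G → ℂ) (X.e q) = (b χ : ℂ)) →
      (∀ χ : IrrCharacter G, (χ : G → ℂ) (X.e z) = (d χ : ℂ)) →
      (Nat.card G : ℚ) * ∑ χ : IrrCharacter G,
          ((d χ * a χ * b χ : ℤ) : ℚ) / ((deg (χ : G → ℂ) : ℤ) : ℚ) =
        ((n * (Nat.card (Subgroup.centralizer ({X.e p} : Set G)) *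
          Nat.card (Subgroup.centralizer ({X.e q} : Set G))) : ℕ) : ℚ) := by
    intro p q z a b d n hz hp hq hor hn ha hb hd
    rw [← hn]
    refine X.coef_rat hz (fun h => ?_)
      (fun v => (v ≠ 0 ∧ pat p = pat v) ∧ (z - v ≠ 0 ∧ pat q = pat (z - v)))
      (fun v => and_congr (K.isConj_iff_pat hp).symm (K.isConj_iff_pat hq).symm) ha hb hd
    rcases hor with ho | ho
    · exact hpat hp ho h.1
    · exact hpat (neg_ne_zero.2 hp) ho h.2
  refine ⟨{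
    c := c, D := D, valA := valA, valB := valB, valD := valD, valh1 := valh1, valh2 := valh2
    gram := gram, cD0 := by omega, cD1 := by omega, cD2 := by omega, cD3 := by omega, DD := by omega
    deg0 := hDC 0, deg1 := hDC 1, deg2 := hDC 2, deg3 := hDC 3, degD := hDC 4
    coefAAB := ?_, coefBBA := ?_, coefAAD := ?_, coefBBD := ?_, coefABD := ?_, coefDDA := ?_
    coefDDB := ?_ }⟩
  · rw [hcoef (1, 0) (1, 0) (0, 1) 0 (by decide) (by decide) (by decide) (by decide) (by decide) valA valA valB]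
    simp
  · rw [hcoef (0, 1) (0, 1) (1, 0) 0 (by decide) (by decide) (by decide) (by decide) (by decide) valB valB valA]
    simp
  · rw [hcoef (1, 0) (1, 0) (1, 1) 0 (by decide) (by decide) (by decide) (by decide) (by decide) valA valA valD]
    simp
  · rw [hcoef (0, 1) (0, 1) (1, 1) 0 (by decide) (by decide) (by decide) (by decide) (by decide) valB valB valD]
    simp
  · rw [hcoef (1, 0) (0, 1) (1, 1) 1 (by decide) (by decide) (by decide) (by decide) (by decide) valA valB valD,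
      K.cards_axis.1, hcB.1]
    norm_num
  · rw [hcoef (1, 1) (1, 1) (1, 0) 2 (by decide) (by decide) (by decide) (by decide) (by decide) valD valD valA,
      K.card_cent_diag]
    norm_num
  · rw [hcoef (1, 1) (1, 1) (0, 1) 2 (by decide) (by decide) (by decide) (by decide) (by decide) valD valD valB,
      K.card_cent_diag]
    norm_num

end Cfsg.Agent.Solv.ThreeLocal
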