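import Mathlib
import Cfsg.Agent.Lib.Solv.ThreeLocal.KleinData
import Cfsg.Agent.Lib.Solv.ThreeLocal.DihSimple
import Cfsg.Agent.Lib.Solv.ThreeLocal.Top

/-!
# A four-group automiser forces a normal plane
-/

set_option autoImplicit false
set_option linter.unusedSimpArgs false

namespace Cfsg.Agent.Solv.ThreeLocal

open Cfsg Cfsg.Agent.Char
open scoped ComplexConjugate

universe u

/-- The residual Gram matrix of the four-group case. -/
def gramKleinRest : Gram := (2, 3, 2, 3, 0, 0, 1, 1, 1, 0)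

/-- The three decompositions in the four-group case. -/
def confKlein : List (List Vec) :=
  [[(0, 1, 0, 1), (0, 1, 1, 0), (1, 0, 0, 1), (0, 0, 0, 1), (0, 0, 1, 0), (0, 1, 0, 0), (1, 0, 0, 0)],
   [(1, 1, 0, 1), (0, 1, 1, 0), (1, -1, 0, 0), (0, 0, 0, 1), (0, 0, 0, 1), (0, 0, 1, 0)],
   [(0, 1, 1, 1), (0, 0, 1, -1), (1, 0, 0, 1), (0, 1, 0, 0), (0, 1, 0, 0), (1, 0, 0, 0)]]

theorem classify_klein {M : Multiset Vec} (hM : ∀ v ∈ M, v ∈ can) (hs : gramSum M = gramKleinRest) :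
    ∃ l ∈ confKlein, M = ↑l := by
  obtain ⟨l, hl, hleaf⟩ := search_sound (fun l => decide (l ∈ confKlein)) can gramKleinRest []
    (fun v hv => hv) (by decide +kernel) (by simp [Below, gramKleinRest]) M hM hs
  exact ⟨l, by simpa using hleaf, hl⟩

theorem klein_first {a b c d4 d5 d6 d7 Q : ℤ} (hQ0 : 0 ≤ Q)
    (h0 : c + d7 = 2) (h1 : a + b + d6 = 3) (h2 : b + d5 = 2) (h3 : a + c + d4 = 3)
    (hQ : a ^ 2 + b ^ 2 + c ^ 2 + d4 ^ 2 + d5 ^ 2 + d6 ^ 2 + d7 ^ 2 + Q = 8) :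
    (a = 2 ∧ b = 1 ∧ c = 1 ∧ d4 = 0 ∧ d5 = 1 ∧ d6 = 0 ∧ d7 = 1 ∧ Q = 0) ∨
      (a = 1 ∧ b = 1 ∧ c = 2 ∧ d4 = 0 ∧ d5 = 1 ∧ d6 = 1 ∧ d7 = 0 ∧ Q = 0) ∨
      (a = 1 ∧ b = 2 ∧ c = 1 ∧ d4 = 1 ∧ d5 = 0 ∧ d6 = 0 ∧ d7 = 1 ∧ Q = 0) ∨
      (a = 1 ∧ b = 1 ∧ c = 1 ∧ d4 = 1 ∧ d5 = 1 ∧ d6 = 1 ∧ d7 = 1 ∧ Q = 1) := by
  obtain rfl : d7 = 2 - c := by omega
  obtain rfl : d6 = 3 - a - b := by omega
  obtain rfl : d5 = 2 - b := by omega
  obtain rfl : d4 = 3 - a - c := by omega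
  have ha : -2 ≤ a ∧ a ≤ 2 := by
    constructor <;> nlinarith [sq_nonneg b, sq_nonneg c, sq_nonneg (3 - a - c), sq_nonneg (3 - a - b),
      sq_nonneg (2 - b), sq_nonneg (2 - c)]
  have hb : -2 ≤ b ∧ b ≤ 2 := by
    constructor <;> nlinarith [sq_nonneg a, sq_nonneg c, sq_nonneg (3 - a - c), sq_nonneg (3 - a - b),
      sq_nonneg (2 - b), sq_nonneg (2 - c)]
  have hc : -2 ≤ c ∧ c ≤ 2 := by
    constructor <;> nlinarith [sq_nonneg a, sq_nonneg b, sq_nonneg (3 - a - c), sq_nonneg (3 - a - b),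
      sq_nonneg (2 - b), sq_nonneg (2 - c)]
  obtain ⟨ha1, ha2⟩ := ha
  obtain ⟨hb1, hb2⟩ := hb
  obtain ⟨hc1, hc2⟩ := hc
  interval_cases a <;> interval_cases b <;> interval_cases c <;> norm_num at hQ ⊢ <;> omega

theorem klein_second {a b c d4 d5 d6 Q : ℤ} (hQ0 : 0 ≤ Q)
    (h0 : a + c = 2) (h1 : a + b - c = 3) (h2 : b + d6 = 2) (h3 : a + d4 + d5 = 3)
    (hQ : a ^ 2 + b ^ 2 + c ^ 2 + d4 ^ 2 + d5 ^ 2 + d6 ^ 2 + Q = 8) :
    a = 2 ∧ b = 1 ∧ c = 0 ∧ (d4 = 0 ∧ d5 = 1 ∨ d4 = 1 ∧ d5 = 0) ∧ d6 = 1 := by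
  obtain rfl : c = 2 - a := by omega
  obtain rfl : b = 5 - 2 * a := by omega
  obtain rfl : d6 = 2 - (5 - 2 * a) := by omega
  obtain rfl : d5 = 3 - a - d4 := by omega
  have ha : 0 ≤ a ∧ a ≤ 3 := by constructor <;> nlinarith [sq_nonneg d4, sq_nonneg (3 - a - d4)]
  have hd : -2 ≤ d4 ∧ d4 ≤ 3 := by
    constructor <;> nlinarith [sq_nonneg a, sq_nonneg (3 - a - d4), sq_nonneg (5 - 2 * a)]
  obtain ⟨ha1, ha2⟩ := ha
  obtain ⟨hd1, hd2⟩ := hd
  interval_cases a <;> interval_cases d4 <;> norm_num at hQ ⊢ <;> omega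

variable {G : Type u} [Group G] [Fintype G] {X : Ctx G} {K : Kl X}

/-- The term of a row in a coefficient, through the canonical vector and the signed degree. -/
theorem klein_terms (Q : KlData K) (i : IrrCharacter G) {t : Vec} (h : canOf (Q.c i) = t) :
    ∃ d δ : ℤ, δ = sgnOf (Q.c i) * (deg (i : G → ℂ) : ℤ) ∧ Q.D i = sgnOf (Q.c i) * d ∧
      Q.D i * (Q.c i).1 = d * t.1 ∧ Q.D i * (Q.c i).2.1 = d * t.2.1 ∧
      Q.D i * (Q.c i).2.2.1 = d * t.2.2.1 ∧ Q.D i * (Q.c i).2.2.2 = d * t.2.2.2 ∧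
      Q.D i * Q.D i = d ^ 2 ∧
      (deg (i : G → ℂ) : ℤ) * (Q.c i).1 = δ * t.1 ∧ (deg (i : G → ℂ) : ℤ) * (Q.c i).2.1 = δ * t.2.1 ∧
      (deg (i : G → ℂ) : ℤ) * (Q.c i).2.2.1 = δ * t.2.2.1 ∧
      (deg (i : G → ℂ) : ℤ) * (Q.c i).2.2.2 = δ * t.2.2.2 ∧
      (deg (i : G → ℂ) : ℤ) * Q.D i = δ * d ∧
      ∀ f : Vec → ℤ → ℤ, (∀ σ v e, σ = 1 ∨ σ = -1 → f (σ • v) (σ * e) = σ * f v e) →
        ((f (Q.c i) (Q.D i) : ℤ) : ℚ) / ((deg (i : G → ℂ) : ℤ) : ℚ) =
          (f t d : ℚ) * ((δ : ℚ))⁻¹ := by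
  have hv := vec_eq h
  have hσ := sgnOf_cases (Q.c i)
  generalize sgnOf (Q.c i) = σ at hv hσ ⊢
  have hσ2 : σ * σ = 1 := by rcases hσ with rfl | rfl <;> rfl
  refine ⟨σ * Q.D i, σ * (deg (i : G → ℂ) : ℤ), rfl, by rw [← mul_assoc, hσ2, one_mul], ?_⟩
  rw [hv]
  refine ⟨?_, ?_, ?_, ?_, ?_, ?_, ?_, ?_, ?_, ?_, ?_⟩
  · ring
  · ring
  · ring
  · ring
  · rw [mul_pow, pow_two σ, hσ2, one_mul, pow_two]
  · ring
  · ring
  · ring
  · ring
  · linear_combination (-((deg (i : G → ℂ) : ℤ) * Q.D i)) * hσ2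
  · intro f hf
    have h1 := hf σ t (σ * Q.D i) hσ
    rw [← mul_assoc, hσ2, one_mul] at h1
    change ((f (σ • t) (Q.D i) : ℤ) : ℚ) / _ = _
    rw [h1]
    rcases hσ with rfl | rfl <;> push_cast <;> rw [mul_inv, div_eq_mul_inv] <;> ring

theorem cubic_smul (σ : ℤ) (v : Vec) (e : ℤ) (h : σ = 1 ∨ σ = -1) :
    vA (σ • v) (σ * e) = σ * vA v e ∧ vB (σ • v) (σ * e) = σ * vB v e ∧ σ * σ = 1 := by
  obtain ⟨a, b, c, d⟩ := v
  rcases h with rfl | rfl <;> refine ⟨?_, ?_, rfl⟩ <;> simp [vA, vB, Prod.smul_mk] <;> ring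

set_option maxHeartbeats 4000000 in
/-- Two linear characters separating the three involutions. -/
theorem Kl.exists_linear (K : Kl X) : ∃ i j : IrrCharacter G,
    (i : G → ℂ) 1 = 1 ∧ (j : G → ℂ) 1 = 1 ∧
    (i : G → ℂ) (X.e (1, 0) * K.r1) = -1 ∧ (i : G → ℂ) (X.e (0, 1) * K.r2) = 1 ∧
    (j : G → ℂ) (X.e (1, 0) * K.r1) = 1 ∧ (j : G → ℂ) (X.e (0, 1) * K.r2) = -1 := by
  classical
  obtain ⟨Q⟩ := K.data
  have hone : Q.c (one : IrrCharacter G) = (1, 0, 1, 0) ∧ Q.D (one : IrrCharacter G) = 1 := by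
    have k1 := Q.valA (one : IrrCharacter G)
    have k2 := Q.valB (one : IrrCharacter G)
    have k3 := Q.valh1 (one : IrrCharacter G)
    have k4 := Q.valh2 (one : IrrCharacter G)
    have k5 := Q.valD (one : IrrCharacter G)
    rw [one_apply] at k1 k2 k3 k4 k5
    have n1 : vA (Q.c (one : IrrCharacter G)) (Q.D (one : IrrCharacter G)) = 1 := by exact_mod_cast k1.symm
    have n2 : vB (Q.c (one : IrrCharacter G)) (Q.D (one : IrrCharacter G)) = 1 := by exact_mod_cast k2.symm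
    have n3 : (Q.c (one : IrrCharacter G)).1 - (Q.c (one : IrrCharacter G)).2.1 = 1 := by
      exact_mod_cast k3.symm
    have n4 : (Q.c (one : IrrCharacter G)).2.2.1 - (Q.c (one : IrrCharacter G)).2.2.2 = 1 := by
      exact_mod_cast k4.symm
    have n5 : Q.D (one : IrrCharacter G) = 1 := by exact_mod_cast k5.symm
    rw [n5] at n1 n2
    refine ⟨?_, n5⟩
    generalize Q.c (one : IrrCharacter G) = v at n1 n2 n3 n4
    obtain ⟨x, y, z, w⟩ := v
    simp only [vA, vB] at n1 n2 n3 n4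
    simp only [Prod.mk.injEq]
    omega
  obtain ⟨hone, hone'⟩ := hone
  set s := (Finset.univ : Finset (IrrCharacter G)).erase one with hs
  have hgram : ∑ χ ∈ s, outer (Q.c χ) = gramKleinRest := by
    have h := Finset.add_sum_erase (Finset.univ : Finset (IrrCharacter G)) (fun χ => outer (Q.c χ))
      (Finset.mem_univ one)
    rw [← hs, Q.gram] at h
    simp only [hone] at h
    rw [← eq_sub_iff_add_eq'] at h
    rw [h]
    rfl
  obtain ⟨hmem, hsum⟩ := rows s Q.c gramKleinRest hgram (by simp [gramKleinRest, Tight])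
  obtain ⟨l, hl, hM⟩ := classify_klein hmem hsum
  obtain ⟨li, hmap, hli, hF⟩ := named_rows s Q.c l hM
  set R := s.filter fun χ => Q.c χ = 0 with hR
  have hsplit : ∀ {M : Type} [AddCommMonoid M] (F : IrrCharacter G → M),
      ∑ χ, F χ = F one + ((li.map F).sum + ∑ χ ∈ R, F χ) := by
    intro M _ F
    rw [← Finset.add_sum_erase _ F (Finset.mem_univ one), ← hs]
    congr 1
    rw [hR, ← Finset.sum_filter_add_sum_filter_not s (fun χ => Q.c χ = 0) F, add_comm]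
    congr 1
    have e1 : ∑ χ ∈ s.filter (fun χ => ¬ Q.c χ = 0), F χ =
        ∑ χ ∈ s, (if Q.c χ = 0 then 0 else F χ) := by
      rw [Finset.sum_filter]
      exact Finset.sum_congr rfl fun χ _ => ite_not _ _ _
    rw [e1, hF (fun χ => if Q.c χ = 0 then 0 else F χ) (fun i _ h => if_pos h)]
    exact congrArg List.sum (List.map_congr_left fun i hi => if_neg (hli i hi).2)
  -- the sums over the rows vanishing on the coordinates
  have hR0 : ∀ χ ∈ R, Q.c χ = (0, 0, 0, 0) := fun χ hχ => (Finset.mem_filter.1 hχ).2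
  set Q2 : ℤ := ∑ χ ∈ R, Q.D χ * Q.D χ with hQ2
  set W : ℤ := ∑ χ ∈ R, (deg (χ : G → ℂ) : ℤ) * Q.D χ with hW
  set Z : ℚ := ∑ χ ∈ R, ((Q.D χ * Q.D χ * Q.D χ : ℤ) : ℚ) / ((deg (χ : G → ℂ) : ℤ) : ℚ) with hZ
  have hQ20 : 0 ≤ Q2 := Finset.sum_nonneg fun χ _ => mul_self_nonneg _
  have hWZ : Q2 = 1 → (W : ℚ) * Z = 1 := by
    intro h1
    obtain ⟨χ, hχ, hne⟩ : ∃ χ ∈ R, Q.D χ * Q.D χ ≠ 0 := by
      by_contra hcon
      push Not at hcon
      rw [hQ2, Finset.sum_eq_zero hcon] at h1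
      exact zero_ne_one h1
    have hsq : Q.D χ * Q.D χ = 1 := by
      have h2 : Q.D χ * Q.D χ ≤ 1 := h1 ▸ Finset.single_le_sum (f := fun χ => Q.D χ * Q.D χ)
        (fun ψ _ => mul_self_nonneg _) hχ
      have := mul_self_nonneg (Q.D χ)
      omega
    have hzero : ∀ ψ ∈ R, ψ ≠ χ → Q.D ψ = 0 := by
      intro ψ hψ hne'
      have h2 : Q.D χ * Q.D χ + Q.D ψ * Q.D ψ ≤ 1 := by
        rw [← Finset.sum_pair (f := fun χ => Q.D χ * Q.D χ) hne'.symm, ← h1]
        exact Finset.sum_le_sum_of_subset_of_nonneg (by simp [Finset.insert_subset_iff, hχ, hψ])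
          fun ω _ _ => mul_self_nonneg _
      exact mul_self_eq_zero.1 (by have := mul_self_nonneg (Q.D ψ); omega)
    rw [hW, hZ, Finset.sum_eq_single_of_mem χ hχ (fun ψ hψ h => by rw [hzero ψ hψ h, mul_zero]),
      Finset.sum_eq_single_of_mem χ hχ (fun ψ hψ h => by rw [hzero ψ hψ h]; simp)]
    have hd0 : (deg (χ : G → ℂ) : ℚ) ≠ 0 := Nat.cast_ne_zero.2 (deg_pos χ.2).ne'
    rw [hsq, one_mul]
    push_cast
    have h4 : ((Q.D χ : ℤ) : ℚ) * (Q.D χ : ℚ) = 1 := by exact_mod_cast hsq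
    field_simp
    linear_combination (norm := (push_cast; ring_nf)) h4
  have hZ0 : Q2 = 0 → Z = 0 := by
    intro h1
    rw [hZ]
    refine Finset.sum_eq_zero fun χ hχ => ?_
    have h2 := (Finset.sum_eq_zero_iff_of_nonneg fun χ _ => mul_self_nonneg (Q.D χ)).1 (hQ2 ▸ h1) χ hχ
    rw [h2, zero_mul, Int.cast_zero, zero_div]
  have hterm : ∀ f : Vec → ℤ → ℤ, ∀ k : ℤ, (∀ e, f (0, 0, 0, 0) e = k * (e * e * e)) →
      ∑ χ ∈ R, ((f (Q.c χ) (Q.D χ) : ℤ) : ℚ) / ((deg (χ : G → ℂ) : ℤ) : ℚ) = (k : ℚ) * Z := by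
    intro f k hf
    rw [hZ, Finset.mul_sum]
    refine Finset.sum_congr rfl fun χ hχ => ?_
    rw [hR0 χ hχ, hf]
    push_cast
    ring
  have r1 : ∑ χ ∈ R, ((vB (Q.c χ) (Q.D χ) * vA (Q.c χ) (Q.D χ) * vA (Q.c χ) (Q.D χ) : ℤ) : ℚ) /
      ((deg (χ : G → ℂ) : ℤ) : ℚ) = -8 * Z := by
    rw [hterm (fun v e => vB v e * vA v e * vA v e) (-8) (fun e => by simp only [vA, vB]; ring)]
    norm_num
  have r2 : ∑ χ ∈ R, ((vA (Q.c χ) (Q.D χ) * vB (Q.c χ) (Q.D χ) * vB (Q.c χ) (Q.D χ) : ℤ) : ℚ) /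
      ((deg (χ : G → ℂ) : ℤ) : ℚ) = -8 * Z := by
    rw [hterm (fun v e => vA v e * vB v e * vB v e) (-8) (fun e => by simp only [vA, vB]; ring)]
    norm_num
  have r3 : ∑ χ ∈ R, ((Q.D χ * vA (Q.c χ) (Q.D χ) * vA (Q.c χ) (Q.D χ) : ℤ) : ℚ) /
      ((deg (χ : G → ℂ) : ℤ) : ℚ) = 4 * Z := by
    rw [hterm (fun v e => e * vA v e * vA v e) 4 (fun e => by simp only [vA, vB]; ring)]
    norm_num
  have r4 : ∑ χ ∈ R, ((Q.D χ * vB (Q.c χ) (Q.D χ) * vB (Q.c χ) (Q.D χ) : ℤ) : ℚ) /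
      ((deg (χ : G → ℂ) : ℤ) : ℚ) = 4 * Z := by
    rw [hterm (fun v e => e * vB v e * vB v e) 4 (fun e => by simp only [vA, vB]; ring)]
    norm_num
  have r5 : ∑ χ ∈ R, ((Q.D χ * vA (Q.c χ) (Q.D χ) * vB (Q.c χ) (Q.D χ) : ℤ) : ℚ) /
      ((deg (χ : G → ℂ) : ℤ) : ℚ) = 4 * Z := by
    rw [hterm (fun v e => e * vA v e * vB v e) 4 (fun e => by simp only [vA, vB]; ring)]
    norm_num
  have r6 : ∑ χ ∈ R, ((vA (Q.c χ) (Q.D χ) * Q.D χ * Q.D χ : ℤ) : ℚ) /
      ((deg (χ : G → ℂ) : ℤ) : ℚ) = -2 * Z := by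
    rw [hterm (fun v e => vA v e * e * e) (-2) (fun e => by simp only [vA, vB]; ring)]
    norm_num
  have r7 : ∑ χ ∈ R, ((vB (Q.c χ) (Q.D χ) * Q.D χ * Q.D χ : ℤ) : ℚ) /
      ((deg (χ : G → ℂ) : ℤ) : ℚ) = -2 * Z := by
    rw [hterm (fun v e => vB v e * e * e) (-2) (fun e => by simp only [vA, vB]; ring)]
    norm_num
  have z0 : ∀ f : IrrCharacter G → ℤ,
      ∑ χ ∈ R, f χ * (Q.c χ).1 = 0 ∧ ∑ χ ∈ R, f χ * (Q.c χ).2.1 = 0 ∧
      ∑ χ ∈ R, f χ * (Q.c χ).2.2.1 = 0 ∧ ∑ χ ∈ R, f χ * (Q.c χ).2.2.2 = 0 := fun f => by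
    refine ⟨?_, ?_, ?_, ?_⟩ <;> exact Finset.sum_eq_zero fun χ hχ => by rw [hR0 χ hχ]; simp
  have d0 := Q.deg0; have d1 := Q.deg1; have d2 := Q.deg2; have d3 := Q.deg3; have dD := Q.degD
  have c0 := Q.cD0; have c1 := Q.cD1; have c2 := Q.cD2; have c3 := Q.cD3; have cD := Q.DD
  have E1 := Q.coefAAB; have E2 := Q.coefBBA; have E3 := Q.coefAAD; have E4 := Q.coefBBD
  have E5 := Q.coefABD; have E6 := Q.coefDDA; have E7 := Q.coefDDB
  rw [hsplit] at d0 d1 d2 d3 dD c0 c1 c2 c3 cD E1 E2 E3 E4 E5 E6 E7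
  rw [r1] at E1; rw [r2] at E2; rw [r3] at E3; rw [r4] at E4; rw [r5] at E5; rw [r6] at E6; rw [r7] at E7
  rw [(z0 _).1] at d0 c0
  rw [(z0 _).2.1] at d1 c1
  rw [(z0 _).2.2.1] at d2 c2
  rw [(z0 _).2.2.2] at d3 c3
  rw [← hW] at dD
  rw [← hQ2] at cD
  rw [hone, deg_one] at d0 d1 d2 d3
  rw [hone, hone'] at c0 c1 c2 c3
  rw [hone', deg_one] at dD
  rw [hone'] at cD
  rw [hone, hone', deg_one] at E1 E2 E3 E4 E5 E6 E7
  have key : ∀ i ∈ li, ∀ {t : Vec}, canOf (Q.c i) = t → _ := fun i _ {t} ht => klein_terms Q i ht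
  have hn : (0 : ℚ) < (Nat.card G : ℚ) := Nat.cast_pos.2 Nat.card_pos
  generalize hN : (Nat.card G : ℚ) = n at E1 E2 E3 E4 E5 E6 E7 hn
  have fAAB : ∀ σ v e, σ = 1 ∨ σ = -1 → (fun v e => vB v e * vA v e * vA v e) (σ • v) (σ * e) =
      σ * (fun v e => vB v e * vA v e * vA v e) v e := fun σ v e h => by
    obtain ⟨a, b, c⟩ := cubic_smul σ v e h
    simp only [a, b]; linear_combination (σ * (vB v e * vA v e * vA v e)) * c
  have fBBA : ∀ σ v e, σ = 1 ∨ σ = -1 → (fun v e => vA v e * vB v e * vB v e) (σ • v) (σ * e) =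
      σ * (fun v e => vA v e * vB v e * vB v e) v e := fun σ v e h => by
    obtain ⟨a, b, c⟩ := cubic_smul σ v e h
    simp only [a, b]; linear_combination (σ * (vA v e * vB v e * vB v e)) * c
  have fAAD : ∀ σ v e, σ = 1 ∨ σ = -1 → (fun v e => e * vA v e * vA v e) (σ • v) (σ * e) =
      σ * (fun v e => e * vA v e * vA v e) v e := fun σ v e h => by
    obtain ⟨a, b, c⟩ := cubic_smul σ v e h
    simp only [a, b]; linear_combination (σ * (e * vA v e * vA v e)) * c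
  have fBBD : ∀ σ v e, σ = 1 ∨ σ = -1 → (fun v e => e * vB v e * vB v e) (σ • v) (σ * e) =
      σ * (fun v e => e * vB v e * vB v e) v e := fun σ v e h => by
    obtain ⟨a, b, c⟩ := cubic_smul σ v e h
    simp only [a, b]; linear_combination (σ * (e * vB v e * vB v e)) * c
  have fABD : ∀ σ v e, σ = 1 ∨ σ = -1 → (fun v e => e * vA v e * vB v e) (σ • v) (σ * e) =
      σ * (fun v e => e * vA v e * vB v e) v e := fun σ v e h => by
    obtain ⟨a, b, c⟩ := cubic_smul σ v e h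
    simp only [a, b]; linear_combination (σ * (e * vA v e * vB v e)) * c
  have fDDA : ∀ σ v e, σ = 1 ∨ σ = -1 → (fun v e => vA v e * e * e) (σ • v) (σ * e) =
      σ * (fun v e => vA v e * e * e) v e := fun σ v e h => by
    obtain ⟨a, b, c⟩ := cubic_smul σ v e h
    simp only [a]; linear_combination (σ * (vA v e * e * e)) * c
  have fDDB : ∀ σ v e, σ = 1 ∨ σ = -1 → (fun v e => vB v e * e * e) (σ • v) (σ * e) =
      σ * (fun v e => vB v e * e * e) v e := fun σ v e h => by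
    obtain ⟨a, b, c⟩ := cubic_smul σ v e h
    simp only [b]; linear_combination (σ * (vB v e * e * e)) * c
  simp only [confKlein, List.mem_cons, List.not_mem_nil, or_false] at hl
  rcases hl with rfl | rfl | rfl
  · simp only [List.map_eq_cons_iff, List.map_eq_nil_iff] at hmap
    obtain ⟨i1, _, rfl, t1, i2, _, rfl, t2, i3, _, rfl, t3, i4, _, rfl, t4, i5, _, rfl, t5, i6, _, rfl, t6,
      i7, _, rfl, t7, rfl⟩ := hmap
    obtain ⟨a1, δ1, -, -, u10, u11, u12, u13, u14, w10, w11, w12, w13, w14, f1⟩ := key i1 (by simp) t1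
    obtain ⟨a2, δ2, s2, e2, u20, u21, u22, u23, u24, w20, w21, w22, w23, w24, f2⟩ := key i2 (by simp) t2
    obtain ⟨a3, δ3, s3, e3, u30, u31, u32, u33, u34, w30, w31, w32, w33, w34, f3⟩ := key i3 (by simp) t3
    obtain ⟨a4, δ4, s4, -, u40, u41, u42, u43, u44, w40, w41, w42, w43, w44, f4⟩ := key i4 (by simp) t4
    obtain ⟨a5, δ5, s5, -, u50, u51, u52, u53, u54, w50, w51, w52, w53, w54, f5⟩ := key i5 (by simp) t5
    obtain ⟨a6, δ6, s6, -, u60, u61, u62, u63, u64, w60, w61, w62, w63, w64, f6⟩ := key i6 (by simp) t6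
    obtain ⟨a7, δ7, s7, -, u70, u71, u72, u73, u74, w70, w71, w72, w73, w74, f7⟩ := key i7 (by simp) t7
    simp only [List.map_cons, List.map_nil, List.sum_cons, List.sum_nil,
      w10, w11, w12, w13, w14, w20, w21, w22, w23, w24, w30, w31, w32, w33, w34, w40, w41, w42, w43, w44,
      w50, w51, w52, w53, w54, w60, w61, w62, w63, w64, w70, w71, w72, w73, w74] at d0 d1 d2 d3 dD
    simp only [List.map_cons, List.map_nil, List.sum_cons, List.sum_nil,
      u10, u11, u12, u13, u14, u20, u21, u22, u23, u24, u30, u31, u32, u33, u34, u40, u41, u42, u43, u44,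
      u50, u51, u52, u53, u54, u60, u61, u62, u63, u64, u70, u71, u72, u73, u74] at c0 c1 c2 c3 cD
    simp only [List.map_cons, List.map_nil, List.sum_cons, List.sum_nil,
      f1 (fun v e => vB v e * vA v e * vA v e) fAAB, f2 (fun v e => vB v e * vA v e * vA v e) fAAB,
      f3 (fun v e => vB v e * vA v e * vA v e) fAAB, f4 (fun v e => vB v e * vA v e * vA v e) fAAB,
      f5 (fun v e => vB v e * vA v e * vA v e) fAAB, f6 (fun v e => vB v e * vA v e * vA v e) fAAB,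
      f7 (fun v e => vB v e * vA v e * vA v e) fAAB] at E1
    simp only [List.map_cons, List.map_nil, List.sum_cons, List.sum_nil,
      f1 (fun v e => vA v e * vB v e * vB v e) fBBA, f2 (fun v e => vA v e * vB v e * vB v e) fBBA,
      f3 (fun v e => vA v e * vB v e * vB v e) fBBA, f4 (fun v e => vA v e * vB v e * vB v e) fBBA,
      f5 (fun v e => vA v e * vB v e * vB v e) fBBA, f6 (fun v e => vA v e * vB v e * vB v e) fBBA,
      f7 (fun v e => vA v e * vB v e * vB v e) fBBA] at E2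
    simp only [List.map_cons, List.map_nil, List.sum_cons, List.sum_nil,
      f1 (fun v e => e * vA v e * vA v e) fAAD, f2 (fun v e => e * vA v e * vA v e) fAAD,
      f3 (fun v e => e * vA v e * vA v e) fAAD, f4 (fun v e => e * vA v e * vA v e) fAAD,
      f5 (fun v e => e * vA v e * vA v e) fAAD, f6 (fun v e => e * vA v e * vA v e) fAAD,
      f7 (fun v e => e * vA v e * vA v e) fAAD] at E3
    simp only [List.map_cons, List.map_nil, List.sum_cons, List.sum_nil,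
      f1 (fun v e => e * vB v e * vB v e) fBBD, f2 (fun v e => e * vB v e * vB v e) fBBD,
      f3 (fun v e => e * vB v e * vB v e) fBBD, f4 (fun v e => e * vB v e * vB v e) fBBD,
      f5 (fun v e => e * vB v e * vB v e) fBBD, f6 (fun v e => e * vB v e * vB v e) fBBD,
      f7 (fun v e => e * vB v e * vB v e) fBBD] at E4
    simp only [List.map_cons, List.map_nil, List.sum_cons, List.sum_nil,
      f1 (fun v e => e * vA v e * vB v e) fABD, f2 (fun v e => e * vA v e * vB v e) fABD,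
      f3 (fun v e => e * vA v e * vB v e) fABD, f4 (fun v e => e * vA v e * vB v e) fABD,
      f5 (fun v e => e * vA v e * vB v e) fABD, f6 (fun v e => e * vA v e * vB v e) fABD,
      f7 (fun v e => e * vA v e * vB v e) fABD] at E5
    simp only [List.map_cons, List.map_nil, List.sum_cons, List.sum_nil,
      f1 (fun v e => vA v e * e * e) fDDA, f2 (fun v e => vA v e * e * e) fDDA,
      f3 (fun v e => vA v e * e * e) fDDA, f4 (fun v e => vA v e * e * e) fDDA,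
      f5 (fun v e => vA v e * e * e) fDDA, f6 (fun v e => vA v e * e * e) fDDA,
      f7 (fun v e => vA v e * e * e) fDDA] at E6
    simp only [List.map_cons, List.map_nil, List.sum_cons, List.sum_nil,
      f1 (fun v e => vB v e * e * e) fDDB, f2 (fun v e => vB v e * e * e) fDDB,
      f3 (fun v e => vB v e * e * e) fDDB, f4 (fun v e => vB v e * e * e) fDDB,
      f5 (fun v e => vB v e * e * e) fDDB, f6 (fun v e => vB v e * e * e) fDDB,
      f7 (fun v e => vB v e * e * e) fDDB] at E7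
    rcases klein_first (a := a1) (b := a2) (c := a3) (d4 := a4) (d5 := a5) (d6 := a6) (d7 := a7) hQ20
      (by linarith) (by linarith) (by linarith) (by linarith) (by linarith) with
      ⟨rfl, rfl, rfl, rfl, rfl, rfl, rfl, hq⟩ | ⟨rfl, rfl, rfl, rfl, rfl, rfl, rfl, hq⟩ |
      ⟨rfl, rfl, rfl, rfl, rfl, rfl, rfl, hq⟩ | ⟨rfl, rfl, rfl, rfl, rfl, rfl, rfl, hq⟩
    all_goals
      simp only [vA, vB] at E1 E2 E3 E4 E5 E6 E7
      norm_num [mul_add] at E1 E2 E3 E4 E5 E6 E7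
    iterate 3
      · have hz : n * Z = 0 := by rw [hZ0 hq, mul_zero]
        ring_nf at E1 E2 E3 E4 E5 E6 E7 hz
        exfalso; linarith
    have y45 : n * (δ4 : ℚ)⁻¹ + n * (δ5 : ℚ)⁻¹ = -36 := by linarith
    have y67 : n * (δ6 : ℚ)⁻¹ + n * (δ7 : ℚ)⁻¹ = -36 := by linarith
    have y8 : n * Z = 9 := by linarith
    have y123 : n + n * (δ1 : ℚ)⁻¹ + n * (δ2 : ℚ)⁻¹ + n * (δ3 : ℚ)⁻¹ = 144 := by linarith
    have hdne : ∀ {i : IrrCharacter G} {σ δ : ℤ}, σ = 1 ∨ σ = -1 → δ = σ * (deg (i : G → ℂ) : ℤ) →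
        (δ : ℚ) ≠ 0 := fun {i σ δ} hσ h => by
      have := deg_pos i.2
      exact_mod_cast show δ ≠ 0 by rcases hσ with rfl | rfl <;> omega
    have n4 := hdne (sgnOf_cases _) s4; have n5 := hdne (sgnOf_cases _) s5
    have n6 := hdne (sgnOf_cases _) s6; have n7 := hdne (sgnOf_cases _) s7
    have n2 := hdne (sgnOf_cases _) s2
    have hWq := hWZ hq
    have L45 : W = -(δ4 + δ5) := by linarith
    have L67 : W = -(δ6 + δ7) := by linarith
    have e45 : δ4 = δ5 := by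
      have h45 : ((δ4 : ℚ) + δ5) * ((δ4 : ℚ)⁻¹ + (δ5 : ℚ)⁻¹) = 4 := by
        have hW' : (W : ℚ) = -((δ4 : ℚ) + δ5) := by exact_mod_cast L45
        refine mul_left_cancel₀ hn.ne' ?_
        rw [hW'] at hWq
        linear_combination ((δ4 : ℚ) + δ5) * y45 + (4 * n) * hWq + (4 * ((δ4 : ℚ) + δ5)) * y8
      field_simp at h45
      have : ((δ4 : ℚ) - δ5) ^ 2 = 0 := by linarith
      exact_mod_cast sub_eq_zero.1 ((pow_eq_zero_iff two_ne_zero).1 this)
    have e67 : δ6 = δ7 := by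
      have h67 : ((δ6 : ℚ) + δ7) * ((δ6 : ℚ)⁻¹ + (δ7 : ℚ)⁻¹) = 4 := by
        have hW' : (W : ℚ) = -((δ6 : ℚ) + δ7) := by exact_mod_cast L67
        refine mul_left_cancel₀ hn.ne' ?_
        rw [hW'] at hWq
        linear_combination ((δ6 : ℚ) + δ7) * y67 + (4 * n) * hWq + (4 * ((δ6 : ℚ) + δ7)) * y8
      field_simp at h67
      have : ((δ6 : ℚ) - δ7) ^ 2 = 0 := by linarith
      exact_mod_cast sub_eq_zero.1 ((pow_eq_zero_iff two_ne_zero).1 this)
    have e1' : δ1 = 1 := by linarith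
    have e23 : δ3 = δ2 := by linarith
    have eW : W = 2 + 2 * δ2 := by linarith
    rw [e1', e23] at y123
    have e2' : δ2 = 1 := by
      have h2 : ((2 : ℚ) + 2 * δ2) * (2 + 2 * (δ2 : ℚ)⁻¹) = 16 := by
        have hW' : (W : ℚ) = 2 + 2 * (δ2 : ℚ) := by exact_mod_cast eW
        refine mul_left_cancel₀ hn.ne' ?_
        rw [hW'] at hWq
        push_cast at y123
        linear_combination ((2 : ℚ) + 2 * δ2) * y123 + (16 * n) * hWq + (-16 * ((2 : ℚ) + 2 * δ2)) * y8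
      field_simp at h2
      have : ((δ2 : ℚ) - 1) ^ 2 = 0 := by linarith
      exact_mod_cast sub_eq_zero.1 ((pow_eq_zero_iff two_ne_zero).1 this)
    have hdeg : ∀ {i : IrrCharacter G} {σ : ℤ}, σ = 1 ∨ σ = -1 → (1 : ℤ) = σ * (deg (i : G → ℂ) : ℤ) →
        σ = 1 ∧ (i : G → ℂ) 1 = 1 := fun {i σ} hσ h => by
      have := deg_pos i.2
      have hσ1 : σ = 1 ∧ (deg (i : G → ℂ) : ℤ) = 1 := by rcases hσ with rfl | rfl <;> omega
      refine ⟨hσ1.1, ?_⟩
      rw [value_one, hσ1.2, Int.cast_one]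
    obtain ⟨g2, q2⟩ := hdeg (sgnOf_cases _) (by rw [← s2, e2'])
    obtain ⟨g3, q3⟩ := hdeg (sgnOf_cases _) (by rw [← s3, e23, e2'])
    have v2 := vec_eq t2
    have v3 := vec_eq t3
    simp only [g2, one_mul] at v2
    simp only [g3, one_mul] at v3
    exact ⟨i2, i3, q2, q3, by rw [Q.valh1, v2]; norm_num, by rw [Q.valh2, v2]; norm_num,
      by rw [Q.valh1, v3]; norm_num, by rw [Q.valh2, v3]; norm_num⟩
  all_goals
    simp only [List.map_eq_cons_iff, List.map_eq_nil_iff] at hmap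
    obtain ⟨i1, _, rfl, t1, i2, _, rfl, t2, i3, _, rfl, t3, i4, _, rfl, t4, i5, _, rfl, t5, i6, _, rfl, t6,
      rfl⟩ := hmap
    obtain ⟨a1, δ1, -, -, u10, u11, u12, u13, u14, -, -, -, -, -, f1⟩ := key i1 (by simp) t1
    obtain ⟨a2, δ2, -, -, u20, u21, u22, u23, u24, -, -, -, -, -, f2⟩ := key i2 (by simp) t2
    obtain ⟨a3, δ3, -, -, u30, u31, u32, u33, u34, -, -, -, -, -, f3⟩ := key i3 (by simp) t3
    obtain ⟨a4, δ4, -, -, u40, u41, u42, u43, u44, -, -, -, -, -, f4⟩ := key i4 (by simp) t4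
    obtain ⟨a5, δ5, -, -, u50, u51, u52, u53, u54, -, -, -, -, -, f5⟩ := key i5 (by simp) t5
    obtain ⟨a6, δ6, -, -, u60, u61, u62, u63, u64, -, -, -, -, -, f6⟩ := key i6 (by simp) t6
    simp only [List.map_cons, List.map_nil, List.sum_cons, List.sum_nil,
      u10, u11, u12, u13, u14, u20, u21, u22, u23, u24, u30, u31, u32, u33, u34, u40, u41, u42, u43, u44,
      u50, u51, u52, u53, u54, u60, u61, u62, u63, u64] at c0 c1 c2 c3 cD
    simp only [List.map_cons, List.map_nil, List.sum_cons, List.sum_nil,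
      f1 (fun v e => vB v e * vA v e * vA v e) fAAB, f2 (fun v e => vB v e * vA v e * vA v e) fAAB,
      f3 (fun v e => vB v e * vA v e * vA v e) fAAB, f4 (fun v e => vB v e * vA v e * vA v e) fAAB,
      f5 (fun v e => vB v e * vA v e * vA v e) fAAB, f6 (fun v e => vB v e * vA v e * vA v e) fAAB] at E1
    simp only [List.map_cons, List.map_nil, List.sum_cons, List.sum_nil,
      f1 (fun v e => vA v e * vB v e * vB v e) fBBA, f2 (fun v e => vA v e * vB v e * vB v e) fBBA,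
      f3 (fun v e => vA v e * vB v e * vB v e) fBBA, f4 (fun v e => vA v e * vB v e * vB v e) fBBA,
      f5 (fun v e => vA v e * vB v e * vB v e) fBBA, f6 (fun v e => vA v e * vB v e * vB v e) fBBA] at E2
    simp only [List.map_cons, List.map_nil, List.sum_cons, List.sum_nil,
      f1 (fun v e => e * vA v e * vA v e) fAAD, f2 (fun v e => e * vA v e * vA v e) fAAD,
      f3 (fun v e => e * vA v e * vA v e) fAAD, f4 (fun v e => e * vA v e * vA v e) fAAD,
      f5 (fun v e => e * vA v e * vA v e) fAAD, f6 (fun v e => e * vA v e * vA v e) fAAD] at E3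
    simp only [List.map_cons, List.map_nil, List.sum_cons, List.sum_nil,
      f1 (fun v e => e * vB v e * vB v e) fBBD, f2 (fun v e => e * vB v e * vB v e) fBBD,
      f3 (fun v e => e * vB v e * vB v e) fBBD, f4 (fun v e => e * vB v e * vB v e) fBBD,
      f5 (fun v e => e * vB v e * vB v e) fBBD, f6 (fun v e => e * vB v e * vB v e) fBBD] at E4
    simp only [List.map_cons, List.map_nil, List.sum_cons, List.sum_nil,
      f1 (fun v e => e * vA v e * vB v e) fABD, f2 (fun v e => e * vA v e * vB v e) fABD,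
      f3 (fun v e => e * vA v e * vB v e) fABD, f4 (fun v e => e * vA v e * vB v e) fABD,
      f5 (fun v e => e * vA v e * vB v e) fABD, f6 (fun v e => e * vA v e * vB v e) fABD] at E5
    simp only [List.map_cons, List.map_nil, List.sum_cons, List.sum_nil,
      f1 (fun v e => vA v e * e * e) fDDA, f2 (fun v e => vA v e * e * e) fDDA,
      f3 (fun v e => vA v e * e * e) fDDA, f4 (fun v e => vA v e * e * e) fDDA,
      f5 (fun v e => vA v e * e * e) fDDA, f6 (fun v e => vA v e * e * e) fDDA] at E6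
    simp only [List.map_cons, List.map_nil, List.sum_cons, List.sum_nil,
      f1 (fun v e => vB v e * e * e) fDDB, f2 (fun v e => vB v e * e * e) fDDB,
      f3 (fun v e => vB v e * e * e) fDDB, f4 (fun v e => vB v e * e * e) fDDB,
      f5 (fun v e => vB v e * e * e) fDDB, f6 (fun v e => vB v e * e * e) fDDB] at E7
    have hsys : (a1 + a3 = 2 ∧ a1 + a2 - a3 = 3 ∧ a2 + a6 = 2 ∧ a1 + a4 + a5 = 3) ∨
        (a1 + a2 = 2 ∧ a1 + a3 - a2 = 3 ∧ a3 + a6 = 2 ∧ a1 + a4 + a5 = 3) := by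
      first
        | (left; refine ⟨?_, ?_, ?_, ?_⟩ <;> linarith)
        | (right; refine ⟨?_, ?_, ?_, ?_⟩ <;> linarith)
    rcases hsys with ⟨g0, g1, g2, g3⟩ | ⟨g0, g1, g2, g3⟩
    · obtain ⟨rfl, rfl, rfl, ⟨rfl, rfl⟩ | ⟨rfl, rfl⟩, rfl⟩ :=
        klein_second (a := a1) (b := a2) (c := a3) (d4 := a4) (d5 := a5) (d6 := a6) hQ20 g0 g1 g2 g3
          (by linarith)
      all_goals
        simp only [vA, vB] at E1 E2 E3 E4 E5 E6 E7
        norm_num [mul_add] at E1 E2 E3 E4 E5 E6 E7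
        ring_nf at E1 E2 E3 E4 E5 E6 E7
        exfalso; linarith
    · obtain ⟨rfl, rfl, rfl, ⟨rfl, rfl⟩ | ⟨rfl, rfl⟩, rfl⟩ :=
        klein_second (a := a1) (b := a3) (c := a2) (d4 := a4) (d5 := a5) (d6 := a6) hQ20 g0 g1 g2 g3
          (by linarith)
      all_goals
        simp only [vA, vB] at E1 E2 E3 E4 E5 E6 E7
        norm_num [mul_add] at E1 E2 E3 E4 E5 E6 E7
        ring_nf at E1 E2 E3 E4 E5 E6 E7
        exfalso; linarith

theorem neg_add_neg_pl : ∀ v : Pl, -v + -v = v := by decide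

/-- The plane is normal. -/
theorem Kl.normal (K : Kl X) (P : Sylow 3 G) (hP : (P : Subgroup G) = X.S)
    (hcent : Subgroup.centralizer (X.S : Set G) = X.S) :
    Subgroup.normalizer (X.S : Set G) = ⊤ := by
  classical
  haveI : Fact (Nat.Prime 3) := ⟨Nat.prime_three⟩
  obtain ⟨i, j, hi1, hj1, hiA, hiB, hjA, hjB⟩ := K.exists_linear
  obtain ⟨li, hli⟩ := exists_hom_of_degree_one (irr_isCharacter i.2) hi1
  obtain ⟨lj, hlj⟩ := exists_hom_of_degree_one (irr_isCharacter j.2) hj1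
  have hS : X.S ≤ commutator G := by
    intro g hg
    obtain ⟨v, rfl⟩ := (X.mem_iff g).1 hg
    have h := Subgroup.commutator_mem_commutator (Subgroup.mem_top (K.r1 * K.r2)) (Subgroup.mem_top (X.e v))
    rw [commutatorElement_def, K.r12_act, ← X.e_neg, ← X.e_add,
      neg_add_neg_pl v] at h
    rw [commutator_def]
    exact h
  have hker : ∀ (l : G →* ℂˣ) (v : Pl), l (X.e v) = 1 := fun l v =>
    MonoidHom.mem_ker.1 (Abelianization.commutator_subset_ker l (hS (X.e_mem v)))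
  have hval : ∀ (χ : IrrCharacter G) (l : G →* ℂˣ), (∀ g, (χ : G → ℂ) g = (l g : ℂ)) → ∀ v r,
      (l r : ℂ) = (χ : G → ℂ) (X.e v * r) := fun χ l h v r => by
    rw [h, map_mul, hker l v, one_mul]
  have hir1 : (li K.r1 : ℂ) = -1 := (hval i li (fun g => congrFun hli g) _ _).trans hiA
  have hir2 : (li K.r2 : ℂ) = 1 := (hval i li (fun g => congrFun hli g) _ _).trans hiB
  have hjr1 : (lj K.r1 : ℂ) = 1 := (hval j lj (fun g => congrFun hlj g) _ _).trans hjA
  have hjr2 : (lj K.r2 : ℂ) = -1 := (hval j lj (fun g => congrFun hlj g) _ _).trans hjB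
  set D := commutator G with hD
  have hDN : ∀ g ∈ D, g ∈ Subgroup.normalizer (X.S : Set G) → g ∈ X.S := by
    intro g hgD hgN
    have k1 : (li g : ℂ) = 1 := by
      rw [MonoidHom.mem_ker.1 (Abelianization.commutator_subset_ker li hgD), Units.val_one]
    have k2 : (lj g : ℂ) = 1 := by
      rw [MonoidHom.mem_ker.1 (Abelianization.commutator_subset_ker lj hgD), Units.val_one]
    obtain ⟨w, rfl | rfl | rfl | rfl⟩ := K.cover g hgN
    · exact X.e_mem w
    · rw [map_mul, hker li, one_mul, hir1] at k1; norm_num at k1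
    · rw [map_mul, hker lj, one_mul, hjr2] at k2; norm_num at k2
    · rw [map_mul, map_mul, hker li, one_mul, Units.val_mul, hir1, hir2] at k1; norm_num at k1
  set T : Subgroup D := X.S.subgroupOf D with hT
  have hPD : (P : Subgroup G) ≤ D := hP.le.trans hS
  obtain ⟨P', hPe⟩ : ∃ P' : Sylow 3 D, (P' : Subgroup D) = T :=
    ⟨P.subtype hPD, by rw [Sylow.coe_subtype, hT, hP]⟩
  have hPC : Subgroup.normalizer (P' : Set D) ≤ Subgroup.centralizer (P' : Set D) := by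
    show Subgroup.normalizer ((P' : Subgroup D) : Set D) ≤ Subgroup.centralizer ((P' : Subgroup D) : Set D)
    rw [hPe]
    intro g hg
    have hgN : (g : G) ∈ Subgroup.normalizer (X.S : Set G) := by
      refine Subgroup.mem_normalizer_fintype fun n hn => ?_
      exact (Subgroup.mem_normalizer_iff.1 hg ⟨n, hS hn⟩).1 hn
    rw [Subgroup.mem_centralizer_iff]
    intro n hn
    obtain ⟨a, ha⟩ := (X.mem_iff _).1 (hDN g g.2 hgN)
    obtain ⟨b, hb⟩ := (X.mem_iff _).1 (show (n : G) ∈ X.S from hn)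
    exact Subtype.ext (by rw [Subgroup.coe_mul, Subgroup.coe_mul, ← ha, ← hb, X.e_comm])
  obtain ⟨K0, hK0n, hcompl, hco⟩ : ∃ K0 : Subgroup D, K0.Normal ∧
      Subgroup.IsComplement' K0 T ∧ ¬ 3 ∣ Nat.card K0 :=
    ⟨_, MonoidHom.normal_ker _, hPe ▸ MonoidHom.ker_transferSylow_isComplement' P' hPC,
      MonoidHom.not_dvd_card_ker_transferSylow P' hPC⟩
  have hbot : K0.map D.subtype = ⊥ := by
    refine core_trivial hcent ?_ ?_
    · intro g hg
      refine Subgroup.mem_normalizer_fintype fun n hn => ?_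
      obtain ⟨m, hm, rfl⟩ := hn
      exact ⟨⟨g, hS hg⟩ * m * ⟨g, hS hg⟩⁻¹, hK0n.conj_mem m hm _, by simp⟩
    · rwa [Nat.card_congr (K0.equivMapOfInjective _ D.subtype_injective).symm.toEquiv]
  rw [Subgroup.map_eq_bot_iff_of_injective _ D.subtype_injective] at hbot
  rw [hbot] at hcompl
  have htop : T = ⊤ := Subgroup.isComplement'_bot_left.1 hcompl
  have hle : D ≤ X.S := fun g hg => by
    have : (⟨g, hg⟩ : D) ∈ T := htop ▸ Subgroup.mem_top _
    exact this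
  have hSD : X.S = D := le_antisymm hS hle
  haveI : X.S.Normal := hSD ▸ (inferInstance : (commutator G).Normal)
  exact Subgroup.normalizer_eq_top X.S

end Cfsg.Agent.Solv.ThreeLocal
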